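import Groth.Agent.Lib.Excellent.Nagata
import Groth.Agent.Lib.Adic.Complete
import Mathlib.FieldTheory.PurelyInseparable.Exponent
import Mathlib.FieldTheory.Normal.Closure
import Mathlib.FieldTheory.Galois.Basic
import Mathlib.FieldTheory.IsAlgClosed.AlgebraicClosure
import Mathlib.RingTheory.DedekindDomain.IntegralClosure

/-!
# Tate's lemma

A normal Noetherian domain `R`, complete for a principal prime ideal `(x)` with `R/(x)` Japanese, is
Japanese.
-/

set_option linter.style.haveILetI false

universe u

open scoped nonZeroDivisors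

namespace Groth.Agent.Lib.Cohen.Tate

/-- An integral domain extension with boundedly many independent elements of a Japanese domain is
finite. -/
theorem finite_of_card_le {A : Type u} [CommRing A] [IsDomain A] [IsNoetherianRing A]
    (h2 : CAlg.IsN2 A) (M : Type u) [CommRing M] [IsDomain M] [Algebra A M] [FaithfulSMul A M]
    [Algebra.IsIntegral A M] (n : ℕ)
    (hbound : ∀ s : Finset M, LinearIndependent A (fun i : s => (i : M)) → s.card ≤ n) :
    Module.Finite A M := by
  classical
  let κ := FractionRing A
  let E := FractionRing M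
  haveI : FaithfulSMul A E := (faithfulSMul_iff_algebraMap_injective A E).2 <| by
    rw [IsScalarTower.algebraMap_eq A M E]
    exact (IsFractionRing.injective M E).comp (FaithfulSMul.algebraMap_injective A M)
  letI : Algebra κ E := FractionRing.liftAlgebra A E
  haveI : FiniteDimensional κ E := by
    have hb : Module.rank κ E ≤ (n : ℕ) := by
      refine rank_le fun s hs => ?_
      have hden : ∀ z : E, ∃ d : A, d ≠ 0 ∧ ∃ m : M, d • z = algebraMap M E m := by
        intro z
        obtain ⟨a, b, hb, rfl⟩ := IsFractionRing.div_surjective M z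
        obtain ⟨d, hd0, c, hc⟩ :=
          ((Algebra.IsIntegral.isIntegral b).isAlgebraic (R := A)).exists_nonzero_dvd hb
        refine ⟨d, hd0, a * c, ?_⟩
        rw [Algebra.smul_def, IsScalarTower.algebraMap_apply A M E, hc, map_mul, map_mul]
        have : algebraMap M E b ≠ 0 :=
          (map_ne_zero_iff _ (IsFractionRing.injective M E)).2 (nonZeroDivisors.ne_zero hb)
        rw [mul_right_comm, mul_div_cancel₀ _ this]
      choose d hd0 m hm using hden
      have hsR : LinearIndependent A (fun z : s => (z : E)) :=
        (LinearIndependent.iff_fractionRing A κ).2 hs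
      have hm' : LinearIndependent A (fun z : s => m (z : E)) := by
        rw [Fintype.linearIndependent_iff]
        intro g hg i
        have h1 : ∑ z : s, (g z * d z) • (z : E) = 0 := by
          have := congrArg (algebraMap M E) hg
          rw [map_zero, map_sum] at this
          refine Eq.trans (Finset.sum_congr rfl fun z _ => ?_) this
          rw [mul_smul, hm, Algebra.smul_def, Algebra.smul_def, map_mul,
            ← IsScalarTower.algebraMap_apply]
        exact (mul_eq_zero.1 (Fintype.linearIndependent_iff.1 hsR _ h1 i)).resolve_right (hd0 _)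
      have hinj : Function.Injective fun z : s => m (z : E) := hm'.injective
      have hsub : LinearIndependent A
          (fun i : (Finset.univ.image fun z : s => m (z : E)) => (i : M)) := by
        have := hm'.linearIndepOn_id
        rw [LinearIndepOn] at this
        have h3 := this.comp (fun i : (Finset.univ.image fun z : s => m (z : E)) =>
            (⟨i.1, by
              obtain ⟨z, -, hz⟩ := Finset.mem_image.1 i.2
              exact ⟨z, hz⟩⟩ : Set.range fun z : s => m (z : E)))
          fun a b h => Subtype.ext (congrArg (fun w : Set.range fun z : s => m (z : E) => w.1) h)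
        convert h3
        rfl
      have hcard := hbound _ hsub
      rwa [Finset.card_image_of_injective _ hinj, Finset.card_univ, Fintype.card_coe] at hcard
    exact Module.rank_lt_aleph0_iff.1 (hb.trans_lt Cardinal.natCast_lt_aleph0)
  haveI := Groth.Agent.Lib.Excellent.Nagata.finite_integralClosure_of_isN2 h2 κ E
  let f : M →ₗ[A] integralClosure A E :=
    ((IsScalarTower.toAlgHom A M E).codRestrict (integralClosure A E) fun m =>
      (Algebra.IsIntegral.isIntegral (R := A) m).map (IsScalarTower.toAlgHom A M E)).toLinearMap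
  exact Module.Finite.of_injective f fun a b h =>
    IsFractionRing.injective M E (congrArg Subtype.val h)

/-- Finiteness climbs from `S ⧸ (Y)` to `S` when `Y ^ q` is an element of the ideal of completeness. -/
theorem finite_of_quotient {R : Type u} [CommRing R] (x : R)
    [IsPrecomplete (Ideal.span ({x} : Set R)) R] (S : Type u) [CommRing S] [Algebra R S]
    [IsHausdorff (Ideal.span ({x} : Set R)) S] (Y : S) (q : ℕ) (hY : Y ^ q = algebraMap R S x)
    (h : Module.Finite R (S ⧸ Ideal.span ({Y} : Set S))) : Module.Finite R S := by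
  classical
  set Q := Ideal.span ({Y} : Set S)
  obtain ⟨G, hG⟩ := Module.finite_def.1 h
  choose g hg using Ideal.Quotient.mk_surjective (I := Q)
  let N : Submodule R S :=
    Submodule.span R ((Finset.range q ×ˢ G).image fun i => Y ^ i.1 * g i.2 : Finset S)
  have hstep : ∀ j ≤ q, ∀ s : S, ∃ a ∈ N, Y ^ j ∣ s - a := by
    intro j hj
    induction j with
    | zero => exact fun s => ⟨0, zero_mem _, by simp⟩
    | succ j ih =>
      intro s
      obtain ⟨a, ha, t, ht⟩ := ih (by omega) s
      have htG : Ideal.Quotient.mk Q t ∈ Submodule.span R (G : Set (S ⧸ Q)) := hG ▸ Submodule.mem_top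
      obtain ⟨f, -, hf⟩ := Submodule.mem_span_finset.1 htG
      refine ⟨a + Y ^ j * ∑ m ∈ G, f m • g m, add_mem ha ?_, ?_⟩
      · rw [Finset.mul_sum]
        refine sum_mem fun m hm => ?_
        rw [mul_smul_comm]
        exact N.smul_mem _ (Submodule.subset_span (Finset.mem_image.2
          ⟨(j, m), Finset.mem_product.2 ⟨Finset.mem_range.2 (by omega), hm⟩, rfl⟩))
      · have hmem : t - ∑ m ∈ G, f m • g m ∈ Q := by
          refine (Ideal.Quotient.eq (I := Q)).1 (hf.symm.trans ?_)
          rw [map_sum]
          refine Finset.sum_congr rfl fun m _ => ?_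
          rw [← Ideal.Quotient.mkₐ_eq_mk R, map_smul, Ideal.Quotient.mkₐ_eq_mk, hg]
        rw [← sub_sub, ht, ← mul_sub, pow_succ]
        exact mul_dvd_mul_left _ (Ideal.mem_span_singleton.1 hmem)
  have htop : (⊤ : Submodule R S) = N := le_antisymm
    (Groth.Agent.Lib.Adic.Complete.le_of_le_sup_smul (I := Ideal.span ({x} : Set R))
      (Submodule.fg_span (Finset.finite_toSet _)) le_top fun s _ => by
        obtain ⟨a, ha, t, ht⟩ := hstep q le_rfl s
        refine Submodule.mem_sup.2 ⟨a, ha, s - a, ?_, by abel⟩
        rw [ht, hY, ← Algebra.smul_def]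
        exact Submodule.smul_mem_smul (Ideal.mem_span_singleton_self x) Submodule.mem_top) le_top
  exact ⟨htop ▸ Submodule.fg_span (Finset.finite_toSet _)⟩

/-- Elements independent modulo `(x)` are independent. -/
theorem linearIndependent_of_quotient {R : Type u} [CommRing R] (x : R)
    [IsHausdorff (Ideal.span ({x} : Set R)) R] (S : Type u) [CommRing S] [Algebra R S] [IsDomain S]
    (hx : algebraMap R S x ≠ 0) (Q : Ideal S) [Q.LiesOver (Ideal.span ({x} : Set R))]
    {ι : Type*} [Fintype ι] (l : ι → S)
    (hl : LinearIndependent (R ⧸ Ideal.span ({x} : Set R)) (fun i => Ideal.Quotient.mk Q (l i))) :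
    LinearIndependent R l := by
  set I := Ideal.span ({x} : Set R)
  rw [Fintype.linearIndependent_iff]
  intro g hg i
  have key : ∀ (n : ℕ) (g : ι → R), (∑ i, g i • l i) = 0 → ∀ i, g i ∈ I ^ n := by
    intro n
    induction n with
    | zero => simp
    | succ n ih =>
      intro g hg i
      have h1 : ∀ i, g i ∈ I := by
        intro i
        rw [← Ideal.Quotient.eq_zero_iff_mem]
        refine (Fintype.linearIndependent_iff.1 hl) (fun i => Ideal.Quotient.mk I (g i)) ?_ i
        have := congrArg (Ideal.Quotient.mk Q) hg
        rw [map_zero, map_sum] at this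
        refine Eq.trans (Finset.sum_congr rfl fun j _ => ?_) this
        rw [Algebra.smul_def, Algebra.smul_def, Ideal.Quotient.algebraMap_mk_of_liesOver, map_mul]
      choose c hc using fun i => Ideal.mem_span_singleton'.1 (h1 i)
      have : ∑ i, c i • l i = 0 := by
        have h2 : algebraMap R S x * ∑ i, c i • l i = 0 := by
          rw [← hg, Finset.mul_sum]
          refine Finset.sum_congr rfl fun j _ => ?_
          rw [← hc j, Algebra.smul_def, Algebra.smul_def, map_mul]
          ring
        exact (mul_eq_zero.1 h2).resolve_left hx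
      rw [← hc i, pow_succ]
      exact Ideal.mul_mem_mul (ih c this i) (Ideal.mem_span_singleton_self x)
  refine IsHausdorff.haus' (I := I) (g i) fun n => ?_
  rw [SModEq.sub_mem, sub_zero, smul_eq_mul, Ideal.mul_top]
  exact key n g hg i

variable {R : Type u} [CommRing R] [IsDomain R] [IsNoetherianRing R] [IsIntegrallyClosed R]
  {K L : Type u} [Field K] [Algebra R K] [IsFractionRing R K]
  [Field L] [Algebra R L] [Algebra K L] [IsScalarTower R K L]

omit [IsNoetherianRing R] in
/-- The key case: `L ^ q ⊆ K` and `x` is a `q`-th power in `L`. -/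
theorem finite_of_pow_mem [FiniteDimensional K L] (x : R) (hx0 : x ≠ 0)
    [hxp : (Ideal.span ({x} : Set R)).IsPrime]
    (h2 : CAlg.IsN2 (R ⧸ Ideal.span ({x} : Set R))) [IsNoetherianRing R]
    [IsAdicComplete (Ideal.span ({x} : Set R)) R]
    {q : ℕ} (hq : 0 < q) (hpow : ∀ z : L, ∃ k : K, algebraMap K L k = z ^ q)
    {y : L} (hy : y ^ q = algebraMap R L x) :
    Module.Finite R (integralClosure R L) := by
  classical
  set I := Ideal.span ({x} : Set R)
  let S := integralClosure R L
  have hinjL : Function.Injective (algebraMap R L) := by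
    rw [IsScalarTower.algebraMap_eq R K L]
    exact (algebraMap K L).injective.comp (IsFractionRing.injective R K)
  have hS : ∀ z : S, ∃ r : R, algebraMap R L r = (z : L) ^ q := by
    intro z
    obtain ⟨k, hk⟩ := hpow z
    have hki : IsIntegral R k := by
      refine (isIntegral_algHom_iff (IsScalarTower.toAlgHom R K L) (algebraMap K L).injective).1 ?_
      change IsIntegral R (algebraMap K L k)
      rw [hk]
      exact z.2.pow q
    obtain ⟨r, rfl⟩ := IsIntegrallyClosed.isIntegral_iff.1 hki
    exact ⟨r, by rw [← hk, ← IsScalarTower.algebraMap_apply]⟩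
  choose ρ hρ using hS
  have hρmul : ∀ a b : S, ρ (a * b) = ρ a * ρ b := fun a b => hinjL (by
    rw [map_mul, hρ, hρ, hρ, Subalgebra.coe_mul, mul_pow])
  have hρalg : ∀ r : R, ρ (algebraMap R S r) = r ^ q := fun r => hinjL (by
    rw [hρ, map_pow]; rfl)
  let Y : S := ⟨y, IsIntegral.of_pow hq (by rw [hy]; exact isIntegral_algebraMap)⟩
  have hρY : ρ Y = x := hinjL (by rw [hρ]; exact hy)
  have hYq : Y ^ q = algebraMap R S x := Subtype.ext hy
  have hy0 : y ≠ 0 := fun h => hx0 (hinjL (by rw [map_zero, ← hy, h, zero_pow hq.ne']))
  have hdiv : ∀ s : S, ρ s ∈ I → Y ∣ s := by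
    intro s hs
    obtain ⟨c, hc⟩ := Ideal.mem_span_singleton'.1 hs
    refine ⟨⟨(s : L) / y, IsIntegral.of_pow hq ?_⟩, Subtype.ext (mul_div_cancel₀ _ hy0).symm⟩
    rw [div_pow, ← hρ, ← hc, map_mul, hy, mul_div_assoc, div_self, mul_one]
    · exact isIntegral_algebraMap
    · exact fun h => hx0 (hinjL (by rw [h, map_zero]))
  have hdiv' : ∀ s : S, Y ∣ s → ρ s ∈ I := by
    rintro _ ⟨t, rfl⟩
    rw [hρmul, hρY]
    exact Ideal.mul_mem_right _ _ (Ideal.mem_span_singleton_self x)
  let Q : Ideal S := Ideal.span {Y}
  have hQ : ∀ s, s ∈ Q ↔ ρ s ∈ I := fun s => Ideal.mem_span_singleton.trans ⟨hdiv' s, hdiv s⟩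
  haveI : Q.IsPrime := by
    refine ⟨fun h => hxp.ne_top ((Ideal.eq_top_iff_one I).2 ?_), fun {a b} hab => ?_⟩
    · have h1 := (hQ 1).1 (h ▸ Submodule.mem_top)
      rwa [show (1 : S) = algebraMap R S 1 from (map_one _).symm, hρalg, one_pow] at h1
    · rw [hQ, hρmul] at hab
      exact (hxp.mem_or_mem hab).imp (hQ a).2 (hQ b).2
  have hover : Q.comap (algebraMap R S) = I := by
    ext r
    rw [Ideal.mem_comap, hQ, hρalg]
    exact ⟨hxp.mem_of_pow_mem _, fun h => Ideal.pow_mem_of_mem _ h _ hq⟩
  haveI : Q.LiesOver I := ⟨hover.symm⟩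
  let M := S ⧸ Q
  haveI : Algebra.IsIntegral R S :=
    ⟨fun s => (isIntegral_algHom_iff S.val Subtype.val_injective).1 s.2⟩
  haveI : FaithfulSMul (R ⧸ I) M := (faithfulSMul_iff_algebraMap_injective _ _).2 <| by
    rw [injective_iff_map_eq_zero]
    intro r hr
    obtain ⟨r, rfl⟩ := Ideal.Quotient.mk_surjective r
    rw [Ideal.Quotient.algebraMap_mk_of_liesOver, Ideal.Quotient.eq_zero_iff_mem] at hr
    rw [Ideal.Quotient.eq_zero_iff_mem, ← hover]
    exact hr
  haveI : Algebra.IsIntegral (R ⧸ I) M := Algebra.IsIntegral.tower_top R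
  haveI : IsDomain (R ⧸ I) := Ideal.Quotient.isDomain I
  haveI : IsDomain M := Ideal.Quotient.isDomain Q
  have hxS : algebraMap R S x ≠ 0 := fun h => hx0 (hinjL (by
    rw [map_zero]; exact congrArg Subtype.val h))
  haveI : Module.Finite (R ⧸ I) M := finite_of_card_le h2 M (Module.finrank K L) fun s hs => by
    choose l hl using fun i : s => Ideal.Quotient.mk_surjective (i : M)
    have h1 : LinearIndependent R l := linearIndependent_of_quotient x S hxS Q l (by
      rw [show (fun i => Ideal.Quotient.mk Q (l i)) = fun i : s => (i : M) from funext hl]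
      exact hs)
    have h3 : LinearIndependent R (fun i => (l i : L)) :=
      h1.map' S.val.toLinearMap (LinearMap.ker_eq_bot.2 Subtype.val_injective)
    have hK := (LinearIndependent.iff_fractionRing R K).1 h3
    exact (Fintype.card_coe s).symm.trans_le hK.fintype_card_le_finrank
  haveI : Module.Finite R M := Module.Finite.trans (R ⧸ I) M
  haveI : IsHausdorff I S := by
    refine ⟨fun z hz => ?_⟩
    have hz' : ρ z = 0 := by
      refine IsHausdorff.haus' (I := I) (ρ z) fun n => ?_
      have := hz n
      rw [SModEq.sub_mem, sub_zero] at this ⊢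
      rw [Ideal.span_singleton_pow, Submodule.ideal_span_singleton_smul] at this
      obtain ⟨w, -, rfl⟩ := Submodule.mem_smul_pointwise_iff_exists _ _ _ |>.1 this
      rw [smul_eq_mul, Ideal.mul_top, Algebra.smul_def, hρmul, hρalg, Ideal.span_singleton_pow,
        Ideal.mem_span_singleton]
      exact (dvd_pow_self _ hq.ne').trans (dvd_mul_right _ _)
    refine Subtype.ext (eq_zero_of_pow_eq_zero (n := q) ?_)
    rw [← hρ, hz', map_zero]
  exact finite_of_quotient x S Y q hYq inferInstance

/-- Finiteness of integral closures descends along injective maps. -/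
theorem finite_descend {R : Type u} [CommRing R] [IsNoetherianRing R] {L N : Type u} [Field L]
    [CommRing N] [Nontrivial N] [Algebra R L] [Algebra R N] (i : L →ₐ[R] N)
    (h : Module.Finite R (integralClosure R N)) : Module.Finite R (integralClosure R L) :=
  Module.Finite.of_injective
    (f := ((i.comp (integralClosure R L).val).codRestrict (integralClosure R N)
      fun a => a.2.map i).toLinearMap)
    fun _ _ h => Subtype.ext (i.toRingHom.injective (congrArg Subtype.val h))

/-- Finiteness of integral closures climbs separable extensions. -/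
theorem finite_climb (R : Type u) [CommRing R] [IsDomain R] [IsNoetherianRing R] (K F N : Type u)
    [Field K] [Field F] [Field N] [Algebra R K] [IsFractionRing R K] [Algebra R F] [Algebra R N]
    [Algebra K F] [Algebra F N] [IsScalarTower R K F] [IsScalarTower R F N]
    [FiniteDimensional K F] [FiniteDimensional F N] [Algebra.IsSeparable F N]
    (h : Module.Finite R (integralClosure R F)) : Module.Finite R (integralClosure R N) := by
  let S := integralClosure R F
  haveI : IsNoetherianRing S := IsNoetherianRing.of_finite R _
  haveI : IsFractionRing S F := integralClosure.isFractionRing_of_finite_extension K F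
  haveI : IsIntegrallyClosed S := integralClosure.isIntegrallyClosedOfFiniteExtension K
  haveI : Module.Finite S (integralClosure S N) := IsIntegralClosure.finite S F N _
  haveI : Module.Finite R (integralClosure S N) := Module.Finite.trans S _
  let f : integralClosure R N →ₗ[R] integralClosure S N :=
    { toFun := fun a => ⟨a.1, a.2.tower_top⟩
      map_add' := fun _ _ => rfl
      map_smul' := fun _ _ => rfl }
  exact Module.Finite.of_injective f fun a b h => Subtype.ext (congrArg Subtype.val h :)

/-- Tate's lemma: a normal Noetherian domain complete for a principal prime with Japanese quotient is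
Japanese. -/
theorem isN2 (R : Type u) [CommRing R] [IsDomain R] [IsNoetherianRing R] [IsIntegrallyClosed R]
    (x : R) [hxp : (Ideal.span ({x} : Set R)).IsPrime]
    (h2 : CAlg.IsN2 (R ⧸ Ideal.span ({x} : Set R))) [IsAdicComplete (Ideal.span ({x} : Set R)) R] :
    CAlg.IsN2 R := by
  classical
  haveI : IsDomain (R ⧸ Ideal.span ({x} : Set R)) := Ideal.Quotient.isDomain _
  rcases eq_or_ne x 0 with rfl | hx0
  · exact Groth.Agent.Lib.Excellent.Nagata.isN2_of_ringEquiv
      ((Ideal.quotEquivOfEq (Ideal.span_singleton_eq_bot.2 rfl)).trans (RingEquiv.quotientBot R)) h2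
  obtain h0 | ⟨p, hpf, hpR⟩ := CharP.exists' R
  · exact Groth.Agent.Lib.Excellent.Nagata.isN2_of_charZero
  intro L _ _ _ _ hfin
  let K := FractionRing R
  haveI : CharP K p := charP_of_injective_algebraMap (IsFractionRing.injective R K) p
  haveI : ExpChar K p := ExpChar.prime hpf.out
  let Ω := AlgebraicClosure L
  haveI : CharP Ω p := charP_of_injective_algebraMap (algebraMap K Ω).injective p
  haveI : ExpChar Ω p := ExpChar.prime hpf.out
  -- the normal closure and its purely inseparable part
  let N := IntermediateField.normalClosure K L Ω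
  let G := Gal(N/K)
  let F : IntermediateField K N := IntermediateField.fixedField (⊤ : Subgroup G)
  haveI : IsPurelyInseparable K F := by
    refine isPurelyInseparable_iff.2 fun a => ⟨(IsAlgebraic.isIntegral (Algebra.IsAlgebraic.isAlgebraic a)), fun hsep => ?_⟩
    have hmin : minpoly K (a : N) = minpoly K a := minpoly.algebraMap_eq (algebraMap F N).injective a
    have hroot : (minpoly K (a : N)).rootSet N ⊆ {(a : N)} := by
      intro b hb
      have hb' := (Polynomial.mem_rootSet.1 hb).2
      obtain ⟨σ, hσ⟩ := minpoly.exists_algEquiv_of_root' (Algebra.IsAlgebraic.isAlgebraic (a : N)) hb'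
      have ha := (IntermediateField.mem_fixedField_iff _ _).1 a.2
      rw [Set.mem_singleton_iff, ← hσ]
      first
        | exact ha σ trivial
        | exact (σ.eq_symm_apply.1 (ha σ.symm trivial).symm).symm
    have hcard := Polynomial.card_rootSet_eq_natDegree (K := N) (p := minpoly K (a : N))
      (by rw [hmin]; exact hsep) (Normal.splits inferInstance _)
    have h1 : (minpoly K a).natDegree = 1 := by
      refine le_antisymm ?_ (minpoly.natDegree_pos (IsAlgebraic.isIntegral (Algebra.IsAlgebraic.isAlgebraic a)))
      rw [← hmin, ← hcard]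
      exact (Set.card_le_card hroot).trans (by simp)
    exact minpoly.natDegree_eq_one_iff.1 h1
  haveI : Algebra.IsSeparable F N := by
    haveI : Algebra.IsSeparable (FixedPoints.subfield (⊤ : Subgroup G) N) N := inferInstance
    exact this
  let e := IsPurelyInseparable.exponent K F
  let q := p ^ e
  have hq : 0 < q := pow_pos hpf.out.pos e
  -- adjoin a `q`-th root of `x`
  let j : F →ₐ[K] Ω := N.val.comp F.val
  obtain ⟨y, hy⟩ := IsAlgClosed.exists_pow_nat_eq (algebraMap R Ω x) hq
  let F' : IntermediateField K Ω := j.fieldRange ⊔ IntermediateField.adjoin K {y}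
  haveI : FiniteDimensional K (IntermediateField.adjoin K {y}) :=
    IntermediateField.adjoin.finiteDimensional (Algebra.IsIntegral.isIntegral y)
  haveI : FiniteDimensional K j.fieldRange := Module.Finite.equiv (AlgEquiv.ofInjectiveField j).toLinearEquiv
  haveI : FiniteDimensional K F' := IntermediateField.finiteDimensional_sup _ _
  let M : IntermediateField K Ω :=
    { Subfield.comap (iterateFrobenius Ω p e) (algebraMap K Ω).fieldRange with
      algebraMap_mem' := fun k => ⟨k ^ q, by rw [iterateFrobenius_def, map_pow]⟩ }
  have hM : ∀ z : Ω, z ∈ M ↔ ∃ k : K, algebraMap K Ω k = z ^ q := fun z => Iff.rfl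
  have hle : F' ≤ M := by
    refine sup_le ?_ (IntermediateField.adjoin_le_iff.2 ?_)
    · rintro _ ⟨a, rfl⟩
      refine (hM _).2 ⟨IsPurelyInseparable.iterateFrobenius K F p (le_refl e) a, ?_⟩
      rw [← j.commutes, IsPurelyInseparable.algebraMap_iterateFrobenius, map_pow]
      rfl
    · rintro _ rfl
      exact (hM _).2 ⟨algebraMap R K x, by rw [hy, ← IsScalarTower.algebraMap_apply R K Ω]⟩
  have hpow : ∀ z : F', ∃ k : K, algebraMap K F' k = z ^ q := fun z => by
    obtain ⟨k, hk⟩ := (hM _).1 (hle z.2)
    exact ⟨k, Subtype.ext hk⟩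
  have hfin' : Module.Finite R (integralClosure R F') :=
    finite_of_pow_mem (K := K) x hx0 h2 hq hpow
      (y := ⟨y, (le_sup_right : _ ≤ F') (IntermediateField.mem_adjoin_simple_self K y)⟩)
      (Subtype.ext (by exact hy))
  -- descend to `F`, climb to `N`, descend to `L`
  let j' : F →ₐ[R] F' :=
    ((j.codRestrict F'.toSubalgebra fun a => (le_sup_left : _ ≤ F') ⟨a, rfl⟩).restrictScalars R)
  have hF : Module.Finite R (integralClosure R F) := finite_descend j' hfin'
  haveI : IsScalarTower R F N := IsScalarTower.of_algebraMap_eq fun r => by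
    rw [IsScalarTower.algebraMap_apply R K N, IsScalarTower.algebraMap_apply R K F,
      ← IsScalarTower.algebraMap_apply K F N]
  have hN : Module.Finite R (integralClosure R N) := finite_climb R K F N hF
  let i : L →ₐ[R] N :=
    ((IsScalarTower.toAlgHom K L Ω).codRestrict N.toSubalgebra fun a =>
      AlgHom.fieldRange_le_normalClosure (IsScalarTower.toAlgHom K L Ω) ⟨a, rfl⟩).restrictScalars R
  exact finite_descend i hN

end Groth.Agent.Lib.Cohen.Tate
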