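import Groth.Agent.Lib.Excellent.FiniteClosure
import Groth.Agent.Lib.Excellent.GenericNormal
import Groth.Agent.Lib.Excellent.Nagata
import Groth.Agent.Lib.Cohen.Tate

/-!
# The local-global criterion for the Japanese property
-/

set_option linter.style.haveILetI false

universe u

open Groth.Agent.Lib.Excellent.GenericNormal

namespace Groth.Agent.Lib.Cohen.NagataGlobal

/-- A localized module with finitely many generators up to denominators is finite. -/
theorem finite_localizedModule {A : Type u} [CommRing A] (S : Submonoid A) (M : Type u)
    [AddCommGroup M] [Module A M]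
    (h : ∃ s : Finset M, ∀ x : M, ∃ t : S, (t : A) • x ∈ Submodule.span A (s : Set M)) :
    Module.Finite (Localization S) (LocalizedModule S M) := by
  classical
  obtain ⟨s, hs⟩ := h
  refine ⟨⟨s.image (LocalizedModule.mkLinearMap S M), top_le_iff.1 fun z _ => ?_⟩⟩
  induction z using LocalizedModule.induction_on with
  | _ x u =>
    obtain ⟨t, ht⟩ := hs x
    have h1 : LocalizedModule.mkLinearMap S M ((t : A) • x) ∈ Submodule.span (Localization S)
        ((s.image (LocalizedModule.mkLinearMap S M) : Finset _) : Set (LocalizedModule S M)) := by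
      have := Submodule.mem_map_of_mem (f := LocalizedModule.mkLinearMap S M) ht
      rw [Submodule.map_span, ← Finset.coe_image] at this
      exact Submodule.span_le_restrictScalars A (Localization S) _ this
    have h2 : LocalizedModule.mk x u = (Localization.mk (1 : A) (t * u)) •
        LocalizedModule.mkLinearMap S M ((t : A) • x) := by
      rw [LocalizedModule.mkLinearMap_apply, LocalizedModule.mk_smul_mk, one_smul, mul_one,
        LocalizedModule.mk_eq]
      refine ⟨1, ?_⟩
      simp only [Submonoid.smul_def, one_smul, Submonoid.coe_mul, mul_smul]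
      rw [smul_comm]
    rw [h2]
    exact Submodule.smul_mem _ _ h1

/-- Finiteness of the integral closure in `L` from a generically normal finite subdomain and the
Japanese property of the localizations. -/
theorem finite_of_genNor {A : Type u} [CommRing A] [IsDomain A] [IsNoetherianRing A] (L : Type u)
    [Field L] [Algebra A L] [Algebra (FractionRing A) L] [IsScalarTower A (FractionRing A) L]
    [FiniteDimensional (FractionRing A) L] (B : Subalgebra A L) [Module.Finite A B]
    [IsFractionRing B L] (hB : GenNor B)
    (hloc : ∀ (p : Ideal A) [p.IsPrime], CAlg.IsN2 (Localization.AtPrime p)) :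
    Module.Finite A (integralClosure A L) := by
  classical
  have hinj : Function.Injective (algebraMap A L) := by
    rw [IsScalarTower.algebraMap_eq A (FractionRing A) L]
    exact (algebraMap (FractionRing A) L).injective.comp (IsFractionRing.injective A _)
  haveI : FaithfulSMul A B := (faithfulSMul_iff_algebraMap_injective A B).2
    fun a b h => hinj (congrArg Subtype.val h)
  obtain ⟨f, hf, hfn⟩ := hB
  obtain ⟨g, hg, hg0⟩ := Submodule.exists_mem_ne_zero_of_ne_bot
    (Ideal.comap_ne_bot_of_algebraic_mem hf (Ideal.mem_span_singleton_self f)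
      (Algebra.IsIntegral.isIntegral (R := A) f).isAlgebraic :
      (Ideal.span {f}).comap (algebraMap A B) ≠ ⊥)
  obtain ⟨y, hy⟩ := Ideal.mem_span_singleton'.1 hg
  refine Groth.Agent.Lib.Excellent.FiniteClosure.finite_integralClosure L g hg0
    (finite_localizedModule _ _ ?_) (fun p _ => finite_localizedModule _ _ ?_)
  · obtain ⟨G, hG⟩ := Module.finite_def.1 (inferInstance : Module.Finite A B)
    let incl : B →ₗ[A] integralClosure A L :=
      { toFun := fun b => ⟨b.1, (Algebra.IsIntegral.isIntegral (R := A) b).map B.val⟩
        map_add' := fun _ _ => rfl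
        map_smul' := fun _ _ => rfl }
    refine ⟨G.image incl, fun x => ?_⟩
    let Bf := Localization.Away f
    have hfL : (f : L) ≠ 0 := fun h => hf (Subtype.ext h)
    letI : Algebra Bf L := (IsLocalization.Away.lift f (g := algebraMap B L) (IsUnit.mk0 _ hfL)).toAlgebra
    haveI : IsScalarTower B Bf L := IsScalarTower.of_algebraMap_eq fun b =>
      (IsLocalization.Away.lift_eq f _ b).symm
    haveI : IsDomain Bf := isDomain_away hf
    haveI : IsFractionRing Bf L :=
      IsFractionRing.isFractionRing_of_isDomain_of_isLocalization (Submonoid.powers f) Bf L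
    haveI : IsScalarTower A Bf L := IsScalarTower.of_algebraMap_eq fun a => by
      rw [IsScalarTower.algebraMap_apply A B Bf, ← IsScalarTower.algebraMap_apply B Bf L]
      rfl
    obtain ⟨z, hz⟩ := IsIntegrallyClosed.isIntegral_iff.1 (x.2.tower_top (A := Bf))
    obtain ⟨c, ⟨_, n, rfl⟩, rfl⟩ := IsLocalization.exists_mk'_eq (Submonoid.powers f) z
    refine ⟨⟨g ^ n, n, rfl⟩, ?_⟩
    have h1 : incl (y ^ n * c) = (g ^ n : A) • x := by
      apply Subtype.ext
      have hmk := congrArg (algebraMap Bf L)
        (IsLocalization.mk'_spec' Bf c (⟨f ^ n, n, rfl⟩ : Submonoid.powers f))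
      rw [map_mul, hz, ← IsScalarTower.algebraMap_apply, ← IsScalarTower.algebraMap_apply] at hmk
      change ((y ^ n * c : B) : L) = (g ^ n) • (x : L)
      rw [Algebra.smul_def, map_pow]
      have hy' : (y : L) * (f : L) = algebraMap A L g := congrArg Subtype.val hy
      rw [← hy', Subalgebra.coe_mul, Subalgebra.coe_pow, ← show ((f ^ n : B) : L) * (x : L) = (c : L)
        from hmk, Subalgebra.coe_pow]
      ring
    rw [← h1, Finset.coe_image, ← Submodule.map_span]
    exact Submodule.mem_map_of_mem (hG ▸ Submodule.mem_top)
  · let Ap := Localization.AtPrime p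
    haveI : IsDomain Ap := IsLocalization.isDomain_localization p.primeCompl_le_nonZeroDivisors
    letI : Algebra Ap (FractionRing A) :=
      (IsLocalization.map (T := nonZeroDivisors A) (FractionRing A) (RingHom.id A)
        p.primeCompl_le_nonZeroDivisors).toAlgebra
    haveI : IsScalarTower A Ap (FractionRing A) := IsScalarTower.of_algebraMap_eq fun a =>
      (IsLocalization.map_eq (T := nonZeroDivisors A) (Q := FractionRing A)
        p.primeCompl_le_nonZeroDivisors (g := RingHom.id A) a).symm
    haveI : IsFractionRing Ap (FractionRing A) :=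
      IsFractionRing.isFractionRing_of_isDomain_of_isLocalization p.primeCompl Ap (FractionRing A)
    letI : Algebra Ap L :=
      ((algebraMap (FractionRing A) L).comp (algebraMap Ap (FractionRing A))).toAlgebra
    haveI : IsScalarTower Ap (FractionRing A) L := IsScalarTower.of_algebraMap_eq' rfl
    haveI : IsScalarTower A Ap L := IsScalarTower.of_algebraMap_eq fun a => by
      rw [IsScalarTower.algebraMap_apply Ap (FractionRing A) L,
        ← IsScalarTower.algebraMap_apply A Ap (FractionRing A),
        ← IsScalarTower.algebraMap_apply A (FractionRing A) L]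
    haveI := Groth.Agent.Lib.Excellent.Nagata.finite_integralClosure_of_isN2 (hloc p)
      (FractionRing A) L
    obtain ⟨G, hG⟩ := Module.finite_def.1 (inferInstance : Module.Finite Ap (integralClosure Ap L))
    have hG' : ∀ w : integralClosure Ap L, ∃ m : p.primeCompl, IsIntegral A (m • (w : L)) := fun w =>
      IsIntegral.exists_multiple_integral_of_isLocalization (Rₘ := Ap) p.primeCompl (w : L) w.2
    choose m hm using hG'
    refine ⟨G.image fun w => (⟨m w • (w : L), hm w⟩ : integralClosure A L), fun x => ?_⟩
    set N := Submodule.span A ((G.image fun w => (⟨m w • (w : L), hm w⟩ : integralClosure A L) :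
      Finset _) : Set (integralClosure A L))
    have key : ∀ w : integralClosure Ap L, ∃ t : p.primeCompl, ∃ v ∈ N, (v : L) = (t : A) • (w : L) := by
      intro w
      have hw : w ∈ Submodule.span Ap (G : Set (integralClosure Ap L)) := hG ▸ Submodule.mem_top
      induction hw using Submodule.span_induction with
      | mem w hw =>
        exact ⟨m w, _, Submodule.subset_span (Finset.mem_coe.2 (Finset.mem_image_of_mem _ hw)), rfl⟩
      | zero => exact ⟨1, 0, zero_mem _, by simp⟩
      | add a b _ _ ha hb =>
        obtain ⟨t, v, hv, e⟩ := ha
        obtain ⟨t', v', hv', e'⟩ := hb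
        refine ⟨t * t', (t' : A) • v + (t : A) • v', add_mem (N.smul_mem _ hv) (N.smul_mem _ hv'), ?_⟩
        push_cast
        rw [e, e']
        simp only [Algebra.smul_def, map_mul]
        ring
      | smul r a _ ha =>
        obtain ⟨t, v, hv, e⟩ := ha
        obtain ⟨b, u, rfl⟩ := IsLocalization.exists_mk'_eq p.primeCompl r
        refine ⟨u * t, b • v, N.smul_mem _ hv, ?_⟩
        push_cast
        rw [e]
        have hu := congrArg (algebraMap Ap L) (IsLocalization.mk'_spec' Ap b u)
        rw [map_mul, ← IsScalarTower.algebraMap_apply, ← IsScalarTower.algebraMap_apply] at hu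
        simp only [Algebra.smul_def, map_mul, ← hu]
        ring
    obtain ⟨t, v, hv, e⟩ := key ⟨x, x.2.tower_top⟩
    exact ⟨t, by rw [show (t : A) • x = v from Subtype.ext e.symm]; exact hv⟩

/-- Every finite extension of the fraction field is the fraction field of a finite subalgebra. -/
theorem exists_finite_subalgebra {A : Type u} [CommRing A] [IsDomain A] (K L : Type u) [Field K]
    [Field L] [Algebra A K] [IsFractionRing A K] [Algebra A L] [Algebra K L] [IsScalarTower A K L]
    [FiniteDimensional K L] :
    ∃ B : Subalgebra A L, Module.Finite A B ∧ IsFractionRing B L := by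
  classical
  let b := Module.finBasis K L
  have hb : ∀ i, ∃ m : nonZeroDivisors A, IsIntegral A (m • b i) := fun i =>
    IsIntegral.exists_multiple_integral_of_isLocalization (Rₘ := K) _ (b i)
      (Algebra.IsIntegral.isIntegral _)
  choose m hm using hb
  let B := Algebra.adjoin A (Set.range fun i => m i • b i)
  refine ⟨B, Module.Finite.iff_fg.2 (fg_adjoin_of_finite (Set.finite_range _)
    (by rintro _ ⟨i, rfl⟩; exact hm i)), IsFractionRing.of_field _ _ fun z => ?_⟩
  obtain ⟨s, hs⟩ := IsLocalization.exist_integer_multiples (nonZeroDivisors A) Finset.univ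
    (fun i => b.repr z i * (algebraMap A K (m i))⁻¹)
  choose r hr using fun i => hs i (Finset.mem_univ i)
  have hsL : algebraMap A L s ≠ 0 := by
    rw [IsScalarTower.algebraMap_apply A K L, map_ne_zero_iff _ (algebraMap K L).injective]
    exact IsFractionRing.to_map_ne_zero_of_mem_nonZeroDivisors s.2
  have hmem : algebraMap A L s * z ∈ B := by
    rw [← b.sum_repr z, Finset.mul_sum]
    refine sum_mem fun i _ => ?_
    have : algebraMap A L s * (b.repr z i • b i) = r i • (m i • b i) := by
      rw [Submonoid.smul_def, ← algebraMap_smul K (r i), hr i, ← algebraMap_smul K (m i : A),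
        ← algebraMap_smul K (s : A), smul_smul, smul_eq_mul, mul_assoc, mul_assoc,
        inv_mul_cancel₀ (IsFractionRing.to_map_ne_zero_of_mem_nonZeroDivisors (m i).2), mul_one,
        Algebra.smul_def (algebraMap A K s * _), Algebra.smul_def, map_mul,
        ← IsScalarTower.algebraMap_apply, mul_assoc]
    rw [this]
    exact B.smul_mem (Algebra.subset_adjoin (Set.mem_range_self i)) _
  exact ⟨⟨_, hmem⟩, algebraMap A B s, by
    change z = algebraMap A L s * z / algebraMap A L s
    rw [mul_div_cancel_left₀ _ hsL]⟩

/-- The Japanese property from generic normality of finite extensions and the local rings. -/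
theorem isN2_of_local {A : Type u} [CommRing A] [IsDomain A] [IsNoetherianRing A]
    (hgen : ∀ (B : Type u) [CommRing B] [IsDomain B] [Algebra A B], Module.Finite A B →
      FaithfulSMul A B → GenNor B)
    (hloc : ∀ (p : Ideal A) [p.IsPrime], CAlg.IsN2 (Localization.AtPrime p)) : CAlg.IsN2 A := by
  intro L _ _ _ _ hfin
  obtain ⟨B, hBfin, hBfrac⟩ := exists_finite_subalgebra (A := A) (FractionRing A) L
  haveI := hBfin
  haveI := hBfrac
  refine finite_of_genNor L B (hgen B hBfin ?_) hloc
  refine (faithfulSMul_iff_algebraMap_injective A B).2 fun a b h => ?_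
  have h' : algebraMap A L a = algebraMap A L b := congrArg Subtype.val h
  rw [IsScalarTower.algebraMap_eq A (FractionRing A) L] at h'
  exact IsFractionRing.injective A _ ((algebraMap (FractionRing A) L).injective h')

end Groth.Agent.Lib.Cohen.NagataGlobal
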