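import Groth.Agent.Lib.Cohen.InsepReduction
import Mathlib.RingTheory.Polynomial.Basic
import Mathlib.RingTheory.Polynomial.IntegralNormalization
import Mathlib.RingTheory.Polynomial.IsIntegral

/-!
# Polynomial rings over Japanese domains are Japanese
-/

set_option linter.style.haveILetI false

universe u

open Polynomial

namespace Groth.Agent.Lib.Cohen.PolynomialN2

/-- The image of a polynomial with roots of its coefficients lies in the model. -/
theorem exists_root_eval {R Ω : Type u} [CommRing R] [Field Ω] [Algebra R Ω] (p e : ℕ) [ExpChar Ω p]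
    (S : Subring Ω) (y : Ω) (hy : y ∈ S) (f : R[X])
    (hc : ∀ n, ∃ r ∈ S, r ^ p ^ e = algebraMap R Ω (f.coeff n)) :
    ∃ w ∈ S, w ^ p ^ e = Polynomial.aeval (y ^ p ^ e) f := by
  choose r hrS hr using hc
  refine ⟨∑ n ∈ f.support, r n * y ^ n, sum_mem fun n _ => mul_mem (hrS n) (pow_mem hy n), ?_⟩
  rw [sum_pow_char_pow, Polynomial.aeval_def, Polynomial.eval₂_eq_sum]
  refine Finset.sum_congr rfl fun n _ => ?_
  dsimp only
  rw [mul_pow, hr, ← pow_mul, ← pow_mul, mul_comm n]

theorem isN2_polynomial (R : Type u) [CommRing R] [IsDomain R] [IsNoetherianRing R]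
    (hR : CAlg.IsN2 R) : CAlg.IsN2 R[X] := by
  classical
  refine Groth.Agent.Lib.Cohen.InsepReduction.isN2_of_pow R[X] ?_
  intro Ω _ _ _ _ _ p e _ F _ hpow
  let K := FractionRing R[X]
  have hinj : Function.Injective (algebraMap R[X] Ω) := by
    rw [IsScalarTower.algebraMap_eq R[X] K Ω]
    exact (algebraMap K Ω).injective.comp (IsFractionRing.injective R[X] K)
  letI : Algebra R Ω := ((algebraMap R[X] Ω).comp C).toAlgebra
  haveI : IsScalarTower R R[X] Ω := IsScalarTower.of_algebraMap_eq fun r => rfl
  haveI : FaithfulSMul R Ω := (faithfulSMul_iff_algebraMap_injective R Ω).2 (hinj.comp C_injective)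
  let k := FractionRing R
  letI : Algebra k Ω := FractionRing.liftAlgebra R Ω
  -- roots
  have hroot : ∀ a : Ω, ∃ r : Ω, r ^ p ^ e = a := fun a =>
    IsAlgClosed.exists_pow_nat_eq a (pow_pos (expChar_pos Ω p) e)
  choose ρ hρ using hroot
  let y := ρ (algebraMap R[X] Ω X)
  have hXy : algebraMap R[X] Ω X = y ^ p ^ e := (hρ _).symm
  have haeval : ∀ f : R[X], algebraMap R[X] Ω f = Polynomial.aeval (y ^ p ^ e) f := fun f => by
    rw [← hXy, Polynomial.aeval_algebraMap_apply, Polynomial.aeval_X_left_apply]
  let b := Module.finBasis K F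
  choose c hc using fun i => hpow (b i)
  choose f g hfg using fun i => IsLocalization.exists_mk'_eq (nonZeroDivisors R[X]) (c i)
  let Z : Finset Ω := Finset.univ.biUnion fun i => ((f i).coeffs ∪ (g i : R[X]).coeffs).image
    fun a => ρ (algebraMap R Ω a)
  let K0 := IntermediateField.adjoin k (Z : Set Ω)
  have hZint : ∀ z ∈ (Z : Set Ω), IsIntegral k z := by
    intro z hz
    obtain ⟨i, -, a, -, rfl⟩ : ∃ i ∈ Finset.univ, ∃ a ∈ (f i).coeffs ∪ (g i : R[X]).coeffs,
        ρ (algebraMap R Ω a) = z := by simpa [Z, Finset.mem_biUnion] using hz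
    refine IsIntegral.of_pow (pow_pos (expChar_pos Ω p) e) ?_
    rw [hρ, IsScalarTower.algebraMap_apply R k Ω]
    exact isIntegral_algebraMap
  haveI : FiniteDimensional k K0 :=
    IntermediateField.finiteDimensional_adjoin hZint
  haveI : IsScalarTower R K0 Ω := IsScalarTower.of_algebraMap_eq fun r => by
    rw [IsScalarTower.algebraMap_apply R k Ω, IsScalarTower.algebraMap_apply R k K0,
      ← IsScalarTower.algebraMap_apply k K0 Ω]
  let R' := integralClosure R K0
  haveI : Module.Finite R R' :=
    Groth.Agent.Lib.Excellent.Nagata.finite_integralClosure_of_isN2 hR k K0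
  haveI : IsFractionRing R' K0 := integralClosure.isFractionRing_of_finite_extension k K0
  haveI : IsIntegrallyClosed R' := integralClosure.isIntegrallyClosedOfFiniteExtension k
  haveI : IsIntegrallyClosed R'[X] := inferInstance
  -- the model `R'[Y]`
  let ι : R[X] →+* R'[X] := Polynomial.eval₂RingHom (C.comp (algebraMap R R')) (X ^ p ^ e)
  letI : Algebra R[X] R'[X] := ι.toAlgebra
  let φ₀ : R'[X] →+* Ω := Polynomial.eval₂RingHom ((algebraMap K0 Ω).comp R'.val.toRingHom) y
  let φ : R'[X] →ₐ[R[X]] Ω :=
    { φ₀ with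
      commutes' := fun t => by
        change φ₀ (ι t) = _
        rw [haeval]
        change φ₀.comp ι t = (Polynomial.aeval (y ^ p ^ e)).toRingHom t
        congr 1
        refine Polynomial.ringHom_ext (fun r => ?_) ?_
        · simp [φ₀, ι, IsScalarTower.algebraMap_apply R K0 Ω]
        · simp [φ₀, ι] }
  haveI : IsScalarTower R R[X] R'[X] := IsScalarTower.of_algebraMap_eq fun r => by
    change _ = ι (C r)
    simp [ι]
  haveI : Algebra.FiniteType R R'[X] := Algebra.FiniteType.trans (S := R') inferInstance inferInstance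
  haveI : Algebra.FiniteType R[X] R'[X] := Algebra.FiniteType.of_restrictScalars_finiteType R R[X] _
  haveI : Algebra.IsIntegral R[X] R'[X] := by
    refine ⟨fun t => ?_⟩
    induction t using Polynomial.induction_on' with
    | add a b ha hb => exact ha.add hb
    | monomial n a =>
      rw [← Polynomial.C_mul_X_pow_eq_monomial]
      refine IsIntegral.mul ?_ (IsIntegral.pow ?_ n)
      · exact ((Algebra.IsIntegral.isIntegral (R := R) a).map
          (Polynomial.CAlgHom : R' →ₐ[R] R'[X])).tower_top
      · refine IsIntegral.of_pow (pow_pos (expChar_pos Ω p) e) ?_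
        rw [show (X : R'[X]) ^ p ^ e = algebraMap R[X] R'[X] X from (Polynomial.eval₂_X _ _).symm]
        exact isIntegral_algebraMap
  haveI : Module.Finite R[X] R'[X] := Algebra.IsIntegral.finite
  -- `y` is transcendental over `R'`
  have hK0 : Algebra.IsAlgebraic k K0 := Algebra.IsAlgebraic.of_finite k K0
  have hφ : Function.Injective φ := by
    rw [injective_iff_map_eq_zero]
    intro t ht
    by_contra ht0
    have h1 : IsAlgebraic K0 y :=
      ⟨t.map R'.val.toRingHom, (Polynomial.map_ne_zero_iff (f := R'.val.toRingHom)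
        Subtype.val_injective).2 ht0, by
        rw [Polynomial.aeval_def, Polynomial.eval₂_map]; exact ht⟩
    have h2 : IsAlgebraic k (y ^ p ^ e) :=
      ((isIntegral_trans (R := k) (A := K0) y h1.isIntegral).pow _).isAlgebraic
    obtain ⟨u, hu0, hu⟩ := (IsFractionRing.isAlgebraic_iff R k Ω).2 h2
    refine hu0 (hinj ?_)
    rw [haeval, hu, map_zero]
  refine Groth.Agent.Lib.Cohen.InsepReduction.finite_of_model R[X]
    (F.val.restrictScalars R[X]) R'[X] φ hφ ?_
  -- the basis lies in the fractions of the model
  let Φ := Subfield.closure (Set.range φ)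
  have hsub : ∀ t : R'[X], φ t ∈ Φ := fun t => Subfield.subset_closure ⟨t, rfl⟩
  have hK0mem : ∀ z : K0, (z : Ω) ∈ Φ := by
    intro z
    obtain ⟨a, d, -, rfl⟩ := IsFractionRing.div_surjective R' z
    have h1 : ∀ a : R', ((algebraMap R' K0 a : K0) : Ω) ∈ Φ := fun a => by
      simpa [φ, φ₀] using hsub (C a)
    rw [IntermediateField.coe_div]
    exact div_mem (h1 a) (h1 d)
  have hy : y ∈ Φ := by simpa [φ, φ₀] using hsub X
  have hb : ∀ i, ((b i : F) : Ω) ∈ Φ := by
    intro i
    have hroots : ∀ n (q : R[X]), q.coeffs ⊆ (f i).coeffs ∪ (g i : R[X]).coeffs →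
        ∃ r ∈ Φ.toSubring, r ^ p ^ e = algebraMap R Ω (q.coeff n) := fun n q hq => by
      by_cases h0 : q.coeff n = 0
      · exact ⟨0, zero_mem _, by rw [h0, map_zero, zero_pow (pow_pos (expChar_pos Ω p) e).ne']⟩
      · have : ρ (algebraMap R Ω (q.coeff n)) ∈ Z := by
          simp only [Z, Finset.mem_biUnion, Finset.mem_image]
          exact ⟨i, Finset.mem_univ i, _, hq (Polynomial.coeff_mem_coeffs h0), rfl⟩
        exact ⟨_, hK0mem ⟨_, IntermediateField.subset_adjoin k _ this⟩, hρ _⟩
    obtain ⟨w, hw, hwp⟩ := exists_root_eval p e Φ.toSubring y hy (f i)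
      fun n => hroots n _ Finset.subset_union_left
    obtain ⟨v, hv, hvp⟩ := exists_root_eval p e Φ.toSubring y hy (g i : R[X])
      fun n => hroots n _ Finset.subset_union_right
    have : ((b i : F) : Ω) = w / v := by
      refine iterateFrobenius_inj Ω p e ?_
      rw [iterateFrobenius_def, iterateFrobenius_def, ← hc i, div_pow, hwp, hvp, ← haeval, ← haeval,
        ← hfg i, IsFractionRing.mk'_eq_div, map_div₀, ← IsScalarTower.algebraMap_apply,
        ← IsScalarTower.algebraMap_apply]
    rw [this]
    exact div_mem hw hv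
  intro z
  change (z : Ω) ∈ Φ
  rw [← b.sum_repr z]
  push_cast
  refine sum_mem fun i _ => ?_
  rw [Algebra.smul_def]
  refine mul_mem ?_ (hb i)
  obtain ⟨a, d, -, hd⟩ := IsFractionRing.div_surjective R[X] (b.repr z i)
  rw [← hd, map_div₀, ← IsScalarTower.algebraMap_apply, ← IsScalarTower.algebraMap_apply]
  exact div_mem (φ.commutes a ▸ hsub _) (φ.commutes d ▸ hsub _)

end Groth.Agent.Lib.Cohen.PolynomialN2

namespace Groth.Agent.Lib.Cohen.PolynomialN2

/-- The integral closure of `R[X]` in its fraction field is bounded by `R'[X]`. -/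
theorem finite_closure_polynomial (R : Type u) [CommRing R] [IsDomain R] [IsNoetherianRing R]
    (k : Type u) [Field k] [Algebra R k] [IsFractionRing R k]
    (R' : Type u) [CommRing R'] [IsDomain R'] [IsIntegrallyClosed R'] [Algebra R R']
    [Module.Finite R R'] (v : R' →ₐ[R] k) (hv : Function.Injective v) : CAlg.IsN1 R[X] := by
  let K := FractionRing R[X]
  haveI : IsIntegrallyClosed R'[X] := inferInstance
  let ι : R[X] →+* R'[X] := Polynomial.eval₂RingHom (C.comp (algebraMap R R')) X
  letI : Algebra R[X] R'[X] := ι.toAlgebra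
  haveI : IsScalarTower R R[X] R'[X] := IsScalarTower.of_algebraMap_eq fun r => by
    change _ = ι (C r)
    simp [ι]
  haveI : Algebra.FiniteType R R'[X] := Algebra.FiniteType.trans (S := R') inferInstance inferInstance
  haveI : Algebra.FiniteType R[X] R'[X] := Algebra.FiniteType.of_restrictScalars_finiteType R R[X] _
  haveI : Algebra.IsIntegral R[X] R'[X] := by
    refine ⟨fun t => ?_⟩
    induction t using Polynomial.induction_on' with
    | add a b ha hb => exact ha.add hb
    | monomial n a =>
      rw [← Polynomial.C_mul_X_pow_eq_monomial]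
      refine IsIntegral.mul ?_ (IsIntegral.pow ?_ n)
      · exact ((Algebra.IsIntegral.isIntegral (R := R) a).map
          (Polynomial.CAlgHom : R' →ₐ[R] R'[X])).tower_top
      · rw [show (X : R'[X]) = algebraMap R[X] R'[X] X from (Polynomial.eval₂_X _ _).symm]
        exact isIntegral_algebraMap
  haveI : Module.Finite R[X] R'[X] := Algebra.IsIntegral.finite
  let g : R →+* K := (algebraMap R[X] K).comp C
  have hg : Function.Injective g := fun a b h => C_injective (IsFractionRing.injective R[X] K h)
  let j : k →+* K := IsFractionRing.lift (A := R) (g := g) hg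
  have hj : ∀ r, j (algebraMap R k r) = algebraMap R[X] K (C r) := fun r =>
    IsFractionRing.lift_algebraMap hg r
  let φ₀ : R'[X] →+* K := Polynomial.eval₂RingHom (j.comp v.toRingHom) (algebraMap R[X] K X)
  let φ : R'[X] →ₐ[R[X]] K :=
    { φ₀ with
      commutes' := fun t => by
        change (φ₀.comp ι) t = algebraMap R[X] K t
        congr 1
        refine Polynomial.ringHom_ext (fun r => ?_) ?_
        · simp [φ₀, ι, hj]
        · simp [φ₀, ι] }
  refine Groth.Agent.Lib.Cohen.InsepReduction.finite_of_model R[X] (AlgHom.id R[X] K) R'[X] φ ?_ ?_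
  · rw [injective_iff_map_eq_zero]
    intro t ht
    -- clear denominators
    obtain ⟨b, hb⟩ := IsLocalization.integerNormalization_map_to_map (nonZeroDivisors R)
      (t.map v.toRingHom)
    let tp := IsLocalization.integerNormalization (nonZeroDivisors R) (t.map v.toRingHom)
    have h1 : algebraMap R[X] K tp = j (algebraMap R k b) * φ t := by
      have e2 := congrArg (Polynomial.eval₂ j (algebraMap R[X] K X)) hb
      rw [Polynomial.eval₂_map, Algebra.smul_def, Polynomial.algebraMap_apply, Polynomial.eval₂_mul,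
        Polynomial.eval₂_C, Polynomial.eval₂_map] at e2
      refine Eq.trans ?_ e2
      change _ = Polynomial.eval₂RingHom (j.comp (algebraMap R k)) (algebraMap R[X] K X) tp
      refine RingHom.congr_fun (Polynomial.ringHom_ext (fun r => ?_) ?_) tp
      · simp [hj]
      · simp
    rw [ht, mul_zero, map_eq_zero_iff _ (IsFractionRing.injective R[X] K)] at h1
    have h3 := hb
    rw [show IsLocalization.integerNormalization (nonZeroDivisors R) (t.map v.toRingHom) = 0 from h1,
      Polynomial.map_zero, Algebra.smul_def, eq_comm, mul_eq_zero] at h3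
    refine (Polynomial.map_eq_zero_iff (f := v.toRingHom) hv).1 (h3.resolve_left ?_)
    rw [Polynomial.algebraMap_apply, Polynomial.C_eq_zero]
    exact IsFractionRing.to_map_ne_zero_of_mem_nonZeroDivisors b.2
  · intro z
    obtain ⟨a, d, -, rfl⟩ := IsFractionRing.div_surjective R[X] z
    exact div_mem (Subfield.subset_closure ⟨_, φ.commutes a⟩) (Subfield.subset_closure ⟨_, φ.commutes d⟩)

/-- Polynomial rings over N-1 domains are N-1. -/
theorem isN1_polynomial (R : Type u) [CommRing R] [IsDomain R] [IsNoetherianRing R]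
    (hR : CAlg.IsN1 R) : CAlg.IsN1 R[X] := by
  let R' := integralClosure R (FractionRing R)
  haveI : Module.Finite R R' := hR
  haveI : IsIntegrallyClosed R' :=
    integralClosure.isIntegrallyClosedOfFiniteExtension (FractionRing R)
  exact finite_closure_polynomial R (FractionRing R) R' R'.val Subtype.val_injective

end Groth.Agent.Lib.Cohen.PolynomialN2
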