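import Groth.Agent.Lib.Cohen.OneGen
import Groth.Agent.Lib.Cohen.PolynomialN2
import Groth.Agent.Lib.Cohen.NagataGlobal
import Groth.Agent.Lib.Excellent.GenericNormalExt
import Mathlib.RingTheory.Jacobson.Ring
import Mathlib.FieldTheory.SplittingField.Construction
import Mathlib.RingTheory.LocalProperties.Reduced

/-!
# Algebras of finite type over Nagata rings are Nagata
-/

set_option linter.style.haveILetI false

universe u

open scoped TensorProduct
open IsLocalRing Polynomial
open Groth.Agent.Lib.Excellent

namespace Groth.Agent.Lib.Cohen.NagataFiniteType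

theorem isN2_of_isNagata {R : Type u} [CommRing R] [IsDomain R] (hR : CAlg.IsNagata R) :
    CAlg.IsN2 R :=
  Nagata.isN2_of_ringEquiv (RingEquiv.quotientBot R) (hR.2 ⊥)

theorem genNor_of_isN2 {A : Type u} [CommRing A] [IsDomain A] [IsNoetherianRing A] (h : CAlg.IsN2 A) :
    GenericNormal.GenNor A := by
  let K := FractionRing A
  haveI : Module.Finite A (integralClosure A K) := Nagata.finite_integralClosure_of_isN2 h K K
  haveI : IsIntegrallyClosed (integralClosure A K) :=
    integralClosure.isIntegrallyClosedOfFiniteExtension K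
  haveI : FaithfulSMul A (integralClosure A K) := (faithfulSMul_iff_algebraMap_injective _ _).2
    fun a b h => IsFractionRing.injective A K (congrArg Subtype.val h)
  refine GenericNormal.genNor_of_finite (S := integralClosure A K) ⟨1, one_ne_zero, ?_⟩
  exact isIntegrallyClosed_of_isLocalization _ (Submonoid.powers (1 : integralClosure A K))
    (powers_le_nonZeroDivisors_of_noZeroDivisors one_ne_zero)

/-- Finiteness in `L` for the localization of a monogenic algebra at a maximal ideal over the closed
point, when a polynomial vanishing at the point splits in `L`. -/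
theorem finite_of_splits {R0 S A L : Type u} [CommRing R0] [IsLocalRing R0] [IsDomain R0]
    (hR0 : CAlg.IsNagata R0) [CommRing S] [CommRing A] [IsDomain A] [IsLocalRing A] [IsNoetherianRing A]
    [Algebra R0 S] [Algebra S A] (P : Ideal S) [P.IsPrime] [IsLocalization.AtPrime A P]
    (hP : P.comap (algebraMap R0 S) = maximalIdeal R0) (x : S) (hgen : Algebra.adjoin R0 {x} = ⊤)
    (f : R0[X]) (hfP : aeval x f ∈ P) (hfm : f.Monic) [Field L] [Algebra A L]
    [Algebra (FractionRing A) L] [IsScalarTower A (FractionRing A) L]
    [FiniteDimensional (FractionRing A) L]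
    [Algebra R0 L] (hRL : algebraMap R0 L = (algebraMap A L).comp ((algebraMap S A).comp (algebraMap R0 S)))
    [Algebra (FractionRing R0) L] [IsScalarTower R0 (FractionRing R0) L]
    [FiniteDimensional (FractionRing R0) L] (hsplit : (f.map (algebraMap R0 L)).Splits) :
    Module.Finite A (integralClosure A L) := by
  classical
  let R := integralClosure R0 L
  haveI := hR0.1
  haveI : Module.Finite R0 R :=
    Nagata.finite_integralClosure_of_isN2 (isN2_of_isNagata hR0) (FractionRing R0) L
  haveI : IsIntegrallyClosed R :=
    integralClosure.isIntegrallyClosedOfFiniteExtension (FractionRing R0)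
  haveI : IsFractionRing R L := integralClosure.isFractionRing_of_finite_extension (FractionRing R0) L
  have hR : CAlg.IsNagata R := Groth.Agent.Lib.Cohen.Bridge.isNagata_of_finite hR0
  obtain ⟨s, hs⟩ := Module.finite_def.1 (inferInstance : Module.Finite R0 R)
  let G : Set L := (fun a : R => (a : L)) '' (s : Set R)
  let B := Algebra.adjoin A G
  have hint : ∀ g ∈ G, IsIntegral A g := by
    rintro _ ⟨a, -, rfl⟩
    obtain ⟨q, hqm, hq⟩ := a.2
    refine ⟨q.map ((algebraMap S A).comp (algebraMap R0 S)), hqm.map _, ?_⟩
    rw [Polynomial.eval₂_map, ← hRL]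
    exact hq
  haveI : Module.Finite A B :=
    Algebra.finite_adjoin_of_finite_of_isIntegral (s.finite_toSet.image _) hint
  have hRB : ∀ a : R, (a : L) ∈ B := by
    intro a
    have ha : a ∈ Submodule.span R0 (s : Set R) := hs ▸ Submodule.mem_top
    induction ha using Submodule.span_induction with
    | mem a ha => exact Algebra.subset_adjoin ⟨a, ha, rfl⟩
    | zero => exact B.zero_mem
    | add a b _ _ ha hb => exact B.add_mem ha hb
    | smul c a _ ha =>
      rw [Subalgebra.coe_smul, Algebra.smul_def, hRL, RingHom.comp_apply]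
      exact B.mul_mem (B.algebraMap_mem _) ha
  let jR : R →+* B := R.val.toRingHom.codRestrict B hRB
  let G' : Set B := Subtype.val ⁻¹' G
  have hG' : Algebra.adjoin A G' = ⊤ := Algebra.adjoin_adjoin_coe_preimage
  have hB : ∀ (M : Ideal B) [M.IsMaximal],
      IsReduced (AdicCompletion (maximalIdeal (Localization.AtPrime M)) (Localization.AtPrime M)) := by
    intro M _
    refine Groth.Agent.Lib.Cohen.OneGen.isReduced_completion_model (R0 := R0) (R := R) (L := L) hR P hP
      x hgen f hfP hfm ?_ jR G' hG' ?_ ?_ B.val.toRingHom Subtype.val_injective ?_ M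
    · rintro σ rfl
      rwa [← IsScalarTower.algebraMap_eq R0 R L]
    · rintro ⟨g, hg⟩ hgG
      obtain ⟨a, -, rfl⟩ := hgG
      exact ⟨a, rfl⟩
    · refine RingHom.ext fun c => Subtype.ext ?_
      exact RingHom.congr_fun hRL c
    · exact RingHom.ext fun _ => rfl
  haveI := Groth.Agent.Lib.Cohen.Bridge.isReduced_tensor_of_maximal A B hB
  haveI : IsFractionRing B L := IsFractionRing.of_field B L fun z => by
    obtain ⟨a, b, -, rfl⟩ := IsFractionRing.div_surjective R z
    exact ⟨⟨_, hRB a⟩, ⟨_, hRB b⟩, rfl⟩
  let C := AdicCompletion (maximalIdeal A) A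
  haveI : Module.FaithfullyFlat A C := Module.FaithfullyFlat.of_flat_of_isLocalHom
  haveI : IsReduced (L ⊗[B] (B ⊗[A] C)) := by
    haveI : IsLocalization (Algebra.algebraMapSubmonoid (B ⊗[A] C) (nonZeroDivisors B))
        ((B ⊗[A] C) ⊗[B] L) := inferInstance
    haveI : IsReduced ((B ⊗[A] C) ⊗[B] L) :=
      isReduced_localizationPreserves (R := B ⊗[A] C)
        (Algebra.algebraMapSubmonoid (B ⊗[A] C) (nonZeroDivisors B)) ((B ⊗[A] C) ⊗[B] L) inferInstance
    exact isReduced_of_injective (Algebra.TensorProduct.comm B L (B ⊗[A] C)) (AlgEquiv.injective _)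
  haveI : IsReduced (C ⊗[A] L) :=
    isReduced_of_injective ((Algebra.TensorProduct.comm A C L).toRingEquiv.trans
      (Algebra.TensorProduct.cancelBaseChange A B L L C).symm.toRingEquiv) (RingEquiv.injective _)
  exact Groth.Agent.Lib.Cohen.Unramified.finite_of_isReduced_tensor C
    (Groth.Agent.Lib.Cohen.Unramified.isNagata_completion A) (FractionRing A) L inferInstance

/-- Local rings at closed points of algebraic monogenic extensions are Japanese. -/
theorem isN2_closed_point {R0 S A : Type u} [CommRing R0] [IsLocalRing R0] [IsDomain R0]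
    (hR0 : CAlg.IsNagata R0) [CommRing S] [CommRing A] [IsDomain A] [IsLocalRing A] [IsNoetherianRing A]
    [Algebra R0 S] [Algebra S A] (P : Ideal S) [P.IsPrime] [IsLocalization.AtPrime A P]
    (hP : P.comap (algebraMap R0 S) = maximalIdeal R0) (x : S) (hgen : Algebra.adjoin R0 {x} = ⊤)
    (f : R0[X]) (hfP : aeval x f ∈ P) (hfm : f.Monic)
    (hinj : Function.Injective ((algebraMap S A).comp (algebraMap R0 S)))
    (halg : IsAlgebraic R0 x) : CAlg.IsN2 A := by
  classical
  intro L _ _ _ _ hfin
  let g : R0 →+* A := (algebraMap S A).comp (algebraMap R0 S)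
  let q : L[X] := f.map ((algebraMap A L).comp g)
  let L' := q.SplittingField
  haveI : IsScalarTower A L L' := inferInstance
  haveI : IsScalarTower (FractionRing A) L L' := inferInstance
  haveI : IsScalarTower A (FractionRing A) L' := IsScalarTower.of_algebraMap_eq fun a => by
    rw [IsScalarTower.algebraMap_apply (FractionRing A) L L', ← IsScalarTower.algebraMap_apply A _ L,
      ← IsScalarTower.algebraMap_apply A L L']
  haveI : FiniteDimensional (FractionRing A) L' := Module.Finite.trans L L'
  suffices h' : Module.Finite A (integralClosure A L') from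
    Groth.Agent.Lib.Cohen.Tate.finite_descend (IsScalarTower.toAlgHom A L L') h'
  letI : Algebra R0 A := g.toAlgebra
  let KA := FractionRing A
  haveI : FaithfulSMul R0 KA := (faithfulSMul_iff_algebraMap_injective _ _).2 <| by
    rw [IsScalarTower.algebraMap_eq R0 A KA]
    exact (IsFractionRing.injective A KA).comp hinj
  let K0 := FractionRing R0
  letI : Algebra K0 KA := FractionRing.liftAlgebra R0 KA
  let xK : KA := algebraMap A KA (algebraMap S A x)
  haveI : FiniteDimensional K0 KA := by
    have hxK : IsIntegral K0 xK := by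
      let v : S →ₐ[R0] KA :=
        { (algebraMap A KA).comp (algebraMap S A) with
          commutes' := fun c => (IsScalarTower.algebraMap_apply R0 A KA c).symm }
      obtain ⟨t, ht0, ht⟩ := halg
      refine ((IsFractionRing.isAlgebraic_iff R0 K0 KA).1 ⟨t, ht0, ?_⟩).isIntegral
      change aeval (v x) t = 0
      rw [Polynomial.aeval_algHom_apply, ht, map_zero]
    let E := IntermediateField.adjoin K0 {xK}
    haveI : FiniteDimensional K0 E := IntermediateField.adjoin.finiteDimensional hxK
    have hE : ∀ z : KA, z ∈ E := by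
      intro z
      obtain ⟨a, b, -, rfl⟩ := IsFractionRing.div_surjective A z
      have hS : ∀ s : S, algebraMap A KA (algebraMap S A s) ∈ E := by
        intro s
        have hs : s ∈ Algebra.adjoin R0 {x} := hgen ▸ Algebra.mem_top
        induction hs using Algebra.adjoin_induction with
        | mem v hv => rw [Set.mem_singleton_iff.1 hv]; exact IntermediateField.mem_adjoin_simple_self K0 xK
        | algebraMap c =>
          rw [show algebraMap S A (algebraMap R0 S c) = algebraMap R0 A c from rfl,
            ← IsScalarTower.algebraMap_apply R0 A KA, IsScalarTower.algebraMap_apply R0 K0 KA]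
          exact E.algebraMap_mem _
        | add a b _ _ ha hb => rw [map_add, map_add]; exact add_mem ha hb
        | mul a b _ _ ha hb => rw [map_mul, map_mul]; exact mul_mem ha hb
      have hA : ∀ a : A, algebraMap A KA a ∈ E := by
        intro a
        obtain ⟨s, t, rfl⟩ := IsLocalization.exists_mk'_eq P.primeCompl a
        have ht0 : algebraMap A KA (algebraMap S A t) ≠ 0 :=
          (map_ne_zero_iff _ (IsFractionRing.injective A KA)).2 (IsLocalization.map_units A t).ne_zero
        rw [show algebraMap A KA (IsLocalization.mk' A s t) =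
            algebraMap A KA (algebraMap S A s) / algebraMap A KA (algebraMap S A t) from
          (eq_div_iff ht0).2 (by rw [← map_mul, IsLocalization.mk'_spec])]
        exact div_mem (hS s) (hS t)
      exact div_mem (hA a) (hA b)
    exact Module.Finite.of_surjective E.val.toLinearMap fun z => ⟨⟨z, hE z⟩, rfl⟩
  letI : Algebra R0 L' := ((algebraMap A L').comp g).toAlgebra
  letI : Algebra K0 L' := ((algebraMap KA L').comp (algebraMap K0 KA)).toAlgebra
  haveI : IsScalarTower K0 KA L' := IsScalarTower.of_algebraMap_eq' rfl
  haveI : IsScalarTower R0 K0 L' := IsScalarTower.of_algebraMap_eq fun c => by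
    rw [IsScalarTower.algebraMap_apply K0 KA L', ← IsScalarTower.algebraMap_apply R0 K0 KA,
      IsScalarTower.algebraMap_apply R0 A KA, ← IsScalarTower.algebraMap_apply A KA L']
    rfl
  haveI : FiniteDimensional K0 L' := Module.Finite.trans KA L'
  refine finite_of_splits hR0 P hP x hgen f hfP hfm rfl ?_
  have := Polynomial.SplittingField.splits q
  rw [Polynomial.map_map] at this
  exact this

/-- Japanese local rings at maximal ideals of algebraic monogenic extensions. -/
theorem isN2_atPrime {R0 S : Type u} [CommRing R0] [IsDomain R0] (hR0 : CAlg.IsNagata R0) [CommRing S]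
    [IsDomain S] [IsNoetherianRing S] [Algebra R0 S] [FaithfulSMul R0 S] (x : S)
    (hgen : Algebra.adjoin R0 {x} = ⊤) (halg : IsAlgebraic R0 x) (P : Ideal S) [hP : P.IsMaximal] :
    CAlg.IsN2 (Localization.AtPrime P) := by
  classical
  let A := Localization.AtPrime P
  haveI : IsDomain A := IsLocalization.isDomain_localization P.primeCompl_le_nonZeroDivisors
  let m0 := P.comap (algebraMap R0 S)
  haveI : m0.IsPrime := Ideal.IsPrime.comap _
  let R1 := Localization.AtPrime m0
  haveI : IsDomain R1 := IsLocalization.isDomain_localization m0.primeCompl_le_nonZeroDivisors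
  have hR1 : CAlg.IsNagata R1 := Nagata.isNagata_of_isLocalization m0.primeCompl hR0
  have hu : ∀ c : m0.primeCompl, IsUnit (((algebraMap S A).comp (algebraMap R0 S)) c) := fun c =>
    IsLocalization.map_units A (⟨algebraMap R0 S c, c.2⟩ : P.primeCompl)
  letI : Algebra R1 A := (IsLocalization.lift (M := m0.primeCompl) hu).toAlgebra
  have hR1A : ∀ c : R0, algebraMap R1 A (algebraMap R0 R1 c) = algebraMap S A (algebraMap R0 S c) :=
    fun c => IsLocalization.lift_eq hu c
  let xA : A := algebraMap S A x
  let S1 := Algebra.adjoin R1 ({xA} : Set A)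
  let x1 : S1 := ⟨xA, Algebra.self_mem_adjoin_singleton R1 xA⟩
  have hgen1 : Algebra.adjoin R1 {x1} = ⊤ := by
    have : ({x1} : Set S1) = Subtype.val ⁻¹' ({xA} : Set A) := by
      ext z
      simp [x1, Subtype.ext_iff]
    rw [this]
    exact Algebra.adjoin_adjoin_coe_preimage
  have hSS1 : ∀ s : S, algebraMap S A s ∈ S1 := by
    intro s
    have hs : s ∈ Algebra.adjoin R0 {x} := hgen ▸ Algebra.mem_top
    induction hs using Algebra.adjoin_induction with
    | mem v hv => rw [Set.mem_singleton_iff.1 hv]; exact Algebra.self_mem_adjoin_singleton R1 xA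
    | algebraMap c => rw [← hR1A]; exact S1.algebraMap_mem _
    | add a b _ _ ha hb => rw [map_add]; exact add_mem ha hb
    | mul a b _ _ ha hb => rw [map_mul]; exact mul_mem ha hb
  let P1 : Ideal S1 := (maximalIdeal A).comap (algebraMap S1 A)
  haveI : P1.IsPrime := Ideal.IsPrime.comap _
  haveI : IsLocalization.AtPrime A P1 := by
    refine ⟨⟨fun t => ?_, fun a => ?_, fun {a b} h => ⟨1, by rw [Subtype.ext (h : (a : A) = b)]⟩⟩⟩
    · by_contra h
      exact t.2 ((mem_maximalIdeal _).2 h)
    · obtain ⟨s, t, rfl⟩ := IsLocalization.exists_mk'_eq P.primeCompl a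
      refine ⟨⟨⟨_, hSS1 s⟩, ⟨⟨_, hSS1 t⟩, fun h => (mem_maximalIdeal _).1 h
        (IsLocalization.map_units A t)⟩⟩, ?_⟩
      exact IsLocalization.mk'_spec A s t
  have hP1 : P1.comap (algebraMap R1 S1) = maximalIdeal R1 := by
    haveI : (P1.comap (algebraMap R1 S1)).IsPrime := Ideal.IsPrime.comap _
    refine ((maximalIdeal.isMaximal R1).eq_of_le Ideal.IsPrime.ne_top' ?_).symm
    rw [← IsLocalization.map_under m0.primeCompl R1 (maximalIdeal R1), Ideal.map_le_iff_le_comap]
    intro c hc
    change algebraMap R1 A (algebraMap R0 R1 c) ∈ maximalIdeal A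
    rw [hR1A]
    exact (IsLocalization.AtPrime.to_map_mem_maximal_iff A P _).2
      ((IsLocalization.AtPrime.to_map_mem_maximal_iff R1 m0 c).1 hc)
  obtain ⟨f, hfm, hfP⟩ : ∃ f : R1[X], f.Monic ∧ aeval x1 f ∈ P1 := by
    let k := ResidueField A
    have hks : Function.Surjective ((residue A).comp (algebraMap S1 A)) := by
      intro z
      obtain ⟨a, rfl⟩ := residue_surjective z
      obtain ⟨s, t, rfl⟩ := IsLocalization.exists_mk'_eq P.primeCompl a
      obtain ⟨t', ht'⟩ := hP.exists_inv t.2
      obtain ⟨p, hp, he⟩ := ht'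
      refine ⟨⟨_, hSS1 (s * t')⟩, ?_⟩
      change residue A (algebraMap S A (s * t')) = _
      rw [← sub_eq_zero, ← map_sub, residue_eq_zero_iff]
      have : algebraMap S A (s * t') - IsLocalization.mk' A s t =
          - (IsLocalization.mk' A s t * algebraMap S A p) := by
        have h1 : algebraMap S A t' * algebraMap S A t + algebraMap S A p = 1 := by
          rw [← map_mul, ← map_add, he, map_one]
        rw [map_mul, ← IsLocalization.mk'_spec A s t]
        linear_combination (IsLocalization.mk' A s t) * h1
      rw [this]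
      exact neg_mem (Ideal.mul_mem_left _ _ ((IsLocalization.AtPrime.to_map_mem_maximal_iff A P p).2 hp))
    let k0 := ResidueField R1
    have hker : ∀ c ∈ maximalIdeal R1, residue A (algebraMap R1 A c) = 0 := fun c hc =>
      (residue_eq_zero_iff _).2 (hP1.ge hc)
    letI : Algebra k0 k :=
      (Ideal.Quotient.lift (maximalIdeal R1) ((residue A).comp (algebraMap R1 A)) hker).toAlgebra
    let v : S1 →ₐ[R1] k :=
      { (residue A).comp (algebraMap S1 A) with commutes' := fun c => rfl }
    haveI : IsScalarTower R1 k0 k := IsScalarTower.of_algebraMap_eq fun c => rfl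
    haveI : Algebra.FiniteType R1 S1 := by
      rw [← Subalgebra.fg_iff_finiteType]
      exact ⟨{xA}, by rw [Finset.coe_singleton]⟩
    haveI : Algebra.FiniteType R1 k := Algebra.FiniteType.of_surjective v hks
    haveI : Algebra.FiniteType k0 k := Algebra.FiniteType.of_restrictScalars_finiteType R1 k0 k
    haveI : Module.Finite k0 k := finite_of_finite_type_of_isJacobsonRing k0 k
    haveI : Algebra.IsIntegral R1 k0 :=
      ⟨fun z => by obtain ⟨c, rfl⟩ := residue_surjective z; exact isIntegral_algebraMap⟩
    have : IsIntegral R1 (v x1) := isIntegral_trans (R := R1) (A := k0) _ (Algebra.IsIntegral.isIntegral _)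
    obtain ⟨f, hfm, hf⟩ := this
    refine ⟨f, hfm, (residue_eq_zero_iff _).1 ?_⟩
    change v (aeval x1 f) = 0
    rw [← Polynomial.aeval_algHom_apply]
    exact hf
  haveI := hR1.1
  have hinj : Function.Injective (algebraMap R1 A) :=
    (IsLocalization.lift_injective_iff hu).2 fun a b =>
      ⟨fun h => congrArg _ (IsLocalization.injective R1 m0.primeCompl_le_nonZeroDivisors h), fun h =>
        congrArg _ (FaithfulSMul.algebraMap_injective R0 S
          (IsLocalization.injective A P.primeCompl_le_nonZeroDivisors h))⟩
  have halg1 : IsAlgebraic R1 x1 := by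
    obtain ⟨t, ht0, ht⟩ := halg
    refine ⟨t.map (algebraMap R0 R1), (Polynomial.map_ne_zero_iff
      (IsLocalization.injective R1 m0.primeCompl_le_nonZeroDivisors)).2 ht0, Subtype.ext ?_⟩
    change S1.val (aeval x1 (t.map (algebraMap R0 R1))) = 0
    rw [← Polynomial.aeval_algHom_apply, Polynomial.aeval_def, Polynomial.eval₂_map]
    have h1 := congrArg (algebraMap S A) ht
    rw [Polynomial.aeval_def, Polynomial.hom_eval₂, map_zero] at h1
    rw [show (algebraMap R1 A).comp (algebraMap R0 R1) = (algebraMap S A).comp (algebraMap R0 S) from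
      RingHom.ext hR1A]
    exact h1
  exact isN2_closed_point hR1 P1 hP1 x1 hgen1 f hfP hfm hinj halg1

/-- Monogenic domain extensions of Nagata domains are Japanese. -/
theorem isN2_monogenic {R0 S : Type u} [CommRing R0] [IsDomain R0] (hR0 : CAlg.IsNagata R0) [CommRing S]
    [IsDomain S] [Algebra R0 S] [FaithfulSMul R0 S] (x : S) (hgen : Algebra.adjoin R0 {x} = ⊤) :
    CAlg.IsN2 S := by
  haveI := hR0.1
  by_cases halg : IsAlgebraic R0 x
  swap
  · have hsurj : Function.Surjective (aeval (R := R0) x) := by
      rw [← AlgHom.range_eq_top, ← Algebra.adjoin_singleton_eq_range_aeval, hgen]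
    exact Nagata.isN2_of_ringEquiv
      (RingEquiv.ofBijective (aeval (R := R0) x) ⟨transcendental_iff_injective.1 halg, hsurj⟩)
      (Groth.Agent.Lib.Cohen.PolynomialN2.isN2_polynomial R0 (isN2_of_isNagata hR0))
  haveI : Algebra.FiniteType R0 S := ⟨⟨{x}, by rw [Finset.coe_singleton, hgen]⟩⟩
  haveI : IsNoetherianRing S := Algebra.FiniteType.isNoetherianRing R0 S
  refine Groth.Agent.Lib.Cohen.NagataGlobal.isN2_of_local ?_ ?_
  · intro B _ _ _ hB hBf
    haveI := hB
    haveI := hBf
    letI : Algebra R0 B := ((algebraMap S B).comp (algebraMap R0 S)).toAlgebra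
    haveI : IsScalarTower R0 S B := IsScalarTower.of_algebraMap_eq' rfl
    haveI : Algebra.FiniteType R0 B := Algebra.FiniteType.trans (S := S) inferInstance inferInstance
    haveI : FaithfulSMul R0 B := (faithfulSMul_iff_algebraMap_injective _ _).2
      ((FaithfulSMul.algebraMap_injective S B).comp (FaithfulSMul.algebraMap_injective R0 S))
    refine GenericNormalExt.genNor_of_finiteType (A := R0) fun A' _ _ _ hA' => ?_
    haveI := hA'
    have h := Groth.Agent.Lib.Cohen.Bridge.isNagata_of_finite (R := A') hR0
    haveI := h.1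
    exact genNor_of_isN2 (isN2_of_isNagata h)
  · intro p hp
    obtain ⟨P, hP, hle⟩ := Ideal.exists_le_maximal p hp.ne_top
    haveI := hP
    have hsub : P.primeCompl ≤ p.primeCompl := fun a ha h => ha (hle h)
    letI := IsLocalization.localizationAlgebraOfSubmonoidLe (Localization.AtPrime P)
      (Localization.AtPrime p) P.primeCompl p.primeCompl hsub
    haveI := IsLocalization.localization_isScalarTower_of_submonoid_le (Localization.AtPrime P)
      (Localization.AtPrime p) P.primeCompl p.primeCompl hsub
    haveI := IsLocalization.isLocalization_of_submonoid_le (Localization.AtPrime P)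
      (Localization.AtPrime p) P.primeCompl p.primeCompl hsub
    haveI : IsDomain (Localization.AtPrime P) :=
      IsLocalization.isDomain_localization P.primeCompl_le_nonZeroDivisors
    haveI : IsDomain (Localization.AtPrime p) :=
      IsLocalization.isDomain_localization p.primeCompl_le_nonZeroDivisors
    exact Nagata.isN2_of_isLocalization
      (p.primeCompl.map (algebraMap S (Localization.AtPrime P)))
      (isN2_atPrime hR0 x hgen halg P)

/-- Polynomial rings over Nagata rings are Nagata. -/
theorem isNagata_polynomial {R : Type u} [CommRing R] (hR : CAlg.IsNagata R) : CAlg.IsNagata R[X] := by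
  haveI := hR.1
  refine ⟨inferInstance, fun q _ => ?_⟩
  let p := q.comap (C : R →+* R[X])
  haveI : p.IsPrime := Ideal.IsPrime.comap _
  haveI : IsDomain (R ⧸ p) := Ideal.Quotient.isDomain p
  haveI : IsDomain (R[X] ⧸ q) := Ideal.Quotient.isDomain q
  letI : Algebra (R ⧸ p) (R[X] ⧸ q) := (Ideal.quotientMap q (C : R →+* R[X]) le_rfl).toAlgebra
  haveI : FaithfulSMul (R ⧸ p) (R[X] ⧸ q) :=
    (faithfulSMul_iff_algebraMap_injective _ _).2 Ideal.quotientMap_injective
  refine isN2_monogenic (R0 := R ⧸ p) (Nagata.isNagata_quotient hR p) (Ideal.Quotient.mk q X) ?_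
  rw [eq_top_iff]
  rintro z -
  obtain ⟨t, rfl⟩ := Ideal.Quotient.mk_surjective z
  induction t using Polynomial.induction_on' with
  | add a b ha hb => rw [map_add]; exact add_mem ha hb
  | monomial n a =>
    rw [← Polynomial.C_mul_X_pow_eq_monomial, map_mul, map_pow]
    refine mul_mem ?_ (pow_mem (Algebra.self_mem_adjoin_singleton _ _) n)
    rw [show Ideal.Quotient.mk q (C a) = algebraMap (R ⧸ p) (R[X] ⧸ q) (Ideal.Quotient.mk p a) from rfl]
    exact Subalgebra.algebraMap_mem _ _

/-- Algebras of finite type over Nagata rings are Nagata. -/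
theorem isNagata_of_finiteType {R S : Type u} [CommRing R] (hR : CAlg.IsNagata R) [CommRing S]
    [Algebra R S] [h : Algebra.FiniteType R S] : CAlg.IsNagata S := by
  obtain ⟨n, f, hf⟩ := Algebra.FiniteType.iff_quotient_mvPolynomial''.1 h
  have hn : ∀ n : ℕ, CAlg.IsNagata (MvPolynomial (Fin n) R) := by
    intro n
    induction n with
    | zero =>
      exact Groth.Agent.Lib.Cohen.Unramified.isNagata_of_surjective hR
        (MvPolynomial.isEmptyRingEquiv R (Fin 0)).symm.toRingHom
        (MvPolynomial.isEmptyRingEquiv R (Fin 0)).symm.surjective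
    | succ n ih =>
      exact Groth.Agent.Lib.Cohen.Unramified.isNagata_of_surjective (isNagata_polynomial ih)
        (MvPolynomial.finSuccEquiv R n).symm.toRingEquiv.toRingHom
        (MvPolynomial.finSuccEquiv R n).symm.surjective
  exact Groth.Agent.Lib.Cohen.Unramified.isNagata_of_surjective (hn n) f.toRingHom hf

end Groth.Agent.Lib.Cohen.NagataFiniteType
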