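import Groth.Agent.Lib.Cohen.CompleteNagata
import Groth.Agent.Lib.Adic.Complete

/-!
# Cohen's presentation of complete Noetherian local rings
-/

set_option linter.style.haveILetI false

universe u

open IsLocalRing

namespace Groth.Agent.Lib.Cohen.Presentation

variable (R : Type u) [CommRing R] [IsLocalRing R] [IsNoetherianRing R]
  [IsAdicComplete (maximalIdeal R) R]

/-- A complete Noetherian local ring is a quotient of `Λ[[X]]` for a regular coefficient ring with the
same residue field. -/
theorem exists_surjective {Λ : Type u} [CommRing Λ] [IsLocalRing Λ]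
    [IsAdicComplete (maximalIdeal Λ) Λ] (f : Λ →+* R)
    (hloc : (maximalIdeal Λ).map f ≤ maximalIdeal R)
    (hf : Function.Surjective ((residue R).comp f)) :
    ∃ (n : ℕ) (g : MvPowerSeries (Fin n) Λ →+* R), Function.Surjective g := by
  classical
  letI := f.toAlgebra
  obtain ⟨n, x, hx⟩ := Submodule.fg_iff_exists_fin_generating_family.1
    (IsNoetherian.noetherian (maximalIdeal R))
  change Ideal.span (Set.range x) = maximalIdeal R at hx
  have hxm : ∀ i, x i ∈ maximalIdeal R := fun i => hx ▸ Ideal.subset_span ⟨i, rfl⟩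
  obtain ⟨g, hgX, hgfin⟩ := FiniteOver.exists_finite_algHom (Λ := Λ) hloc hf x hxm
    (le_trans (by rw [hx]; exact le_sup_right) Ideal.le_radical)
  refine ⟨n, g.toRingHom, ?_⟩
  letI : Algebra (MvPowerSeries (Fin n) Λ) R := g.toRingHom.toAlgebra
  haveI : Module.Finite (MvPowerSeries (Fin n) Λ) R := hgfin
  let N : Submodule (MvPowerSeries (Fin n) Λ) R := LinearMap.range (Algebra.linearMap _ R)
  have hX : ∀ i, (MvPowerSeries.X i : MvPowerSeries (Fin n) Λ) ∈
      maximalIdeal (MvPowerSeries (Fin n) Λ) := fun i => by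
    rw [mem_maximalIdeal, mem_nonunits_iff, MvPowerSeries.isUnit_iff_constantCoeff]
    simp
  have htop : (⊤ : Submodule (MvPowerSeries (Fin n) Λ) R) ≤ N := by
    refine Submodule.le_of_le_smul_of_le_jacobson_bot Module.Finite.fg_top
      (jacobson_eq_maximalIdeal ⊥ bot_ne_top).ge ?_
    intro r _
    obtain ⟨l, hl⟩ := hf (residue R r)
    refine Submodule.mem_sup.2 ⟨f l, ⟨algebraMap Λ _ l, g.commutes l⟩, r - f l, ?_, by abel⟩
    rw [Ideal.smul_top_eq_map, Submodule.restrictScalars_mem]
    refine (le_of_eq_of_le hx.symm (Ideal.span_le.2 ?_)) ?_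
    · rintro _ ⟨i, rfl⟩
      exact hgX i ▸ Ideal.mem_map_of_mem (algebraMap (MvPowerSeries (Fin n) Λ) R) (hX i)
    · rw [← residue_eq_zero_iff, map_sub, sub_eq_zero]
      exact hl.symm
  intro r
  exact htop (Submodule.mem_top (x := r))

/-- The Cohen structure theorem. -/
theorem exists_surjective_mvPowerSeries :
    ∃ (Λ : Type u) (_ : CommRing Λ) (n : ℕ) (g : MvPowerSeries (Fin n) Λ →+* R),
      (IsField Λ ∨ CAlg.IsCohenRing Λ) ∧ IsRegularLocalRing (MvPowerSeries (Fin n) Λ) ∧
      Function.Surjective g := by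
  obtain ⟨p, hp⟩ := CharP.exists (ResidueField R)
  obtain hp' | hp' := CharP.char_is_prime_or_zero (ResidueField R) p
  · haveI := Fact.mk hp'
    have hpm : (p : R) ∈ maximalIdeal R := by
      rw [← residue_eq_zero_iff, map_natCast, CharP.cast_eq_zero]
    obtain ⟨Λ, _, hloc, hΛ, hmax, f, hfm, hf⟩ :=
      Groth.Agent.Lib.Cohen.Exists.exists_cohenRing_hom R p hpm
    have hΛ' := hΛ
    obtain ⟨_, _, _, -⟩ := hΛ'
    obtain ⟨n, g, hg⟩ := exists_surjective R f
      (Ideal.map_le_iff_le_comap.2 fun l hl => (hfm l).1 hl) hf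
    exact ⟨Λ, inferInstance, n, g, Or.inr hΛ, (PSRegular.mvPowerSeries Λ n).1, hg⟩
  · subst hp'
    haveI := CharP.charP_to_charZero (ResidueField R)
    have hunit : ∀ m : ℤ, m ≠ 0 → IsUnit (m : R) := fun m hm => by
      by_contra hu
      have := (residue_eq_zero_iff (m : R)).2 hu
      rw [map_intCast] at this
      exact hm (Int.cast_eq_zero.1 this)
    let φ : ℚ →+* R := IsLocalization.lift (M := nonZeroDivisors ℤ) (g := Int.castRingHom R)
      fun y => hunit _ (nonZeroDivisors.coe_ne_zero y)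
    letI : Algebra (ULift.{u} ℚ) R :=
      (φ.comp (ULift.ringEquiv : ULift.{u} ℚ ≃+* ℚ).toRingHom).toAlgebra
    obtain ⟨σ, hσ⟩ := Groth.Agent.H24.CoefficientField.exists_coefficientField R (ULift.{u} ℚ)
    haveI : IsAdicComplete (maximalIdeal (ResidueField R)) (ResidueField R) := by
      rw [IsLocalRing.maximalIdeal_eq_bot]; infer_instance
    obtain ⟨n, g, hg⟩ := exists_surjective R σ
      (by rw [IsLocalRing.maximalIdeal_eq_bot, Ideal.map_bot]; exact bot_le) fun z => ⟨z, hσ z⟩
    exact ⟨ResidueField R, inferInstance, n, g, Or.inl (Field.toIsField _),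
      (PSRegular.mvPowerSeries (ResidueField R) n).1, hg⟩

end Groth.Agent.Lib.Cohen.Presentation
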