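import Groth.Agent.Lib.Cohen.Subring
import Groth.Agent.Lib.PBasis.Separable
import Mathlib.RingTheory.WittVector.Complete
import Mathlib.RingTheory.WittVector.Domain
import Mathlib.RingTheory.WittVector.DiscreteValuationRing
import Mathlib.RingTheory.WittVector.Teichmuller
import Mathlib.FieldTheory.IsAlgClosed.AlgebraicClosure
import Mathlib.Algebra.Field.ULift
import Mathlib.RingTheory.AdicCompletion.Basic

/-!
# Existence of Cohen rings over complete local rings

A complete local ring `R` with residue characteristic `p` receives a local homomorphism from a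
Cohen ring inducing an isomorphism of residue fields.  The Cohen ring is the subring `Λ` of
`R ×_k̄ W(k̄)` attached to a p-basis of `k`.
-/

universe u

open IsLocalRing EGA41 Groth.Agent.Lib.Cohen.Powers Groth.Agent.Lib.PBasis.Basic

namespace Groth.Agent.Lib.Cohen.Exists

/-- Every local ring with `p` in the maximal ideal has a lift of a p-basis of its residue field. -/
theorem exists_pLift (R : Type u) [CommRing R] [IsLocalRing R] (p : ℕ) [Fact p.Prime]
    (hp : (p : R) ∈ maximalIdeal R) : ∃ (ι : Type u) (b : ι → R), IsPLift p b := by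
  haveI : CharP (ResidueField R) p := (CharP.charP_iff_prime_eq_zero (Fact.out : p.Prime)).2
    (by rw [← map_natCast (residue R), residue_eq_zero_iff]; exact hp)
  let P := ULift.{u} (ZMod p)
  letI : Algebra P (ResidueField R) :=
    ((ZMod.castHom (dvd_refl p) (ResidueField R)).comp
      (ULift.ringEquiv : P ≃+* ZMod p).toRingHom).toAlgebra
  haveI : CharP P p := charP_of_injective_ringHom
    (f := (ULift.ringEquiv : P ≃+* ZMod p).symm.toRingHom) (RingEquiv.injective _) p
  haveI : Finite P := Finite.of_equiv (ZMod p) Equiv.ulift.symm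
  haveI : PerfectRing P p := PerfectRing.ofFiniteOfIsReduced p P
  obtain ⟨B, hB⟩ := Groth.Agent.Lib.PBasis.Separable.exists_pBasis' (k := ResidueField R) p P
  choose b hb using fun i : B => residue_surjective (i : ResidueField R)
  have hbB : (fun i => residue R (b i)) = (Subtype.val : B → ResidueField R) := funext hb
  let pw : ResidueField R → pPowerSubalgebra p P (ResidueField R) :=
    fun a => ⟨a ^ p, pow_mem_pPower p a⟩
  refine ⟨B, b, hp, ?_, ?_⟩
  · intro c hc
    rw [hbB] at hc
    let d := c.mapRange pw (Subtype.ext (by simp [pw, (Fact.out : p.Prime).ne_zero]))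
    have hd : d = 0 := linearIndependent_iff.1 hB.1 d (by
      rw [Finsupp.linearCombination_apply, Finsupp.sum_mapRange_index (fun _ => by simp)]
      simpa [pw, Algebra.smul_def, Finsupp.sum] using hc)
    ext e
    have := congrArg Subtype.val (DFunLike.congr_fun hd e)
    simpa [d, pw, (Fact.out : p.Prime).ne_zero] using this
  · intro z
    have hz : z ∈ Submodule.span (pPowerSubalgebra p P (ResidueField R))
        (Set.range (monos p (Subtype.val : B → ResidueField R))) := by
      rw [show Submodule.span _ (Set.range (monos p (Subtype.val : B → ResidueField R))) = ⊤ from hB.2]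
      trivial
    obtain ⟨c, hc⟩ := Finsupp.mem_span_range_iff_exists_finsupp.1 hz
    choose r hr using fun y : pPowerSubalgebra p P (ResidueField R) =>
      (Groth.Agent.Lib.PBasis.Separable.mem_pPower_iff (K := ResidueField R)
        p P (y : ResidueField R)).1 y.2
    refine ⟨c.mapRange r ((pow_eq_zero_iff (Fact.out : p.Prime).ne_zero).1 (by simpa using hr 0)), ?_⟩
    rw [Finsupp.sum_mapRange_index (fun _ => by simp [(Fact.out : p.Prime).ne_zero]), hbB, ← hc]
    simp [hr, Algebra.smul_def, Finsupp.sum]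

variable (R : Type u) [CommRing R] [IsLocalRing R] [IsAdicComplete (maximalIdeal R) R]
  (p : ℕ) [Fact p.Prime]

/-- A complete local ring with residue characteristic `p` receives a Cohen ring with the same
residue field. -/
theorem exists_cohenRing_hom (hp : (p : R) ∈ maximalIdeal R) :
    ∃ (Λ : Type u) (_ : CommRing Λ) (_ : IsLocalRing Λ), CAlg.IsCohenRing Λ ∧
      maximalIdeal Λ = Ideal.span {(p : Λ)} ∧
      ∃ f : Λ →+* R, (∀ x, x ∈ maximalIdeal Λ ↔ f x ∈ maximalIdeal R) ∧
        Function.Surjective ((residue R).comp f) := by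
  classical
  haveI : CharP (ResidueField R) p := (CharP.charP_iff_prime_eq_zero (Fact.out : p.Prime)).2
    (by rw [← map_natCast (residue R), residue_eq_zero_iff]; exact hp)
  let K := AlgebraicClosure (ResidueField R)
  haveI : CharP K p := charP_of_injective_algebraMap (algebraMap (ResidueField R) K).injective p
  haveI : PerfectRing K p := IsAlgClosed.perfectRing K p
  let W := WittVector p K
  let c : W →+* K := WittVector.constantCoeff
  have hc : ∀ w : W, w ∈ Ideal.span {(p : W)} ↔ c w = 0 := fun w => by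
    rw [← WittVector.ker_constantCoeff, RingHom.mem_ker]
  have hcsurj : Function.Surjective c := WittVector.constantCoeff_surjective p
  let q : R →+* K := (algebraMap (ResidueField R) K).comp (residue R)
  have hq : ∀ r : R, r ∈ maximalIdeal R ↔ q r = 0 := fun r => by
    rw [← residue_eq_zero_iff]
    exact (map_eq_zero (algebraMap (ResidueField R) K)).symm
  let T : _root_.Subring (R × W) := RingHom.eqLocus (q.comp (RingHom.fst R W)) (c.comp (RingHom.snd R W))
  have hT : ∀ {r : R} {w : W}, q r = c w → (r, w) ∈ T := fun h => h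
  let ρ : T →+* R := (RingHom.fst R W).comp T.subtype
  let π : T →+* W := (RingHom.snd R W).comp T.subtype
  have hρπ : ∀ x : T, q (ρ x) = c (π x) := fun x => x.2
  have hρsurj : Function.Surjective ρ := fun r => by
    obtain ⟨w, hw⟩ := hcsurj (q r)
    exact ⟨⟨(r, w), hT hw.symm⟩, rfl⟩
  have hWunit : ∀ w : W, c w ≠ 0 → IsUnit w := fun w hw => WittVector.isUnit_of_coeff_zero_ne_zero w hw
  have hTunit : ∀ x : T, IsUnit x ↔ IsUnit (ρ x) := by
    refine fun x => ⟨fun h => h.map ρ, fun h => ?_⟩
    obtain ⟨r, hr⟩ := isUnit_iff_exists_inv.1 h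
    have hc0 : c (π x) ≠ 0 := by
      rw [← hρπ, Ne, ← hq]
      exact fun hm => (mem_maximalIdeal _).1 hm h
    obtain ⟨w, hw⟩ := isUnit_iff_exists_inv.1 (hWunit _ hc0)
    have hmem : (r, w) ∈ T := hT (mul_left_cancel₀ hc0 (by
      nth_rewrite 1 [← hρπ]
      rw [← map_mul, hr, ← map_mul, hw, map_one, map_one]))
    exact IsUnit.of_mul_eq_one (b := ⟨(r, w), hmem⟩) (Subtype.ext (Prod.ext hr hw))
  haveI : Nontrivial T := ρ.domain_nontrivial
  haveI : IsLocalRing T := IsLocalRing.of_nonunits_add fun a b ha hb => by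
    rw [mem_nonunits_iff, hTunit] at ha hb ⊢
    rw [map_add]
    exact IsLocalRing.nonunits_add ha hb
  have hmT : ∀ x : T, x ∈ maximalIdeal T ↔ ρ x ∈ maximalIdeal R := fun x => by
    rw [mem_maximalIdeal, mem_maximalIdeal, mem_nonunits_iff, mem_nonunits_iff, hTunit]
  have hm : ∀ x : T, x ∈ maximalIdeal T ↔ π x ∈ Ideal.span {(p : W)} := fun x => by
    rw [hmT, hq, hρπ, hc]
  have hmap : (maximalIdeal T).map ρ = maximalIdeal R := by
    refine le_antisymm (Ideal.map_le_iff_le_comap.2 fun x hx => (hmT x).1 hx) fun r hr => ?_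
    obtain ⟨x, rfl⟩ := hρsurj r
    exact Ideal.mem_map_of_mem ρ ((hmT x).2 hr)
  have hpow : ∀ (n : ℕ) (x : T), x ∈ maximalIdeal T ^ n ↔
      ρ x ∈ maximalIdeal R ^ n ∧ (p : W) ^ n ∣ π x := by
    intro n x
    constructor
    · intro hx
      refine ⟨?_, Groth.Agent.Lib.Cohen.Subring.dvd_of_mem_pow π hm hx⟩
      rw [← hmap, ← Ideal.map_pow]
      exact Ideal.mem_map_of_mem ρ hx
    · rintro ⟨h1, h2⟩
      rcases n with _ | n
      · simp
      rw [← hmap, ← Ideal.map_pow, Ideal.mem_map_iff_of_surjective ρ hρsurj] at h1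
      obtain ⟨y, hy, hyx⟩ := h1
      obtain ⟨v, hv⟩ := dvd_sub h2 (Groth.Agent.Lib.Cohen.Subring.dvd_of_mem_pow π hm hy)
      rw [← map_sub] at hv
      have hcp : c (p : W) = 0 := (hc _).1 (Ideal.mem_span_singleton_self _)
      let a : T := ⟨(0, (p : W)), hT (by rw [map_zero, hcp])⟩
      let e : T := ⟨(0, (p : W) * v), hT (by rw [map_zero, map_mul, hcp, zero_mul])⟩
      have ha : a ∈ maximalIdeal T := (hmT a).2 (zero_mem _)
      have he : e ∈ maximalIdeal T := (hmT e).2 (zero_mem _)
      have hxy : x - y = a ^ n * e := by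
        refine Subtype.ext (Prod.ext ?_ ?_)
        · change ρ (x - y) = ρ (a ^ n * e)
          rw [map_sub, hyx, sub_self, map_mul, show ρ e = 0 from rfl, mul_zero]
        · change π (x - y) = π (a ^ n * e)
          rw [hv, map_mul, map_pow, show π a = (p : W) from rfl, show π e = (p : W) * v from rfl,
            pow_succ, mul_assoc]
      have : a ^ n * e ∈ maximalIdeal T ^ (n + 1) := by
        rw [pow_succ (maximalIdeal T)]
        exact Ideal.mul_mem_mul (Ideal.pow_mem_pow ha n) he
      rw [← sub_add_cancel x y, hxy]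
      exact add_mem this hy
  haveI : IsAdicComplete (maximalIdeal T) T := by
    refine { haus' := fun x hx => ?_, prec' := fun f hf => ?_ }
    · have hx' : ∀ n, x ∈ maximalIdeal T ^ n := fun n => by
        have := hx n
        rwa [SModEq.sub_mem, sub_zero, smul_eq_mul, Ideal.mul_top] at this
      refine Subtype.ext (Prod.ext ?_ ?_)
      · exact Groth.Agent.Lib.Cohen.Subring.eq_zero_of_forall_mem_pow (R := R)
          fun n => ((hpow n x).1 (hx' n)).1
      · refine IsHausdorff.haus' (I := Ideal.span {(p : W)}) (π x) fun n => ?_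
        rw [SModEq.sub_mem, sub_zero, smul_eq_mul, Ideal.mul_top, Ideal.span_singleton_pow,
          Ideal.mem_span_singleton]
        exact ((hpow n x).1 (hx' n)).2
    · have hf' : ∀ {m n}, m ≤ n → f m - f n ∈ maximalIdeal T ^ m := fun hmn => by
        have := hf hmn
        rwa [SModEq.sub_mem, smul_eq_mul, Ideal.mul_top] at this
      obtain ⟨L, hL⟩ := IsPrecomplete.prec (I := maximalIdeal R) (M := R) inferInstance
        (f := fun n => ρ (f n)) (fun {m n} hmn => by
          rw [SModEq.sub_mem, smul_eq_mul, Ideal.mul_top, ← map_sub]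
          exact ((hpow m _).1 (hf' hmn)).1)
      obtain ⟨w, hw⟩ := IsPrecomplete.prec (I := Ideal.span {(p : W)}) (M := W) inferInstance
        (f := fun n => π (f n)) (fun {m n} hmn => by
          rw [SModEq.sub_mem, smul_eq_mul, Ideal.mul_top, Ideal.span_singleton_pow,
            Ideal.mem_span_singleton, ← map_sub]
          exact ((hpow m _).1 (hf' hmn)).2)
      simp only [SModEq.sub_mem, smul_eq_mul, Ideal.mul_top] at hL hw
      have hmem : (L, w) ∈ T := hT (by
        have h1 := hL 1
        have h2 := hw 1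
        rw [pow_one] at h1 h2
        rw [hq, map_sub, sub_eq_zero] at h1
        rw [hc, map_sub, sub_eq_zero] at h2
        rw [← h1, ← h2, hρπ])
      refine ⟨⟨(L, w), hmem⟩, fun n => ?_⟩
      rw [SModEq.sub_mem, smul_eq_mul, Ideal.mul_top, hpow]
      refine ⟨hL n, ?_⟩
      have := hw n
      rwa [Ideal.span_singleton_pow, Ideal.mem_span_singleton] at this
  have hpT : (p : T) ∈ maximalIdeal T := (hmT _).2 (by rw [map_natCast]; exact hp)
  obtain ⟨ι, b, hb⟩ := exists_pLift T p hpT
  have hp0 : (p : W) ≠ 0 := WittVector.p_nonzero p K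
  have hpu : ¬IsUnit (p : W) := fun h => (h.map c).ne_zero ((hc _).1 (Ideal.mem_span_singleton_self _))
  obtain ⟨hΛ, hloc, hmem, hsurj⟩ := Groth.Agent.Lib.Cohen.Subring.isCohenRing π hm
    (IsRegular.of_ne_zero hp0) hb (fun w hw => IsHausdorff.haus' (I := Ideal.span {(p : W)}) w
      fun n => by
        rw [SModEq.sub_mem, sub_zero, smul_eq_mul, Ideal.mul_top, Ideal.span_singleton_pow,
          Ideal.mem_span_singleton]
        exact hw n) hpu
  refine ⟨Groth.Agent.Lib.Cohen.Subring.Lam p b, inferInstance, hloc, hΛ, ?_,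
    ρ.comp (Groth.Agent.Lib.Cohen.Subring.Lam p b).subtype,
    fun x => (hmem x).trans (hmT _), fun z => ?_⟩
  · ext x
    rw [hmem, Ideal.mem_span_singleton]
    refine ⟨fun hx => ?_, ?_⟩
    · obtain ⟨y, hy, e⟩ := Groth.Agent.Lib.Cohen.Subring.exists_eq_mul π hm
        (IsRegular.of_ne_zero hp0) hb x.2 hx
      exact ⟨⟨y, hy⟩, Subtype.ext e⟩
    · rintro ⟨y, rfl⟩
      exact Ideal.mul_mem_right _ _ hpT
  · obtain ⟨r, rfl⟩ := residue_surjective z
    obtain ⟨x, rfl⟩ := hρsurj r
    obtain ⟨y, hy⟩ := hsurj (residue T x)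
    refine ⟨y, ?_⟩
    change residue R (ρ y.1) = residue R (ρ x)
    rw [← sub_eq_zero, ← map_sub, ← map_sub, residue_eq_zero_iff, ← hmT, ← residue_eq_zero_iff,
      map_sub, sub_eq_zero]
    exact hy

end Groth.Agent.Lib.Cohen.Exists
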