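import Groth.Agent.H24.PowerSeries
import Groth.Agent.Lib.Adic.Complete
import Mathlib.RingTheory.AdicCompletion.Noetherian

/-!
# Finiteness over power series rings

A complete Noetherian local ring `R` is finite over `Λ[[X_1, …, X_d]]` as soon as `Λ` is complete
local with the same residue field and the images of `m_Λ` and of the variables generate an ideal
with radical the maximal ideal.
-/

universe u

open IsLocalRing

namespace Groth.Agent.Lib.Cohen.FiniteOver

variable {Λ : Type u} [CommRing Λ] {R : Type u} [CommRing R] [IsLocalRing R] [IsNoetherianRing R]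
  [Algebra Λ R]

/-- If `R` has the residue field of `Λ`, every quotient by an ideal containing a power of the
maximal ideal is finite over `Λ`. -/
theorem finite_quotient (hres : Function.Surjective ((residue R).comp (algebraMap Λ R)))
    (J : Ideal R) {N : ℕ} (hJ : maximalIdeal R ^ N ≤ J) : Module.Finite Λ (R ⧸ J) := by
  classical
  choose s hs using fun j : ℕ => IsNoetherian.noetherian (maximalIdeal R ^ j)
  let G : Finset R := (Finset.range N).biUnion s
  let S : Submodule Λ R := Submodule.span Λ (G : Set R)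
  have step : ∀ j ≤ N, ∀ r : R, ∃ a ∈ S, r - a ∈ maximalIdeal R ^ j := by
    intro j hj
    induction j with
    | zero => exact fun r => ⟨0, zero_mem _, by simp⟩
    | succ j ih =>
      intro r
      obtain ⟨a, ha, hra⟩ := ih (by omega) r
      suffices h : ∀ y ∈ maximalIdeal R ^ j, ∃ c ∈ S, y - c ∈ maximalIdeal R ^ (j + 1) by
        obtain ⟨c, hc, hd⟩ := h _ hra
        exact ⟨a + c, add_mem ha hc, by rw [← sub_sub]; exact hd⟩
      intro y hy
      rw [← hs j] at hy
      induction hy using Submodule.span_induction with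
      | mem x hx =>
        exact ⟨x, Submodule.subset_span (Finset.mem_biUnion.2 ⟨j, Finset.mem_range.2 (by omega), hx⟩),
          by simp⟩
      | zero => exact ⟨0, zero_mem _, by simp⟩
      | add x z _ _ hx hz =>
        obtain ⟨c, hc, hd⟩ := hx
        obtain ⟨c', hc', hd'⟩ := hz
        exact ⟨c + c', add_mem hc hc', by rw [add_sub_add_comm]; exact add_mem hd hd'⟩
      | smul t x hx' hx =>
        obtain ⟨c, hc, hd⟩ := hx
        obtain ⟨l, hl⟩ := hres (residue R t)
        refine ⟨l • c, S.smul_mem l hc, ?_⟩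
        have h1 : t - algebraMap Λ R l ∈ maximalIdeal R := by
          rw [← residue_eq_zero_iff, map_sub, sub_eq_zero]
          exact hl.symm
        have hxj : x ∈ maximalIdeal R ^ j := by rw [← hs j]; exact hx'
        have h2 : (t - algebraMap Λ R l) * x ∈ maximalIdeal R ^ (j + 1) := by
          rw [pow_succ']
          exact Ideal.mul_mem_mul h1 hxj
        convert add_mem h2 (Ideal.mul_mem_left _ (algebraMap Λ R l) hd) using 1
        rw [smul_eq_mul, Algebra.smul_def]
        ring
  refine ⟨⟨G.image (Ideal.Quotient.mk J), top_le_iff.1 fun z _ => ?_⟩⟩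
  obtain ⟨r, rfl⟩ := Ideal.Quotient.mk_surjective z
  obtain ⟨a, ha, hra⟩ := step N le_rfl r
  rw [show Ideal.Quotient.mk J r = (Ideal.Quotient.mkₐ Λ J).toLinearMap a from
    (Ideal.Quotient.eq.2 (hJ hra)), Finset.coe_image]
  exact (Submodule.span_image (Ideal.Quotient.mkₐ Λ J).toLinearMap).ge (Submodule.mem_map_of_mem ha)

variable [IsLocalRing Λ] [IsAdicComplete (maximalIdeal Λ) Λ] [IsAdicComplete (maximalIdeal R) R]

/-- The finite map out of the power series ring. -/
theorem exists_finite_algHom (hloc : (maximalIdeal Λ).map (algebraMap Λ R) ≤ maximalIdeal R)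
    (hres : Function.Surjective ((residue R).comp (algebraMap Λ R)))
    {d : ℕ} (x : Fin d → R) (hx : ∀ i, x i ∈ maximalIdeal R)
    (hrad : maximalIdeal R ≤
      ((maximalIdeal Λ).map (algebraMap Λ R) ⊔ Ideal.span (Set.range x)).radical) :
    ∃ g : MvPowerSeries (Fin d) Λ →ₐ[Λ] R, (∀ i, g (MvPowerSeries.X i) = x i) ∧
      g.toRingHom.Finite := by
  obtain ⟨g, hg⟩ := Groth.Agent.H24.PowerSeries.exists_hom (A := Λ) (maximalIdeal R) x hx
  refine ⟨g, hg, ?_⟩
  set I := Ideal.span (Set.range x) with hI
  -- `R ⧸ (x)` is finite over `Λ`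
  obtain ⟨N, hN⟩ := Ideal.exists_pow_le_of_le_radical_of_fg hrad (IsNoetherian.noetherian _)
  haveI hfin : Module.Finite Λ (R ⧸ I) := by
    let m := maximalIdeal Λ
    have hIm : I ≤ maximalIdeal R := Ideal.span_le.2 (Set.range_subset_iff.2 hx)
    haveI : Nontrivial (R ⧸ I) := Ideal.Quotient.nontrivial_iff.2
      (ne_top_of_le_ne_top (IsLocalRing.maximalIdeal.isMaximal R).ne_top hIm)
    haveI : IsHausdorff (maximalIdeal R) (R ⧸ I) := inferInstance
    haveI : IsHausdorff m (R ⧸ I) := IsHausdorff.of_map (J := maximalIdeal R) hloc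
    apply Groth.Agent.Lib.Adic.Complete.finite_of_finite_quotient (I := m)
    haveI := finite_quotient hres _ hN
    refine Module.Finite.of_surjective (Submodule.liftQ
      ((m.map (algebraMap Λ R) ⊔ I).restrictScalars Λ)
      (((m • ⊤ : Submodule Λ (R ⧸ I)).mkQ).comp (Ideal.Quotient.mkₐ Λ I).toLinearMap) ?_ ∘ₗ
        ((Submodule.Quotient.restrictScalarsEquiv Λ (m.map (algebraMap Λ R) ⊔ I)).symm.toLinearMap)) ?_
    · intro y hy
      rw [Submodule.restrictScalars_mem, Submodule.mem_sup] at hy
      obtain ⟨a, ha, c, hc, rfl⟩ := hy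
      rw [LinearMap.mem_ker, LinearMap.comp_apply, Submodule.mkQ_apply, Submodule.Quotient.mk_eq_zero]
      change Ideal.Quotient.mk I (a + c) ∈ _
      rw [map_add, Ideal.Quotient.eq_zero_iff_mem.2 hc, add_zero]
      have : a ∈ (m • ⊤ : Submodule Λ R) := by rw [Ideal.smul_top_eq_map]; exact ha
      have h2 := Submodule.mem_map_of_mem (f := (Ideal.Quotient.mkₐ Λ I).toLinearMap) this
      rw [Submodule.map_smul''] at h2
      exact Submodule.smul_mono le_rfl le_top h2
    · intro z
      obtain ⟨z, rfl⟩ := Submodule.mkQ_surjective _ z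
      obtain ⟨r, rfl⟩ := Ideal.Quotient.mk_surjective z
      exact ⟨Ideal.Quotient.mk _ r, rfl⟩
  -- lift to `R`
  letI : Algebra (MvPowerSeries (Fin d) Λ) R := g.toRingHom.toAlgebra
  haveI : IsScalarTower Λ (MvPowerSeries (Fin d) Λ) R :=
    IsScalarTower.of_algebraMap_eq fun l => (g.commutes l).symm
  let J : Ideal (MvPowerSeries (Fin d) Λ) := Ideal.span (Set.range MvPowerSeries.X)
  have hJ : J.map g.toRingHom = I := by
    rw [Ideal.map_span, ← Set.range_comp, hI]
    congr 2
    exact funext hg
  haveI : IsHausdorff J R := IsHausdorff.of_map (J := maximalIdeal R) (by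
    rw [RingHom.algebraMap_toAlgebra, hJ]
    exact Ideal.span_le.2 (Set.range_subset_iff.2 hx))
  refine Groth.Agent.Lib.Adic.Complete.finite_of_finite_quotient (I := J) ?_
  have e : (J • ⊤ : Submodule (MvPowerSeries (Fin d) Λ) R) =
      Submodule.restrictScalars (MvPowerSeries (Fin d) Λ) I := by
    rw [Ideal.smul_top_eq_map, RingHom.algebraMap_toAlgebra, hJ]
  haveI : Module.Finite (MvPowerSeries (Fin d) Λ) (R ⧸ I) :=
    Module.Finite.of_restrictScalars_finite Λ _ _
  exact Module.Finite.equiv ((Submodule.quotEquivOfEq _ _ e).trans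
    (Submodule.Quotient.restrictScalarsEquiv _ I)).symm

end Groth.Agent.Lib.Cohen.FiniteOver
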