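import Groth.Agent.Lib.Cohen.PSRegular
import Groth.Agent.Lib.Cohen.FiniteOver
import Groth.Agent.Lib.Cohen.Exists
import Groth.Agent.H24.CoefficientField
import Mathlib.RingTheory.DedekindDomain.Dvr

/-!
# Complete Noetherian local rings are Nagata

A complete Noetherian local domain is finite over a regular power series ring `Λ[[X]]`, hence
Japanese.
-/

set_option linter.style.haveILetI false

universe u

open IsLocalRing

namespace Groth.Agent.Lib.Cohen.CompleteNagata

/-- Japanese domains have Japanese finite extensions. -/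
theorem isN2_of_finite {A R : Type u} [CommRing A] [IsDomain A] [IsNoetherianRing A] [CommRing R]
    [IsDomain R] (g : A →+* R) (hinj : Function.Injective g) (hfin : g.Finite) (h : CAlg.IsN2 A) :
    CAlg.IsN2 R := by
  letI := g.toAlgebra
  haveI : Module.Finite A R := hfin
  haveI : FaithfulSMul A R := (faithfulSMul_iff_algebraMap_injective A R).2 hinj
  intro L _ _ _ _ hL
  letI : Algebra A L := ((algebraMap R L).comp g).toAlgebra
  haveI : IsScalarTower A R L := IsScalarTower.of_algebraMap_eq' rfl
  haveI : FaithfulSMul A (FractionRing R) :=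
    (faithfulSMul_iff_algebraMap_injective A (FractionRing R)).2 <| by
      rw [IsScalarTower.algebraMap_eq A R (FractionRing R)]
      exact (IsFractionRing.injective R (FractionRing R)).comp hinj
  letI : Algebra (FractionRing A) (FractionRing R) := FractionRing.liftAlgebra A (FractionRing R)
  haveI : Module.Finite (FractionRing A) (FractionRing R) :=
    Module.Finite.of_isLocalization A R (nonZeroDivisors A)
  letI : Algebra (FractionRing A) L :=
    ((algebraMap (FractionRing R) L).comp (algebraMap (FractionRing A) (FractionRing R))).toAlgebra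
  haveI : IsScalarTower (FractionRing A) (FractionRing R) L := IsScalarTower.of_algebraMap_eq' rfl
  haveI : IsScalarTower A (FractionRing A) L := IsScalarTower.of_algebraMap_eq fun a => by
    rw [RingHom.algebraMap_toAlgebra (R := FractionRing A), RingHom.comp_apply,
      ← IsScalarTower.algebraMap_apply A (FractionRing A) (FractionRing R),
      IsScalarTower.algebraMap_apply A R (FractionRing R), ← IsScalarTower.algebraMap_apply]
    rfl
  haveI : FiniteDimensional (FractionRing A) L := Module.Finite.trans (FractionRing R) L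
  haveI := h L inferInstance
  haveI : Algebra.IsIntegral A R := inferInstance
  let f : integralClosure A L →ₗ[A] integralClosure R L :=
    { toFun := fun a => ⟨a.1, a.2.tower_top⟩
      map_add' := fun _ _ => rfl
      map_smul' := fun _ _ => rfl }
  haveI : Module.Finite A (integralClosure R L) :=
    Module.Finite.of_surjective f fun a => ⟨⟨a.1, isIntegral_trans (R := A) a.1 a.2⟩, rfl⟩
  exact Module.Finite.of_restrictScalars_finite A R _

variable (R : Type u) [CommRing R] [IsDomain R] [IsLocalRing R] [IsNoetherianRing R]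
  [IsAdicComplete (maximalIdeal R) R]

/-- The equal characteristic case of Cohen's finiteness theorem. -/
theorem exists_finite_of_coefficientField {k : Type u} [Field k] (σ : k →+* R)
    (hσ : Function.Surjective ((residue R).comp σ)) :
    ∃ (d : ℕ) (g : MvPowerSeries (Fin d) k →+* R), Function.Injective g ∧ g.Finite ∧
      Function.Surjective ((residue R).comp g) := by
  obtain ⟨d, hd⟩ : ∃ d : ℕ, ringKrullDim R = d := by
    have h := IsLocalRing.maximalIdeal_height_eq_ringKrullDim (R := R)
    obtain ⟨d, hd⟩ := ENat.ne_top_iff_exists.1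
      (Ideal.height_ne_top (IsLocalRing.maximalIdeal.isMaximal R).ne_top)
    exact ⟨d, by rw [← h, ← hd]; rfl⟩
  obtain ⟨x, hx, hrad⟩ := PSRegular.exists_sop R hd
  letI := σ.toAlgebra
  haveI : IsAdicComplete (maximalIdeal k) k := by
    rw [IsLocalRing.maximalIdeal_eq_bot]; infer_instance
  obtain ⟨g, hgX, hgfin⟩ := FiniteOver.exists_finite_algHom (Λ := k)
    (by rw [IsLocalRing.maximalIdeal_eq_bot, Ideal.map_bot]; exact bot_le) hσ x hx
    (by rwa [IsLocalRing.maximalIdeal_eq_bot, Ideal.map_bot, bot_sup_eq])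
  haveI := (PSRegular.mvPowerSeries k d).1
  refine ⟨d, g.toRingHom, PSRegular.injective_of_finite g.toRingHom hgfin
    (n := d) ?_ hd, hgfin, fun z => ?_⟩
  · rw [(PSRegular.mvPowerSeries k d).2, ringKrullDim_eq_zero_of_field, zero_add]
  · obtain ⟨l, hl⟩ := hσ z
    exact ⟨algebraMap k _ l, by rw [← hl]; exact congrArg (residue R) (g.commutes l)⟩

/-- The mixed characteristic case of Cohen's finiteness theorem. -/
theorem exists_finite_of_cohenRing {p : ℕ} (hp0 : (p : R) ≠ 0) (hpm : (p : R) ∈ maximalIdeal R)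
    {Λ : Type u} [CommRing Λ] [IsDomain Λ] [IsDiscreteValuationRing Λ]
    [IsAdicComplete (maximalIdeal Λ) Λ] (hΛ : maximalIdeal Λ = Ideal.span {(p : Λ)})
    (f : Λ →+* R) (hf : Function.Surjective ((residue R).comp f)) :
    ∃ (d : ℕ) (g : MvPowerSeries (Fin d) Λ →+* R), Function.Injective g ∧ g.Finite ∧
      Function.Surjective ((residue R).comp g) := by
  letI := f.toAlgebra
  have hmap : (maximalIdeal Λ).map (algebraMap Λ R) = Ideal.span {(p : R)} := by
    rw [hΛ, Ideal.map_span, Set.image_singleton, map_natCast]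
  have hle : Ideal.span {(p : R)} ≤ maximalIdeal R := (Ideal.span_singleton_le_iff_mem _).2 hpm
  let B := R ⧸ Ideal.span {(p : R)}
  haveI : Nontrivial B := Ideal.Quotient.nontrivial_iff.2
    (ne_top_of_le_ne_top (IsLocalRing.maximalIdeal.isMaximal R).ne_top hle)
  haveI : IsLocalRing B := IsLocalRing.of_surjective' _ Ideal.Quotient.mk_surjective
  obtain ⟨d, hd⟩ : ∃ d : ℕ, ringKrullDim B = d := by
    have h := IsLocalRing.maximalIdeal_height_eq_ringKrullDim (R := B)
    obtain ⟨d, hd⟩ := ENat.ne_top_iff_exists.1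
      (Ideal.height_ne_top (IsLocalRing.maximalIdeal.isMaximal B).ne_top)
    exact ⟨d, by rw [← h, ← hd]; rfl⟩
  obtain ⟨y, hy, hrad⟩ := PSRegular.exists_sop B hd
  choose x hxy using fun i => Ideal.Quotient.mk_surjective (y i)
  have hx : ∀ i, x i ∈ maximalIdeal R := fun i => by
    by_contra hn
    exact (mem_maximalIdeal _).1 (hy i) (hxy i ▸ (not_not.1 hn).map _)
  obtain ⟨g, hgX, hgfin⟩ := FiniteOver.exists_finite_algHom (Λ := Λ) (hmap ▸ hle) hf x hx (by
    rw [hmap]
    intro r hr
    have hr' : Ideal.Quotient.mk (Ideal.span {(p : R)}) r ∈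
        (Ideal.span (Set.range y)).radical := hrad (by
      rw [mem_maximalIdeal]
      intro hu
      haveI : IsLocalHom (Ideal.Quotient.mk (Ideal.span {(p : R)})) :=
        IsLocalHom.of_surjective _ Ideal.Quotient.mk_surjective
      exact (mem_maximalIdeal _).1 hr (isUnit_of_map_unit _ _ hu))
    obtain ⟨n, hn⟩ := hr'
    refine ⟨n, ?_⟩
    have e : (Ideal.span (Set.range x)).map (Ideal.Quotient.mk (Ideal.span {(p : R)})) =
        Ideal.span (Set.range y) := by
      rw [Ideal.map_span, ← Set.range_comp]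
      congr 2
      exact funext hxy
    rw [← map_pow, ← e, ← Ideal.mem_comap, Ideal.comap_map_of_surjective' _ Ideal.Quotient.mk_surjective,
      Ideal.mk_ker, sup_comm] at hn
    exact hn)
  haveI : IsRegularLocalRing Λ := inferInstance
  haveI := (PSRegular.mvPowerSeries Λ d).1
  have hdimR : ringKrullDim R = (d + 1 : ℕ) := by
    rw [← ringKrullDim_quotient_span_singleton_succ_eq_ringKrullDim_of_mem_nonZeroDivisors
      (mem_nonZeroDivisors_of_ne_zero hp0) hpm, hd, Nat.cast_succ]
  refine ⟨d, g.toRingHom, PSRegular.injective_of_finite g.toRingHom hgfin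
    (n := d + 1) ?_ hdimR, hgfin, fun z => ?_⟩
  · rw [(PSRegular.mvPowerSeries Λ d).2, IsDiscreteValuationRing.ringKrullDim_eq_one, Nat.cast_succ,
      add_comm]
  · obtain ⟨l, hl⟩ := hf z
    exact ⟨algebraMap Λ _ l, by rw [← hl]; exact congrArg (residue R) (g.commutes l)⟩

/-- Cohen's finiteness theorem for complete local domains. -/
theorem exists_finite_injective :
    ∃ (Λ : Type u) (_ : CommRing Λ) (n : ℕ) (g : MvPowerSeries (Fin n) Λ →+* R),
      (IsField Λ ∨ CAlg.IsCohenRing Λ) ∧ Function.Injective g ∧ g.Finite ∧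
      Function.Surjective ((residue R).comp g) := by
  by_cases hfield : ∃ (k₀ : Type u) (_ : Field k₀), Nonempty (Algebra k₀ R)
  · obtain ⟨k₀, _, ⟨_⟩⟩ := hfield
    obtain ⟨σ, hσ⟩ := Groth.Agent.H24.CoefficientField.exists_coefficientField R k₀
    obtain ⟨d, g, h1, h2, h3⟩ := exists_finite_of_coefficientField R σ fun z => ⟨z, hσ z⟩
    exact ⟨ResidueField R, inferInstance, d, g, Or.inl (Field.toIsField _), h1, h2, h3⟩
  obtain ⟨p, hp⟩ := CharP.exists (ResidueField R)
  obtain hp' | hp' := CharP.char_is_prime_or_zero (ResidueField R) p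
  · haveI := Fact.mk hp'
    have hpm : (p : R) ∈ maximalIdeal R := by
      rw [← residue_eq_zero_iff, map_natCast, CharP.cast_eq_zero]
    have hp0 : (p : R) ≠ 0 := fun h0 => hfield (by
      haveI : CharP R p := (CharP.charP_iff_prime_eq_zero hp').2 h0
      exact ⟨ULift.{u} (ZMod p), inferInstance, ⟨((ZMod.castHom (dvd_refl p) R).comp
        (ULift.ringEquiv : ULift.{u} (ZMod p) ≃+* ZMod p).toRingHom).toAlgebra⟩⟩)
    obtain ⟨Λ, _, hloc, hΛ, hmax, f, -, hf⟩ :=
      Groth.Agent.Lib.Cohen.Exists.exists_cohenRing_hom R p hpm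
    have hΛ' := hΛ
    obtain ⟨_, _, _, -⟩ := hΛ'
    obtain ⟨d, g, h1, h2, h3⟩ := exists_finite_of_cohenRing R hp0 hpm hmax f hf
    exact ⟨Λ, inferInstance, d, g, Or.inr hΛ, h1, h2, h3⟩
  · subst hp'
    haveI := CharP.charP_to_charZero (ResidueField R)
    refine absurd ?_ hfield
    have hunit : ∀ n : ℤ, n ≠ 0 → IsUnit (n : R) := fun n hn => by
      by_contra hu
      have := (residue_eq_zero_iff (n : R)).2 hu
      rw [map_intCast] at this
      exact hn (Int.cast_eq_zero.1 this)
    let φ : ℚ →+* R := IsLocalization.lift (M := nonZeroDivisors ℤ) (g := Int.castRingHom R)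
      fun y => hunit _ (nonZeroDivisors.coe_ne_zero y)
    exact ⟨ULift.{u} ℚ, inferInstance,
      ⟨(φ.comp (ULift.ringEquiv : ULift.{u} ℚ ≃+* ℚ).toRingHom).toAlgebra⟩⟩

/-- A complete Noetherian local domain is Japanese. -/
theorem isN2 : CAlg.IsN2 R := by
  obtain ⟨Λ, _, n, g, hΛ, hinj, hfin, -⟩ := exists_finite_injective R
  rcases hΛ with hΛ | hΛ
  · letI := hΛ.toField
    haveI := (PSRegular.mvPowerSeries Λ n).1
    exact isN2_of_finite g hinj hfin (PSRegular.isN2_mvPowerSeries_field Λ n)
  · obtain ⟨_, _, -, p, hp, hmax⟩ := hΛ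
    haveI := (PSRegular.mvPowerSeries Λ n).1
    haveI := Groth.Agent.Lib.Regular.UFD.isIntegrallyClosed (MvPowerSeries (Fin n) Λ)
    haveI : CharZero Λ := by
        refine charZero_of_inj_zero fun m hm => ?_
        by_contra h0
        obtain ⟨e, m', hm', rfl⟩ := Nat.exists_eq_pow_mul_and_not_dvd h0 p hp.ne_one
        have hirr : Irreducible (p : Λ) := (IsDiscreteValuationRing.irreducible_iff_uniformizer _).2 hmax
        rw [Nat.cast_mul, Nat.cast_pow] at hm
        have hm0 : (m' : Λ) = 0 := (mul_eq_zero.1 hm).resolve_left (pow_ne_zero _ hirr.ne_zero)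
        obtain ⟨a, b, hab⟩ := Int.isCoprime_iff_gcd_eq_one.2
          (show Int.gcd (p : ℤ) (m' : ℤ) = 1 from (Nat.Prime.coprime_iff_not_dvd hp).2 hm')
        refine hirr.not_isUnit (IsUnit.of_mul_eq_one (b := (a : Λ)) ?_)
        have := congrArg (Int.cast : ℤ → Λ) hab
        push_cast at this
        rw [hm0, mul_zero, add_zero] at this
        rw [mul_comm]
        exact this
    haveI : CharZero (MvPowerSeries (Fin n) Λ) :=
      charZero_of_injective_ringHom (R := Λ)
        (Function.LeftInverse.injective (g := MvPowerSeries.constantCoeff (R := Λ))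
          (f := (MvPowerSeries.C : Λ →+* MvPowerSeries (Fin n) Λ)) MvPowerSeries.constantCoeff_C)
    exact isN2_of_finite g hinj hfin Groth.Agent.Lib.Excellent.Nagata.isN2_of_charZero

end Groth.Agent.Lib.Cohen.CompleteNagata
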