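import Groth.Agent.Lib.Excellent.Nagata
import Groth.Agent.Lib.Excellent.FormalFibre
import Groth.Agent.Lib.Excellent.CompletionNoetherian
import Groth.Agent.Lib.Cohen.CompleteNagata
import Groth.Agent.Lib.Adic.Complete
import Mathlib.RingTheory.AdicCompletion.LocalRing
import Mathlib.RingTheory.Finiteness.Descent
import Mathlib.RingTheory.Finiteness.Quotient
import Mathlib.RingTheory.Ideal.MinimalPrime.Noetherian

/-!
# Analytically unramified domains have finite normalization
-/

set_option linter.style.haveILetI false

universe u

open scoped TensorProduct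
open IsLocalRing

namespace Groth.Agent.Lib.Cohen.Unramified

/-- Integral closure of a Nagata ring in a reduced algebra which is generated up to units of the base
by finitely many integral elements. -/
theorem finite_integralClosure_reduced {C : Type u} [CommRing C] (hC : CAlg.IsNagata C)
    (T : Type u) [CommRing T] [Algebra C T] [IsNoetherianRing T] [IsReduced T] (b : Finset T)
    (hb : ∀ x ∈ b, IsIntegral C x)
    (hgen : ∀ t : T, ∃ c : C, IsUnit (algebraMap C T c) ∧ c • t ∈ Submodule.span C (b : Set T)) :
    Module.Finite C (integralClosure C T) := by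
  classical
  haveI := hC.1
  let ι := {Q : Ideal T // Q ∈ minimalPrimes T}
  haveI : Finite ι := (minimalPrimes.finite_of_isNoetherianRing T).to_subtype
  haveI : Fintype ι := Fintype.ofFinite ι
  haveI hprime : ∀ Q : ι, Q.1.IsPrime := fun Q => Q.2.1.1
  let π : ∀ Q : ι, T →ₐ[C] Q.1.ResidueField := fun Q => IsScalarTower.toAlgHom C T Q.1.ResidueField
  have hfin : ∀ Q : ι, Module.Finite C (integralClosure C Q.1.ResidueField) := by
    intro Q
    let P := RingHom.ker (algebraMap C Q.1.ResidueField)
    haveI : P.IsPrime := RingHom.ker_isPrime _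
    haveI : IsDomain (C ⧸ P) := Ideal.Quotient.isDomain P
    letI : Algebra (C ⧸ P) Q.1.ResidueField :=
      (RingHom.kerLift (algebraMap C Q.1.ResidueField)).toAlgebra
    haveI : IsScalarTower C (C ⧸ P) Q.1.ResidueField := IsScalarTower.of_algebraMap_eq fun _ => rfl
    haveI : FaithfulSMul (C ⧸ P) Q.1.ResidueField :=
      (faithfulSMul_iff_algebraMap_injective _ _).2 (RingHom.kerLift_injective _)
    let κ := FractionRing (C ⧸ P)
    letI : Algebra κ Q.1.ResidueField := FractionRing.liftAlgebra (C ⧸ P) _
    haveI : IsScalarTower C κ Q.1.ResidueField := IsScalarTower.of_algebraMap_eq fun c => by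
      rw [IsScalarTower.algebraMap_apply C (C ⧸ P) κ,
        ← IsScalarTower.algebraMap_apply (C ⧸ P) κ Q.1.ResidueField]
      rfl
    haveI : FiniteDimensional κ Q.1.ResidueField := by
      let M := IntermediateField.adjoin κ (b.image (π Q) : Set Q.1.ResidueField)
      haveI : FiniteDimensional κ M := IntermediateField.finiteDimensional_adjoin fun x hx => by
        obtain ⟨y, hy, rfl⟩ := Finset.mem_image.1 hx
        exact ((hb y hy).map (π Q)).tower_top
      have hT : ∀ t : T, π Q t ∈ M := by
        intro t
        obtain ⟨c, hcu, hc⟩ := hgen t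
        have hspan : ∀ z ∈ Submodule.span C (b : Set T), π Q z ∈ M := fun z hz => by
          induction hz using Submodule.span_induction with
          | mem x hx => exact IntermediateField.subset_adjoin _ _ (Finset.mem_image_of_mem _ hx)
          | zero => rw [map_zero]; exact zero_mem _
          | add x y _ _ hx hy => rw [map_add]; exact add_mem hx hy
          | smul r x _ hx =>
            rw [map_smul, ← algebraMap_smul κ r (π Q x)]
            exact M.smul_mem hx
        have h1 := hspan _ hc
        rw [map_smul, ← algebraMap_smul κ c (π Q t)] at h1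
        have hne : algebraMap C κ c ≠ 0 := fun h0 => by
          have : π Q (algebraMap C T c) = 0 := by
            rw [AlgHom.commutes, IsScalarTower.algebraMap_apply C κ, h0, map_zero]
          exact ((hcu.map (π Q)).ne_zero) this
        have h2 := M.smul_mem (x := (algebraMap C κ c)⁻¹) h1
        rwa [inv_smul_smul₀ hne] at h2
      refine Module.Finite.of_surjective M.val.toLinearMap fun z => ?_
      obtain ⟨a, s, -, rfl⟩ := IsFractionRing.div_surjective (T ⧸ Q.1) z
      obtain ⟨a, rfl⟩ := Ideal.Quotient.mk_surjective a
      obtain ⟨s, rfl⟩ := Ideal.Quotient.mk_surjective s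
      exact ⟨⟨_, div_mem (hT a) (hT s)⟩, rfl⟩
    haveI := Groth.Agent.Lib.Excellent.Nagata.finite_integralClosure_of_isN2 (hC.2 P) κ
      Q.1.ResidueField
    haveI : Module.Finite C (integralClosure (C ⧸ P) Q.1.ResidueField) :=
      Module.Finite.trans (C ⧸ P) _
    let f : integralClosure C Q.1.ResidueField →ₗ[C] integralClosure (C ⧸ P) Q.1.ResidueField :=
      { toFun := fun a => ⟨a.1, a.2.tower_top⟩
        map_add' := fun _ _ => rfl
        map_smul' := fun _ _ => rfl }
    exact Module.Finite.of_injective f fun a b h => Subtype.ext (congrArg Subtype.val h :)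
  haveI := hfin
  let g : integralClosure C T →ₗ[C] ∀ Q : ι, integralClosure C Q.1.ResidueField :=
    LinearMap.pi fun Q => (((π Q).comp (integralClosure C T).val).codRestrict
      (integralClosure C Q.1.ResidueField) fun a => a.2.map (π Q)).toLinearMap
  refine Module.Finite.of_injective g ((injective_iff_map_eq_zero g).2 fun x hx => ?_)
  have : (x : T) ∈ nilradical T := by
    rw [nilradical, ← Ideal.sInf_minimalPrimes, Submodule.mem_sInf]
    intro Q hQ
    haveI := hprime ⟨Q, hQ⟩
    have h1 : algebraMap T (Ideal.ResidueField Q) x = 0 := congrArg Subtype.val (congrFun hx ⟨Q, hQ⟩)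
    exact Ideal.algebraMap_residueField_eq_zero.1 h1
  rw [nilradical_eq_zero] at this
  exact Subtype.ext this

/-- The completion of a Noetherian local ring is Nagata. -/
theorem isNagata_completion (R : Type u) [CommRing R] [IsLocalRing R] [IsNoetherianRing R] :
    CAlg.IsNagata (AdicCompletion (maximalIdeal R) R) := by
  let C := AdicCompletion (maximalIdeal R) R
  haveI : IsAdicComplete (maximalIdeal C) C := by
    rw [AdicCompletion.maximalIdeal_eq_map]
    haveI := AdicCompletion.isAdicComplete (M := R) (IsNoetherian.noetherian (maximalIdeal R))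
    exact (IsAdicComplete.map_algebraMap_iff _ _).2 this
  refine ⟨inferInstance, fun p _ => ?_⟩
  haveI : IsDomain (C ⧸ p) := Ideal.Quotient.isDomain p
  haveI : IsLocalRing (C ⧸ p) := IsLocalRing.of_surjective' _ Ideal.Quotient.mk_surjective
  haveI : IsAdicComplete (maximalIdeal (C ⧸ p)) (C ⧸ p) := by
    have h : IsAdicComplete ((maximalIdeal C).map (algebraMap C (C ⧸ p))) (C ⧸ p) := by
      rw [IsAdicComplete.map_algebraMap_iff]
      exact Groth.Agent.Lib.Adic.Complete.isAdicComplete_of_finite
    have e : (maximalIdeal C).map (algebraMap C (C ⧸ p)) = maximalIdeal (C ⧸ p) :=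
      IsLocalRing.map_maximalIdeal_of_surjective _ Ideal.Quotient.mk_surjective
    rwa [e] at h
  exact Groth.Agent.Lib.Cohen.CompleteNagata.isN2 (C ⧸ p)

/-- Quotients of Nagata rings are Nagata. -/
theorem isNagata_of_surjective {A B : Type u} [CommRing A] [CommRing B] (hA : CAlg.IsNagata A)
    (f : A →+* B) (hf : Function.Surjective f) : CAlg.IsNagata B := by
  haveI := hA.1
  refine ⟨isNoetherianRing_of_surjective A B f hf, fun P _ => ?_⟩
  haveI : (P.comap f).IsPrime := inferInstance
  haveI : (RingHom.ker ((Ideal.Quotient.mk P).comp f)).IsPrime := RingHom.ker_isPrime _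
  exact Groth.Agent.Lib.Excellent.Nagata.isN2_of_ringEquiv
    (RingHom.quotientKerEquivOfSurjective (f := (Ideal.Quotient.mk P).comp f)
      (Ideal.Quotient.mk_surjective.comp hf))
    (hA.2 _)

/-- If `L ⊗ C` is reduced for a faithfully flat Nagata algebra `C`, the integral closure in `L` is
finite. -/
theorem finite_of_isReduced_tensor {R : Type u} [CommRing R] [IsDomain R] (C : Type u) [CommRing C]
    [Algebra R C] [Module.FaithfullyFlat R C] (hC : CAlg.IsNagata C) (K : Type u) [Field K]
    [Algebra R K] [IsFractionRing R K] (L : Type u) [Field L] [Algebra R L] [Algebra K L]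
    [IsScalarTower R K L] [FiniteDimensional K L] (hred : IsReduced (C ⊗[R] L)) :
    Module.Finite R (integralClosure R L) := by
  classical
  haveI := hC.1
  let T := C ⊗[R] L
  haveI : Algebra.EssFiniteType R K := Algebra.EssFiniteType.of_isLocalization K (nonZeroDivisors R)
  haveI : Algebra.EssFiniteType R L := Algebra.EssFiniteType.comp R K L
  haveI : Algebra.EssFiniteType C T := inferInstance
  haveI : IsNoetherianRing T := Algebra.EssFiniteType.isNoetherianRing C T
  let B := Module.finBasis K L
  have hm : ∀ i, ∃ m : nonZeroDivisors R, IsIntegral R (m • B i) := fun i =>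
    IsIntegral.exists_multiple_integral_of_isLocalization (Rₘ := K) (nonZeroDivisors R) (B i)
      (Algebra.IsIntegral.isIntegral _)
  choose m hm using hm
  let e : Finset T := Finset.univ.image fun i => (1 : C) ⊗ₜ[R] (m i • B i)
  have hunit : ∀ r : nonZeroDivisors R, IsUnit (algebraMap R L r) := fun r => by
    rw [IsScalarTower.algebraMap_apply R K L]
    exact (IsLocalization.map_units K r).map _
  have hfin := finite_integralClosure_reduced hC T e (fun x hx => by
    obtain ⟨i, -, rfl⟩ := Finset.mem_image.1 hx
    exact ((hm i).map (Algebra.TensorProduct.includeRight : L →ₐ[R] T)).tower_top) (fun t => by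
    have hU : ∀ c : nonZeroDivisors R, IsUnit (algebraMap C T (algebraMap R C c)) := fun c => by
      rw [← IsScalarTower.algebraMap_apply R C T, ← AlgHom.commutes
        (Algebra.TensorProduct.includeRight : L →ₐ[R] T)]
      exact (hunit c).map _
    induction t using TensorProduct.induction_on with
    | zero => exact ⟨1, by simp, by simp⟩
    | add x y hx hy =>
      obtain ⟨c, hc, hcx⟩ := hx
      obtain ⟨d, hd, hdy⟩ := hy
      refine ⟨c * d, by rw [map_mul]; exact hc.mul hd, ?_⟩
      rw [smul_add, mul_comm c d, mul_smul, mul_comm d c, mul_smul]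
      exact add_mem (Submodule.smul_mem _ d hcx) (Submodule.smul_mem _ c hdy)
    | tmul a l =>
      obtain ⟨s, hs⟩ : ∃ s : nonZeroDivisors R, ∃ r : Fin _ → R,
          (s : R) • l = ∑ i, r i • (m i • B i) := by
        obtain ⟨s, hs⟩ := IsLocalization.exist_integer_multiples (nonZeroDivisors R) Finset.univ
          (fun i => B.repr l i * (algebraMap R K (m i))⁻¹)
        choose r hr using fun i => hs i (Finset.mem_univ i)
        refine ⟨s, r, ?_⟩
        conv_lhs => rw [← B.sum_repr l, Finset.smul_sum]
        refine Finset.sum_congr rfl fun i _ => ?_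
        rw [Submonoid.smul_def, ← algebraMap_smul K (r i), ← algebraMap_smul K (m i : R),
          ← algebraMap_smul K (s : R), hr, ← algebraMap_smul K (s : R)
          (B.repr l i * (algebraMap R K (m i))⁻¹), smul_smul, smul_smul, smul_eq_mul, mul_assoc,
          mul_assoc, inv_mul_cancel₀, mul_one]
        exact IsFractionRing.to_map_ne_zero_of_mem_nonZeroDivisors (m i).2
      obtain ⟨r, hr⟩ := hs
      refine ⟨algebraMap R C s, hU s, ?_⟩
      rw [algebraMap_smul, ← TensorProduct.tmul_smul, hr, TensorProduct.tmul_sum]
      refine sum_mem fun i _ => ?_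
      rw [show a ⊗ₜ[R] (r i • (m i • B i)) = (r i • a) • ((1 : C) ⊗ₜ[R] (m i • B i)) from by
        rw [TensorProduct.smul_tmul', smul_eq_mul, mul_one, TensorProduct.tmul_smul,
          TensorProduct.smul_tmul']]
      exact Submodule.smul_mem _ _
        (Submodule.subset_span (Finset.mem_image_of_mem _ (Finset.mem_univ i))))
  haveI := hfin
  let S := integralClosure R L
  let φ : C ⊗[R] S →ₐ[C] T := Algebra.TensorProduct.map (AlgHom.id C C) S.val
  have hφ : Function.Injective φ := by
    have : Function.Injective ((S.val.toLinearMap).lTensor C) :=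
      Module.Flat.lTensor_preserves_injective_linearMap _ Subtype.val_injective
    exact this
  have hint : ∀ z, IsIntegral C (φ z) := fun z => by
    induction z using TensorProduct.induction_on with
    | zero => rw [map_zero]; exact isIntegral_zero
    | add x y hx hy => rw [map_add]; exact hx.add hy
    | tmul c s =>
      rw [Algebra.TensorProduct.map_tmul, show AlgHom.id C C c ⊗ₜ[R] S.val s =
        c • ((1 : C) ⊗ₜ[R] (s : L)) by rw [TensorProduct.smul_tmul', smul_eq_mul, mul_one]; rfl]
      exact (((s.2.map (Algebra.TensorProduct.includeRight : L →ₐ[R] T)).tower_top)).smul c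
  haveI : Module.Finite C (C ⊗[R] S) :=
    Module.Finite.of_injective (f := (φ.codRestrict (integralClosure C T) hint).toLinearMap)
      fun a b h => hφ (congrArg Subtype.val h)
  exact Module.Finite.of_finite_tensorProduct_of_faithfullyFlat C

end Groth.Agent.Lib.Cohen.Unramified
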