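import Groth.Agent.Lib.Cohen.CofiniteSubfields
import Groth.Agent.Lib.PBasis.Eventual
import Mathlib.RingTheory.MvPowerSeries.Expand
import Mathlib.RingTheory.MvPowerSeries.NoZeroDivisors
import Mathlib.RingTheory.Derivation.Basic
import Mathlib.LinearAlgebra.Basis.VectorSpace

/-!
# Derivations of finite extensions of power series rings in characteristic `p`

If `A` is a finite domain over `k[[X_1, …, X_d]]` and `f ∈ A` is not a `p`-th power in the fraction
field, then some derivation of `A` does not kill `f`.
-/

set_option autoImplicit false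
set_option linter.style.haveILetI false

universe u

namespace Groth.Agent.Lib.Cohen.PSDerivation

variable {p : ℕ} [Fact p.Prime] {k : Type u} [Field k] [CharP k p] {d : ℕ}

/-- The series in `X_i ^ p` with coefficients in `F`. -/
def restricted (F : Subfield k) (p d : ℕ) : Subring (MvPowerSeries (Fin d) k) where
  carrier := {f | ∀ n, MvPowerSeries.coeff n f ∈ F ∧
    (¬ (∀ i, p ∣ n i) → MvPowerSeries.coeff n f = 0)}
  zero_mem' n := by simp
  one_mem' n := by
    classical
    rw [MvPowerSeries.coeff_one]
    refine ⟨by split <;> simp, fun hn => if_neg fun h0 => hn (by simp [h0])⟩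
  add_mem' hf hg n := by
    rw [map_add]
    exact ⟨F.add_mem (hf n).1 (hg n).1, fun hn => by rw [(hf n).2 hn, (hg n).2 hn, add_zero]⟩
  neg_mem' hf n := by
    rw [map_neg]
    exact ⟨F.neg_mem (hf n).1, fun hn => by rw [(hf n).2 hn, neg_zero]⟩
  mul_mem' {f g} hf hg n := by
    classical
    rw [MvPowerSeries.coeff_mul]
    refine ⟨F.sum_mem fun x _ => F.mul_mem (hf x.1).1 (hg x.2).1, fun hn => Finset.sum_eq_zero fun x hx => ?_⟩
    by_cases h1 : ∀ i, p ∣ x.1 i
    · by_cases h2 : ∀ i, p ∣ x.2 i
      · refine absurd (fun i => ?_) hn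
        rw [← Finset.mem_antidiagonal.1 hx, Finsupp.add_apply]
        exact dvd_add (h1 i) (h2 i)
      · rw [(hg x.2).2 h2, mul_zero]
    · rw [(hf x.1).2 h1, zero_mul]

theorem pow_mem_restricted {F : Subfield k} (hF : ∀ c : k, c ^ p ∈ F) (f : MvPowerSeries (Fin d) k) :
    f ^ p ∈ restricted F p d := by
  haveI : ExpChar k p := ExpChar.prime Fact.out
  intro n
  rw [← MvPowerSeries.map_frobenius_expand p (Fact.out : p.Prime).ne_zero, MvPowerSeries.coeff_map]
  refine ⟨hF _, fun hn => ?_⟩
  push Not at hn
  obtain ⟨i, hi⟩ := hn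
  rw [MvPowerSeries.coeff_expand_of_not_dvd p (Fact.out : p.Prime).ne_zero f hi, map_zero]

theorem finite_restricted (F : Subfield k) [Module.Finite F k] :
    Module.Finite (restricted F p d) (MvPowerSeries (Fin d) k) := by
  classical
  let b := Module.finBasis F k
  have hp : p ≠ 0 := (Fact.out : p.Prime).ne_zero
  haveI : NeZero p := ⟨hp⟩
  let E : (Fin d → Fin p) → (Fin d →₀ ℕ) := fun j => Finsupp.equivFunOnFinite.symm fun i => (j i : ℕ)
  let gen : (Fin d → Fin p) × Fin (Module.finrank F k) → MvPowerSeries (Fin d) k :=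
    fun x => MvPowerSeries.monomial (E x.1) (b x.2)
  refine ⟨⟨Finset.univ.image gen, top_le_iff.1 fun f _ => ?_⟩⟩
  let g : (Fin d → Fin p) × Fin (Module.finrank F k) → MvPowerSeries (Fin d) k := fun x n =>
    if ∀ i, p ∣ n i then ((b.repr (MvPowerSeries.coeff (n + E x.1) f) x.2 : F) : k) else 0
  have hg : ∀ x, g x ∈ restricted F p d := fun x n => by
    change g x n ∈ F ∧ (_ → g x n = 0)
    simp only [g]
    refine ⟨?_, fun hn => if_neg hn⟩
    split
    · exact SetLike.coe_mem _
    · exact F.zero_mem
  have hsum : f = ∑ x, (⟨g x, hg x⟩ : restricted F p d) • gen x := by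
    ext m
    simp only [map_sum, Subring.smul_def, smul_eq_mul, gen, MvPowerSeries.coeff_mul_monomial]
    let j0 : Fin d → Fin p := fun i => ⟨m i % p, Nat.mod_lt _ (Nat.pos_of_ne_zero hp)⟩
    have hle : E j0 ≤ m := fun i => by
      change (j0 i : ℕ) ≤ m i
      exact Nat.mod_le _ _
    have hdvd : ∀ i, p ∣ (m - E j0) i := fun i => by
      change p ∣ m i - (j0 i : ℕ)
      exact Nat.dvd_sub_mod _
    rw [Fintype.sum_prod_type, Finset.sum_eq_single j0]
    · simp only [hle, if_true]
      calc MvPowerSeries.coeff m f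
          = ∑ l, b.repr (MvPowerSeries.coeff m f) l • b l := (b.sum_repr _).symm
        _ = _ := by
          refine Finset.sum_congr rfl fun l _ => ?_
          change _ = g (j0, l) (m - E j0) * b l
          simp only [g, hdvd, implies_true, if_true, tsub_add_cancel_of_le hle]
          rfl
    · intro j _ hj
      refine Finset.sum_eq_zero fun l _ => ?_
      split
      · rename_i hjm
        change g (j, l) (m - E j) * b l = 0
        have hnd : ¬ ∀ i, p ∣ (m - E j) i := fun hall => hj (funext fun i => by
          apply Fin.ext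
          change (j i : ℕ) = m i % p
          obtain ⟨c, hc⟩ := hall i
          have hji : (j i : ℕ) ≤ m i := hjm i
          have hc' : m i - (j i : ℕ) = p * c := hc
          rw [show m i = (j i : ℕ) + p * c by omega, Nat.add_mul_mod_self_left,
            Nat.mod_eq_of_lt (j i).2])
        simp only [g, if_neg hnd, zero_mul]
      · rfl
    · exact fun h => absurd (Finset.mem_univ _) h
  rw [hsum]
  exact Submodule.sum_mem _ fun x _ => Submodule.smul_mem _ _
    (Submodule.subset_span (Finset.mem_coe.2 (Finset.mem_image_of_mem _ (Finset.mem_univ x))))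

theorem mem_restricted_of_mul {F : Subfield k} {w b : MvPowerSeries (Fin d) k}
    (hb : b ∈ restricted F p d) (hb0 : b ≠ 0) (hwb : w * b ∈ restricted F p d) :
    w ∈ restricted F p d := by
  classical
  -- a retraction linear over the restricted series
  obtain ⟨φ, hφ⟩ : ∃ φ : k →ₗ[F] F, ∀ c : F, φ (c : k) = c := by
    obtain ⟨φ, hφ⟩ := (Algebra.linearMap F k).exists_leftInverse_of_injective
      (LinearMap.ker_eq_bot.2 (algebraMap F k).injective)
    exact ⟨φ, fun c => LinearMap.congr_fun hφ c⟩
  let π : MvPowerSeries (Fin d) k := fun n =>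
    if ∀ i, p ∣ n i then ((φ (MvPowerSeries.coeff n w) : F) : k) else 0
  have hπ : π ∈ restricted F p d := fun n => by
    change π n ∈ F ∧ (_ → π n = 0)
    simp only [π]
    refine ⟨?_, fun hn => if_neg hn⟩
    split
    · exact SetLike.coe_mem _
    · exact F.zero_mem
  suffices π * b = w * b by rwa [← mul_right_cancel₀ hb0 this]
  ext n
  by_cases hn : ∀ i, p ∣ n i
  · have hmem := (hwb n).1
    conv_rhs => rw [show MvPowerSeries.coeff n (w * b) = ((φ (MvPowerSeries.coeff n (w * b)) : F) : k) from
      (congrArg Subtype.val (hφ ⟨_, hmem⟩)).symm]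
    rw [MvPowerSeries.coeff_mul, MvPowerSeries.coeff_mul, map_sum, AddSubmonoidClass.coe_finsetSum]
    refine Finset.sum_congr rfl fun x hx => ?_
    by_cases h2 : ∀ i, p ∣ x.2 i
    · have h1 : ∀ i, p ∣ x.1 i := fun i => by
        have h := hn i
        rw [← Finset.mem_antidiagonal.1 hx, Finsupp.add_apply] at h
        exact (Nat.dvd_add_left (h2 i)).1 h
      change π x.1 * _ = _
      simp only [π, if_pos h1]
      have hs : MvPowerSeries.coeff x.1 w * MvPowerSeries.coeff x.2 b =
          (⟨_, (hb x.2).1⟩ : F) • MvPowerSeries.coeff x.1 w := by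
        rw [Algebra.smul_def, mul_comm]; rfl
      rw [hs, map_smul, smul_eq_mul, MulMemClass.coe_mul, mul_comm]
    · simp [(hb x.2).2 h2]
  · rw [((Subring.mul_mem _ hπ hb) n).2 hn, (hwb n).2 hn]

theorem exists_pow_of_forall {ι : Type u} [Nonempty ι] (F : ι → Subfield k)
    (hint : ∀ y, (∀ i, y ∈ F i) → ∃ c, c ^ p = y) {w : MvPowerSeries (Fin d) k}
    (hw : ∀ i, w ∈ restricted (F i) p d) : ∃ v, v ^ p = w := by
  haveI : ExpChar k p := ExpChar.prime Fact.out
  choose c hc using fun n => hint (MvPowerSeries.coeff n w) fun i => (hw i n).1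
  let v : MvPowerSeries (Fin d) k := fun n => c (p • n)
  refine ⟨v, ?_⟩
  have hp : p ≠ 0 := (Fact.out : p.Prime).ne_zero
  obtain ⟨i₀⟩ := ‹Nonempty ι›
  rw [← MvPowerSeries.map_frobenius_expand p hp]
  ext n
  rw [MvPowerSeries.coeff_map]
  by_cases hn : ∀ i, p ∣ n i
  · obtain ⟨m, rfl⟩ : ∃ m, n = p • m :=
      ⟨n.mapRange (· / p) (Nat.zero_div p), Finsupp.ext fun i => by simp [Nat.mul_div_cancel' (hn i)]⟩
    rw [MvPowerSeries.coeff_expand_smul, frobenius_def]
    exact hc _
  · rw [(hw i₀ n).2 hn]
    push Not at hn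
    obtain ⟨i, hi⟩ := hn
    rw [MvPowerSeries.coeff_expand_of_not_dvd p hp v hi, map_zero]

open scoped nonZeroDivisors in
/-- Some derivation of `A` does not kill `f`. -/
theorem exists_derivation (A : Type u) [CommRing A] [IsDomain A] [Algebra (MvPowerSeries (Fin d) k) A]
    [Module.Finite (MvPowerSeries (Fin d) k) A] [FaithfulSMul (MvPowerSeries (Fin d) k) A]
    (M : Type u) [Field M] [Algebra A M] [IsFractionRing A M] (f : A)
    (hf : ∀ z : M, z ^ p ≠ algebraMap A M f) :
    ∃ D : Derivation ℤ A A, D f ≠ 0 := by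
  classical
  let R := MvPowerSeries (Fin d) k
  letI : Algebra R M := ((algebraMap A M).comp (algebraMap R A)).toAlgebra
  haveI : IsScalarTower R A M := IsScalarTower.of_algebraMap_eq fun _ => rfl
  have hinjRM : Function.Injective (algebraMap R M) :=
    (IsFractionRing.injective A M).comp (FaithfulSMul.algebraMap_injective R A)
  haveI : CharP R p := charP_of_injective_ringHom
    (f := (MvPowerSeries.C : k →+* R)) MvPowerSeries.C_injective p
  haveI : CharP M p := charP_of_injective_ringHom hinjRM p
  haveI : CharP A p := charP_of_injective_ringHom (FaithfulSMul.algebraMap_injective R A) p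
  haveI : ExpChar M p := ExpChar.prime Fact.out
  obtain ⟨ι, _, _, _, F, hanti, hfin, hpow, hint⟩ := CofiniteSubfields.exists_family p k
  let G : ι → Subfield M := fun i => Subfield.closure (algebraMap R M '' (restricted (F i) p d : Set R))
  have hGanti : ∀ i j, i ≤ j → G j ≤ G i := fun i j hij => Subfield.closure_mono
    (Set.image_mono fun w hw n => ⟨hanti i j hij (hw n).1, (hw n).2⟩)
  -- elements of the fraction field of `R` in all `G i` are `p`-th powers
  have hGint : ∀ a b : R, b ≠ 0 → (∀ i, algebraMap R M a / algebraMap R M b ∈ G i) →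
      ∃ c e : R, e ≠ 0 ∧ (algebraMap R M c / algebraMap R M e) ^ p = algebraMap R M a / algebraMap R M b := by
    intro a b hb h
    have hp1 : p - 1 + 1 = p := Nat.succ_pred_eq_of_pos (Fact.out : p.Prime).pos
    have hw : ∀ i, a * b ^ (p - 1) ∈ restricted (F i) p d := by
      intro i
      obtain ⟨y, hy, z, hz, hyz⟩ := Subfield.mem_closure_iff.1 (h i)
      have hmap : ∀ y ∈ Subring.closure (algebraMap R M '' (restricted (F i) p d : Set R)),
          ∃ y' ∈ restricted (F i) p d, algebraMap R M y' = y := by
        intro y hy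
        rw [← RingHom.map_closure, Subring.closure_eq] at hy
        exact hy
      obtain ⟨y', hy', rfl⟩ := hmap y hy
      obtain ⟨z', hz', rfl⟩ := hmap z hz
      have hb' : algebraMap R M b ≠ 0 := (map_ne_zero_iff _ hinjRM).2 hb
      rcases eq_or_ne z' 0 with rfl | hz0
      · rw [map_zero, div_zero, eq_comm, div_eq_zero_iff] at hyz
        rw [hinjRM ((hyz.resolve_right hb').trans (map_zero _).symm), zero_mul]
        exact Subring.zero_mem _
      refine mem_restricted_of_mul hz' hz0 ?_
      rw [div_eq_div_iff ((map_ne_zero_iff _ hinjRM).2 hz0) hb', ← map_mul, ← map_mul] at hyz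
      have : a * b ^ (p - 1) * z' = y' * b ^ p := by
        conv_rhs => rw [← hp1, pow_succ', ← mul_assoc, hinjRM hyz]
        ring
      rw [this]
      exact Subring.mul_mem _ hy' (pow_mem_restricted (hpow i) b)
    obtain ⟨v, hv⟩ := exists_pow_of_forall F hint hw
    refine ⟨v, b, hb, ?_⟩
    have hb' : algebraMap R M b ≠ 0 := (map_ne_zero_iff _ hinjRM).2 hb
    rw [div_pow, ← map_pow, hv, div_eq_div_iff (pow_ne_zero _ hb') hb', map_mul, map_pow]
    rw [mul_assoc, ← pow_succ, hp1]
  -- the fraction field `L` of `R` inside `M`, and a basis of `M` over it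
  let L : Subfield M := Subfield.closure (Set.range (algebraMap R M))
  have hL : ∀ x ∈ L, ∃ a b : R, b ≠ 0 ∧ algebraMap R M a / algebraMap R M b = x := by
    intro x hx
    obtain ⟨y, hy, z, hz, rfl⟩ := Subfield.mem_closure_iff.1 hx
    rw [← RingHom.coe_range, Subring.closure_eq] at hy hz
    obtain ⟨a, rfl⟩ := hy
    obtain ⟨b, rfl⟩ := hz
    rcases eq_or_ne b 0 with rfl | hb
    · exact ⟨0, 1, one_ne_zero, by simp⟩
    · exact ⟨a, b, hb, rfl⟩
  have hRL : ∀ r : R, algebraMap R M r ∈ L := fun r => Subfield.subset_closure ⟨r, rfl⟩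
  obtain ⟨gs, hgs⟩ := Module.Finite.fg_top (R := R) (M := A)
  let S : Subalgebra L M := Algebra.adjoin L ((fun a => algebraMap A M a) '' (gs : Set A))
  have hAS : ∀ a : A, algebraMap A M a ∈ S := by
    intro a
    have ha : a ∈ Submodule.span R (gs : Set A) := hgs ▸ Submodule.mem_top
    induction ha using Submodule.span_induction with
    | mem x hx => exact Algebra.subset_adjoin ⟨x, hx, rfl⟩
    | zero => rw [map_zero]; exact S.zero_mem
    | add x y _ _ hx hy => rw [map_add]; exact S.add_mem hx hy
    | smul r x _ hx =>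
      rw [Algebra.smul_def, map_mul, ← IsScalarTower.algebraMap_apply]
      exact S.mul_mem (S.algebraMap_mem ⟨_, hRL r⟩) hx
  haveI : Module.Finite L M := by
    have hint' : ∀ x ∈ (fun a => algebraMap A M a) '' (gs : Set A), IsIntegral L x := by
      rintro _ ⟨a, -, rfl⟩
      obtain ⟨q, hqm, hq⟩ := (Algebra.IsIntegral.isIntegral (R := R) a).map (IsScalarTower.toAlgHom R A M)
      refine ⟨q.map (((algebraMap R M).codRestrict L hRL)), hqm.map _, ?_⟩
      rw [Polynomial.eval₂_map]
      exact hq
    haveI : Module.Finite L S := Module.Finite.iff_fg.2 (fg_adjoin_of_finite (gs.finite_toSet.image _) hint')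
    haveI : Algebra.IsIntegral L S := Algebra.IsIntegral.of_finite L S
    have hS : S = ⊤ := by
      refine top_le_iff.1 fun x _ => ?_
      obtain ⟨a, b, hb, rfl⟩ := IsFractionRing.div_surjective A x
      rw [div_eq_mul_inv]
      refine S.mul_mem (hAS a) ?_
      exact Subalgebra.inv_mem_of_algebraic S (x := ⟨_, hAS b⟩)
        (isAlgebraic_iff_isIntegral.2 (IsIntegral.map S.val (Algebra.IsIntegral.isIntegral (⟨_, hAS b⟩ : S))))
    exact Module.Finite.equiv ((Subalgebra.equivOfEq _ _ hS).toLinearEquiv.trans Subalgebra.topEquiv.toLinearEquiv)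
  let v := Module.finBasis L M
  have hsep : ∃ i₀, ∀ i, i₀ ≤ i → ∀ g : Option (Fin (Module.finrank L M)) → M, (∀ a, g a ∈ G i) →
      ∑ a, g a * (Option.elim a (algebraMap A M f) fun l => v l ^ p) = 0 → g = 0 := by
    refine Groth.Agent.Lib.PBasis.Eventual.eventually_relations G hGanti _ fun g hg hsum => ?_
    -- over the intersection the coefficients are `p`-th powers of elements of `L`
    have hroot : ∀ a, ∃ e : L, (e : M) ^ p = g a := by
      intro a
      obtain ⟨i₁⟩ := ‹Nonempty ι›
      have hGL : G i₁ ≤ L := Subfield.closure_mono (Set.image_subset_range _ _)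
      obtain ⟨r, s, hs, hrs⟩ := hL _ (hGL (hg a i₁))
      obtain ⟨c, e, he, hce⟩ := hGint r s hs fun i => hrs ▸ hg a i
      exact ⟨⟨_, L.div_mem (hRL c) (hRL e)⟩, hce.trans hrs⟩
    choose e he using hroot
    have hsum' : (e none : M) ^ p * algebraMap A M f + (∑ l, (e (some l)) • v l) ^ p = 0 := by
      rw [sum_pow_char, ← hsum, Fintype.sum_option]
      simp only [Option.elim, ← he]
      congr 1
      refine Finset.sum_congr rfl fun l _ => ?_
      rw [Subfield.smul_def, smul_eq_mul, mul_pow]
    have he0 : e none = 0 := by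
      by_contra h0
      have h0' : (e none : M) ≠ 0 := fun h => h0 (Subtype.ext h)
      refine hf (-(∑ l, (e (some l)) • v l) / (e none : M)) ?_
      have hn : (-(∑ l, (e (some l)) • v l)) ^ p = -((∑ l, (e (some l)) • v l) ^ p) := by
        rw [neg_pow, show (-1 : M) ^ p = -1 by
          rw [← frobenius_def, map_neg, map_one], neg_one_mul]
      rw [div_pow, hn, eq_neg_of_add_eq_zero_right hsum', neg_neg,
        mul_div_cancel_left₀ _ (pow_ne_zero _ h0')]
    have hsum'' : ∑ l, (e (some l)) • v l = 0 := by
      rw [he0, ZeroMemClass.coe_zero, zero_pow (Fact.out : p.Prime).ne_zero, zero_mul, zero_add] at hsum'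
      exact eq_zero_of_pow_eq_zero hsum'
    funext a
    cases a with
    | none => rw [← he, he0]; simp [(Fact.out : p.Prime).ne_zero]
    | some l =>
      rw [← he, Fintype.linearIndependent_iff.1 v.linearIndependent _ hsum'' l]
      simp [(Fact.out : p.Prime).ne_zero]
  obtain ⟨i₀, hi₀⟩ := hsep
  -- the subfield `M^p · G i₀`
  let T : Subalgebra (G i₀) M := Algebra.adjoin (G i₀) (Set.range fun l => v l ^ p)
  have hGp : ∀ x ∈ L, x ^ p ∈ G i₀ := by
    intro x hx
    obtain ⟨a, b, -, rfl⟩ := hL x hx
    rw [div_pow, ← map_pow, ← map_pow]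
    exact (G i₀).div_mem (Subfield.subset_closure ⟨_, pow_mem_restricted (hpow i₀) a, rfl⟩)
      (Subfield.subset_closure ⟨_, pow_mem_restricted (hpow i₀) b, rfl⟩)
  let V : Submodule (G i₀) M := Submodule.span (G i₀) (Set.range fun l => v l ^ p)
  have hMp : ∀ x : M, x ^ p ∈ V := by
    intro x
    rw [← v.sum_repr x, sum_pow_char]
    refine Submodule.sum_mem _ fun l _ => ?_
    rw [Subfield.smul_def, smul_eq_mul, mul_pow]
    exact Submodule.smul_mem V (⟨_, hGp _ (v.repr x l).2⟩ : G i₀) (Submodule.subset_span ⟨l, rfl⟩)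
  have hTV : ∀ x ∈ T, x ∈ V := by
    have h1 : (1 : M) ∈ V := by simpa using hMp 1
    have hmul : ∀ x ∈ V, ∀ y ∈ V, x * y ∈ V := by
      intro x hx y hy
      induction hx using Submodule.span_induction with
      | mem z hz =>
        obtain ⟨l, rfl⟩ := hz
        induction hy using Submodule.span_induction with
        | mem z hz => obtain ⟨l', rfl⟩ := hz; rw [← mul_pow]; exact hMp _
        | zero => rw [mul_zero]; exact V.zero_mem
        | add a b _ _ ha hb => rw [mul_add]; exact V.add_mem ha hb
        | smul r a _ ha => rw [mul_smul_comm]; exact V.smul_mem r ha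
      | zero => rw [zero_mul]; exact V.zero_mem
      | add a b _ _ ha hb => rw [add_mul]; exact V.add_mem ha hb
      | smul r a _ ha => rw [smul_mul_assoc]; exact V.smul_mem r ha
    intro x hx
    induction hx using Algebra.adjoin_induction with
    | mem z hz => exact Submodule.subset_span hz
    | algebraMap r => rw [Algebra.algebraMap_eq_smul_one]; exact V.smul_mem r h1
    | add a b _ _ ha hb => exact V.add_mem ha hb
    | mul a b _ _ ha hb => exact hmul a ha b hb
  have hfT : algebraMap A M f ∉ T := by
    intro hfm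
    obtain ⟨c, hc⟩ := (Submodule.mem_span_range_iff_exists_fun _).1 (hTV _ hfm)
    have := congrFun (hi₀ i₀ le_rfl (fun a => Option.elim a (-1) fun l => (c l : M)) (fun a => by
        cases a with
        | none => exact (G i₀).neg_mem (G i₀).one_mem
        | some l => exact (c l).2) (by
      rw [Fintype.sum_option]
      simp only [Option.elim, neg_mul, one_mul]
      rw [← hc, neg_add_eq_zero]
      exact Finset.sum_congr rfl fun l _ => Subfield.smul_def _ _)) none
    simp at this
  have hpT : ∀ x : M, x ^ p ∈ T := fun x => by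
    have hle : V ≤ Subalgebra.toSubmodule T := Submodule.span_le.2 Algebra.subset_adjoin
    exact hle (hMp x)
  haveI : Algebra.IsIntegral (G i₀) T := by
    haveI : Module.Finite (G i₀) (Subalgebra.toSubmodule T) := Module.Finite.iff_fg.2 <| by
      have : Subalgebra.toSubmodule T = V :=
        le_antisymm hTV (Submodule.span_le.2 Algebra.subset_adjoin)
      rw [this]
      exact Submodule.fg_span (Set.finite_range _)
    exact Algebra.IsIntegral.of_finite _ _
  letI : Field T := (isField_of_isIntegral_of_isField' (R := G i₀) (S := T) (Field.toIsField _)).toField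
  have hD : KaehlerDifferential.D T M (algebraMap A M f) ≠ 0 := by
    intro h0
    have := Groth.Agent.Lib.PBasis.Eventual.mem_pPowerSubalgebra_of_D_eq_zero (p := p) h0
    rw [Groth.Agent.Lib.PBasis.Basic.pPower_eq_range p fun b => ⟨⟨b ^ p, hpT b⟩, rfl⟩] at this
    obtain ⟨t, ht⟩ := Algebra.mem_bot.1 this
    exact hfT (ht ▸ t.2)
  obtain ⟨φ, hφ⟩ : ∃ φ : Ω[M⁄T] →ₗ[M] M, φ (KaehlerDifferential.D T M (algebraMap A M f)) ≠ 0 := by
    by_contra! h
    exact hD ((Module.forall_dual_apply_eq_zero_iff M _).1 h)
  let D : Derivation T M M := φ.compDer (KaehlerDifferential.D T M)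
  -- `R` is finite over the restricted series, which `D` kills
  let R₀ := restricted (F i₀) p d
  haveI := hfin i₀
  haveI : Module.Finite R₀ R := finite_restricted (F i₀)
  haveI : Module.Finite R₀ A := Module.Finite.trans R A
  have hD0 : ∀ r : R₀, D (algebraMap R M (r : R)) = 0 := fun r => by
    have hrT : algebraMap R M (r : R) ∈ T :=
      T.algebraMap_mem ⟨_, Subfield.subset_closure ⟨_, r.2, rfl⟩⟩
    exact D.map_algebraMap (⟨_, hrT⟩ : T)
  obtain ⟨gs', hgs'⟩ := Module.Finite.fg_top (R := R₀) (M := A)
  obtain ⟨⟨s, hs⟩, hs'⟩ := IsLocalization.exist_integer_multiples_of_finset A⁰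
    (gs'.image fun a => D (algebraMap A M a))
  have hmem : ∀ a : A, ∃ a' : A, algebraMap A M a' = algebraMap A M s * D (algebraMap A M a) := by
    intro a
    have ha : a ∈ Submodule.span R₀ (gs' : Set A) := hgs' ▸ Submodule.mem_top
    induction ha using Submodule.span_induction with
    | mem x hx =>
      obtain ⟨a', ha'⟩ := hs' _ (Finset.mem_image_of_mem _ hx)
      exact ⟨a', ha'.trans (by rw [Algebra.smul_def])⟩
    | zero => exact ⟨0, by simp⟩
    | add x y _ _ hx hy =>
      obtain ⟨a, ha⟩ := hx
      obtain ⟨b, hb⟩ := hy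
      exact ⟨a + b, by rw [map_add, ha, hb, map_add, map_add, mul_add]⟩
    | smul r x _ hx =>
      obtain ⟨a, ha⟩ := hx
      refine ⟨(r : R) • a, ?_⟩
      have e : algebraMap A M (r • x) = algebraMap R M (r : R) * algebraMap A M x := by
        change algebraMap A M ((r : R) • x) = _
        rw [Algebra.smul_def, map_mul, ← IsScalarTower.algebraMap_apply]
      rw [e, Derivation.leibniz, hD0, smul_zero, add_zero, smul_eq_mul, Algebra.smul_def, map_mul,
        ← IsScalarTower.algebraMap_apply, ha]
      ring
  choose E hE using hmem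
  have hinjA := IsFractionRing.injective A M
  refine ⟨Derivation.mk' (AddMonoidHom.toIntLinearMap
    { toFun := E
      map_zero' := hinjA (by rw [hE, map_zero, map_zero, mul_zero])
      map_add' := fun a b => hinjA (by rw [hE, map_add, map_add, map_add, mul_add, hE, hE]) })
    (fun a b => hinjA (by
      change algebraMap A M (E (a * b)) = algebraMap A M (a • E b + b • E a)
      rw [hE, map_mul, Derivation.leibniz, smul_eq_mul, smul_eq_mul, smul_eq_mul, smul_eq_mul, map_add,
        map_mul, map_mul, hE, hE]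
      ring)), fun h => hφ ?_⟩
  have h' : E f = 0 := h
  have := hE f
  rw [h', map_zero, eq_comm, mul_eq_zero] at this
  exact this.resolve_left ((map_ne_zero_iff _ hinjA).2 (nonZeroDivisors.ne_zero hs))

end Groth.Agent.Lib.Cohen.PSDerivation
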