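import Groth.Agent.H24.PowerSeries
import Groth.Agent.Lib.Regular.UFD
import Groth.Agent.Lib.Cohen.Tate
import Groth.Agent.Lib.Dim.Integral
import Mathlib.RingTheory.Ideal.KrullsHeightTheorem
import Mathlib.RingTheory.MvPowerSeries.NoZeroDivisors
import Mathlib.RingTheory.PowerSeries.NoZeroDivisors

/-!
Power series rings over regular local rings are regular; Japanese property of `k[[X]]`.
-/

set_option linter.style.haveILetI false

universe u

open IsLocalRing

namespace Groth.Agent.Lib.Cohen.PSRegular

/-- Power series over a domain form a domain. -/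
instance isDomain_mvPowerSeries {σ : Type*} (R : Type u) [CommRing R] [IsDomain R] :
    IsDomain (MvPowerSeries σ R) := NoZeroDivisors.to_isDomain _

/-- The quotient `R[[X]] ⧸ (X)` is `R`. -/
noncomputable def quotXEquiv (R : Type u) [CommRing R] :
    (PowerSeries R ⧸ Ideal.span {(PowerSeries.X : PowerSeries R)}) ≃+* R :=
  (Ideal.quotEquivOfEq (by
    ext f
    rw [Ideal.mem_span_singleton, PowerSeries.X_dvd_iff, RingHom.mem_ker])).trans
    (RingHom.quotientKerEquivOfSurjective
      (f := PowerSeries.constantCoeff (R := R)) (fun r => ⟨PowerSeries.C r, by simp⟩))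

theorem powerSeries_dim (R : Type u) [CommRing R] [IsRegularLocalRing R] :
    ringKrullDim (PowerSeries R) = ringKrullDim R + 1 := by
  haveI := Groth.Agent.H24.PowerSeries.powerSeries_regular R
  have hX : (PowerSeries.X : PowerSeries R) ∈ maximalIdeal (PowerSeries R) := by
    rw [mem_maximalIdeal, mem_nonunits_iff, PowerSeries.isUnit_iff_constantCoeff]
    simp
  have hreg : IsSMulRegular (PowerSeries R) (PowerSeries.X : PowerSeries R) := fun a b hab =>
    PowerSeries.X_mul_cancel (by simpa [smul_eq_mul] using hab)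
  rw [← ringKrullDim_quotient_span_singleton_succ_eq_ringKrullDim hreg hX,
    ringKrullDim_eq_of_ringEquiv (quotXEquiv R)]

theorem mvPowerSeries (Λ : Type u) [CommRing Λ] [IsRegularLocalRing Λ] :
    ∀ d : ℕ, IsRegularLocalRing (MvPowerSeries (Fin d) Λ) ∧
      ringKrullDim (MvPowerSeries (Fin d) Λ) = ringKrullDim Λ + d
  | 0 => by
    have hb : Function.Bijective (MvPowerSeries.constantCoeff (σ := Fin 0) (R := Λ)) := by
      refine ⟨fun f g h => MvPowerSeries.ext fun n => ?_, fun r => ⟨MvPowerSeries.C r, by simp⟩⟩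
      rw [Subsingleton.elim n 0]
      simpa using h
    refine ⟨IsRegularLocalRing.of_ringEquiv (RingEquiv.ofBijective _ hb).symm, ?_⟩
    rw [ringKrullDim_eq_of_ringEquiv (RingEquiv.ofBijective _ hb), Nat.cast_zero, add_zero]
  | d + 1 => by
    obtain ⟨hreg, hdim⟩ := mvPowerSeries Λ d
    haveI := hreg
    haveI := Groth.Agent.H24.PowerSeries.powerSeries_regular (MvPowerSeries (Fin d) Λ)
    refine ⟨IsRegularLocalRing.of_ringEquiv (MvPowerSeries.finSuccEquiv Λ d).toRingEquiv.symm, ?_⟩
    rw [ringKrullDim_eq_of_ringEquiv (MvPowerSeries.finSuccEquiv Λ d).toRingEquiv, powerSeries_dim,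
      hdim, Nat.cast_succ, add_assoc]

/-- `R[[X]]` is Japanese for a regular Japanese local ring `R`. -/
theorem isN2_powerSeries (R : Type u) [CommRing R] [IsDomain R] [IsRegularLocalRing R]
    (h : CAlg.IsN2 R) : CAlg.IsN2 (PowerSeries R) := by
  haveI := Groth.Agent.H24.PowerSeries.powerSeries_regular R
  haveI := Groth.Agent.Lib.Regular.UFD.isIntegrallyClosed (PowerSeries R)
  haveI : (Ideal.span {(PowerSeries.X : PowerSeries R)}).IsPrime := PowerSeries.span_X_isPrime
  haveI : IsDomain (PowerSeries R ⧸ Ideal.span {(PowerSeries.X : PowerSeries R)}) :=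
    Ideal.Quotient.isDomain _
  exact Groth.Agent.Lib.Cohen.Tate.isN2 (PowerSeries R) PowerSeries.X
    (Groth.Agent.Lib.Excellent.Nagata.isN2_of_ringEquiv (quotXEquiv R).symm h)

/-- `k[[X_1, …, X_d]]` is Japanese. -/
theorem isN2_mvPowerSeries_field (k : Type u) [Field k] :
    ∀ (d : ℕ), CAlg.IsN2 (MvPowerSeries (Fin d) k)
  | 0 => by
    have hb : Function.Bijective (MvPowerSeries.constantCoeff (σ := Fin 0) (R := k)) := by
      refine ⟨fun f g h => MvPowerSeries.ext fun n => ?_, fun r => ⟨MvPowerSeries.C r, by simp⟩⟩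
      rw [Subsingleton.elim n 0]
      simpa using h
    exact Groth.Agent.Lib.Excellent.Nagata.isN2_of_ringEquiv (RingEquiv.ofBijective _ hb).symm
      (Groth.Agent.Lib.Excellent.Nagata.isN2_of_field k)
  | d + 1 => by
    haveI := (mvPowerSeries k d).1
    exact Groth.Agent.Lib.Excellent.Nagata.isN2_of_ringEquiv
      (MvPowerSeries.finSuccEquiv k d).toRingEquiv.symm
      (isN2_powerSeries _ (isN2_mvPowerSeries_field k d))

/-- A system of parameters. -/
theorem exists_sop (R : Type u) [CommRing R] [IsNoetherianRing R] [IsLocalRing R] {d : ℕ}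
    (hd : ringKrullDim R = d) :
    ∃ x : Fin d → R, (∀ i, x i ∈ maximalIdeal R) ∧
      maximalIdeal R ≤ (Ideal.span (Set.range x)).radical := by
  obtain ⟨s, hs, hcard⟩ := Ideal.exists_finset_card_eq_height_of_isNoetherianRing (maximalIdeal R)
  have hcard' : s.card = d := by
    have := IsLocalRing.maximalIdeal_height_eq_ringKrullDim (R := R)
    rw [hd, ← hcard] at this
    exact_mod_cast this
  have hrange : Set.range (fun i : Fin d => ((s.equivFin.symm (Fin.cast hcard'.symm i) : s) : R)) = s := by
    ext z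
    refine ⟨?_, fun hz => ⟨Fin.cast hcard' (s.equivFin ⟨z, hz⟩), by simp⟩⟩
    rintro ⟨i, rfl⟩
    exact (s.equivFin.symm _).2
  refine ⟨_, fun i => hs.1.2 (Ideal.subset_span (s.equivFin.symm (Fin.cast hcard'.symm i)).2), ?_⟩
  rw [hrange, Ideal.radical_eq_sInf]
  refine le_sInf fun J hJ => ?_
  haveI := hJ.2
  exact hs.2 ⟨hJ.2, hJ.1⟩ (IsLocalRing.le_maximalIdeal hJ.2.ne_top)

/-- A finite map from a Noetherian domain of the same dimension is injective. -/
theorem injective_of_finite {P : Type u} [CommRing P] [IsDomain P] [IsNoetherianRing P]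
    {R : Type u} [CommRing R] (g : P →+* R) (hg : g.Finite) {n : ℕ}
    (hP : ringKrullDim P = n) (hR : ringKrullDim R = n) : Function.Injective g := by
  letI := g.toAlgebra
  haveI : Module.Finite P R := hg
  rw [RingHom.injective_iff_ker_eq_bot]
  by_contra hne
  obtain ⟨a, ha, ha0⟩ := Submodule.exists_mem_ne_zero_of_ne_bot hne
  let B := P ⧸ RingHom.ker g
  letI : Algebra B R := (RingHom.kerLift g).toAlgebra
  haveI : IsScalarTower P B R := IsScalarTower.of_algebraMap_eq fun _ => rfl
  haveI : Module.Finite B R := Module.Finite.of_restrictScalars_finite P B R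
  haveI : FaithfulSMul B R :=
    (faithfulSMul_iff_algebraMap_injective B R).2 (RingHom.kerLift_injective g)
  have h1 : ringKrullDim R = ringKrullDim B := Groth.Agent.Lib.Dim.Integral.ringKrullDim_eq_of_isIntegral
  have hle : Ideal.span {a} ≤ RingHom.ker g := (Ideal.span_singleton_le_iff_mem _).2 ha
  have h2 : ringKrullDim B ≤ ringKrullDim (P ⧸ Ideal.span {a}) :=
    ringKrullDim_le_of_surjective (Ideal.Quotient.factor hle) (Ideal.Quotient.factor_surjective hle)
  have h3 := ringKrullDim_quotient_succ_le_of_nonZeroDivisor (mem_nonZeroDivisors_of_ne_zero ha0)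
  have h4 : (n : WithBot ℕ∞) + 1 ≤ n := by
    calc (n : WithBot ℕ∞) + 1 = ringKrullDim B + 1 := by rw [← h1, hR]
      _ ≤ ringKrullDim (P ⧸ Ideal.span {a}) + 1 := by gcongr
      _ ≤ _ := h3.trans hP.le
  have : n + 1 ≤ n := by exact_mod_cast h4
  omega

end Groth.Agent.Lib.Cohen.PSRegular
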