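import Groth.Agent.Lib.Cohen.Unramified
import Groth.Agent.Lib.Excellent.QuotientNormal
import Mathlib.RingTheory.AdicCompletion.AsTensorProduct
import Mathlib.RingTheory.Flat.FaithfullyFlat.Algebra
import Mathlib.RingTheory.Ideal.AssociatedPrime.Localization
import Mathlib.RingTheory.DiscreteValuationRing.TFAE

/-!
# Nagata local rings have geometrically reduced formal fibres

Every finite domain over a Nagata local ring stays reduced after completion.
-/

set_option linter.style.haveILetI false

universe u

open scoped TensorProduct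
open IsLocalRing

namespace Groth.Agent.Lib.Cohen.NagataUnramified

/-- Uniformizer data at a prime `P` for the element `ξ`. -/
def HasUnif {B : Type u} [CommRing B] (ξ : B) (P : Ideal B) : Prop :=
  ∃ π ∈ P, π ≠ 0 ∧ (∃ s ∉ P, ∀ a ∈ P, π ∣ s * a) ∧ ∃ e : ℕ, ∃ v ∉ P, ξ ∣ v * π ^ e

theorem mem_of_mem_associatedPrimes {B : Type u} [CommRing B] {ξ : B} {P : Ideal B}
    (hP : P ∈ associatedPrimes B (B ⧸ Ideal.span {ξ})) : ξ ∈ P := by
  let M := B ⧸ Ideal.span {ξ}
  refine hP.annihilator_le ?_
  refine Module.mem_annihilator.2 fun m => ?_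
  obtain ⟨m', hm'⟩ := Ideal.Quotient.mk_surjective (m : M)
  refine Subtype.ext (show ξ • (m : M) = 0 from ?_)
  rw [← hm', Algebra.smul_def, Ideal.Quotient.algebraMap_eq, ← map_mul, Ideal.Quotient.eq_zero_iff_mem]
  exact Ideal.mul_mem_right _ _ (Ideal.mem_span_singleton_self ξ)

theorem hasUnif_of_normal {B : Type u} [CommRing B] [IsDomain B] [IsNoetherianRing B]
    [IsIntegrallyClosed B] {ξ : B} (hξ : ξ ≠ 0) {P : Ideal B}
    (hP : P ∈ associatedPrimes B (B ⧸ Ideal.span {ξ})) : HasUnif ξ P := by
  classical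
  let M := B ⧸ Ideal.span {ξ}
  haveI := hP.isPrime
  have hξP : ξ ∈ P := mem_of_mem_associatedPrimes hP
  let R := Localization.AtPrime P
  haveI : IsDomain R := IsLocalization.isDomain_localization P.primeCompl_le_nonZeroDivisors
  haveI : IsIntegrallyClosed R :=
    isIntegrallyClosed_of_isLocalization R P.primeCompl P.primeCompl_le_nonZeroDivisors
  have hξR : algebraMap B R ξ ≠ 0 :=
    (map_ne_zero_iff _ (IsLocalization.injective R P.primeCompl_le_nonZeroDivisors)).2 hξ
  have hξm : algebraMap B R ξ ∈ maximalIdeal R :=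
    (IsLocalization.AtPrime.to_map_mem_maximal_iff R P ξ).2 hξP
  have hassR : maximalIdeal R ∈ associatedPrimes R (R ⧸ Ideal.span {algebraMap B R ξ}) := by
    let f : M →ₗ[B] R ⧸ Ideal.span {algebraMap B R ξ} :=
      (Ideal.quotientMapₐ (Ideal.span {algebraMap B R ξ}) (Algebra.ofId B R) (by
        rw [Ideal.span_singleton_le_iff_mem]
        exact Ideal.mem_span_singleton_self _)).toLinearMap
    haveI : IsLocalizedModule P.primeCompl f := by
      have h0 : Submodule.localized' R P.primeCompl (Algebra.linearMap B R) (Ideal.span {ξ}) =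
          Ideal.span {algebraMap B R ξ} := by
        rw [Ideal.localized'_eq_map, Ideal.map_span, Set.image_singleton]
      have h1 : IsLocalizedModule P.primeCompl
          (((Ideal.span {ξ}).toLocalizedQuotient' R P.primeCompl (Algebra.linearMap B R))) :=
        inferInstance
      have h2 : f = ((Submodule.quotEquivOfEq _ _ h0).restrictScalars B).toLinearMap ∘ₗ
          ((Ideal.span {ξ}).toLocalizedQuotient' R P.primeCompl (Algebra.linearMap B R)) := by
        refine LinearMap.ext fun m => ?_
        obtain ⟨m, rfl⟩ := Ideal.Quotient.mk_surjective m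
        rfl
      rw [h2]
      exact IsLocalizedModule.of_linearEquiv _ _ _
    exact Module.associatedPrimes.mem_associatedPrimes_of_comap_mem_associatedPrimes_of_isLocalizedModule
      P.primeCompl f _ (by
        have e := IsLocalization.AtPrime.under_maximalIdeal R P
        rw [Ideal.under_def] at e
        rwa [e])
  obtain ⟨π₀, hπ₀, hgen⟩ := Groth.Agent.Lib.Excellent.QuotientNormal.exists_maximalIdeal_eq_span
    R hξm hξR hassR
  -- a uniformizer from `P`
  obtain ⟨π, hπgen⟩ : ∃ π : P, maximalIdeal R = Ideal.span {algebraMap B R π} := by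
    obtain ⟨a, s, rfl⟩ := IsLocalization.exists_mk'_eq P.primeCompl π₀
    have hu : IsUnit (algebraMap B R s) := IsLocalization.map_units R s
    have ha : algebraMap B R a = IsLocalization.mk' R a s * algebraMap B R s :=
      (IsLocalization.mk'_spec R a s).symm
    refine ⟨⟨a, ?_⟩, ?_⟩
    · rw [← IsLocalization.AtPrime.to_map_mem_maximal_iff R P, ha, hgen]
      exact Ideal.mul_mem_right _ _ (Ideal.mem_span_singleton_self _)
    · change maximalIdeal R = Ideal.span {algebraMap B R a}
      refine hgen.trans ?_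
      rw [ha, Ideal.span_singleton_mul_right_unit hu]
  have hπ0 : (π : B) ≠ 0 := fun h0 => by
    rw [h0, map_zero, Ideal.span_singleton_eq_bot.2 rfl] at hπgen
    exact hπ₀ (Ideal.span_singleton_eq_bot.1 (hgen.symm.trans hπgen))
  -- `s P ⊆ π B` for some `s ∉ P`
  obtain ⟨s, hsP, hs⟩ : ∃ s ∉ P, ∀ a ∈ P, (π : B) ∣ s * a := by
    have h1 : ∀ a : P, ∃ t : P.primeCompl, (π : B) ∣ t * a := fun a => by
      have h2 : algebraMap B R a ∈ maximalIdeal R :=
        (IsLocalization.AtPrime.to_map_mem_maximal_iff R P _).2 a.2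
      rw [hπgen, Ideal.mem_span_singleton'] at h2
      obtain ⟨r, hr⟩ := h2
      obtain ⟨b, t, rfl⟩ := IsLocalization.exists_mk'_eq P.primeCompl r
      refine ⟨t, ⟨b, IsLocalization.injective R P.primeCompl_le_nonZeroDivisors ?_⟩⟩
      rw [map_mul, map_mul, ← hr, mul_left_comm, ← mul_assoc, IsLocalization.mk'_spec]
      ring
    choose t ht using h1
    obtain ⟨G, hG⟩ := IsNoetherian.noetherian P
    have hGP : ∀ g ∈ G, g ∈ P := fun g hg => hG ▸ Submodule.subset_span hg
    refine ⟨∏ g ∈ G.attach, ((t ⟨g.1, hGP _ g.2⟩ : P.primeCompl) : B), ?_, fun a ha => ?_⟩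
    · exact prod_mem (S := P.primeCompl) fun g _ => (t _).2
    rw [← hG] at ha
    induction ha using Submodule.span_induction with
    | mem g hg =>
      exact dvd_trans (ht ⟨g, hGP g hg⟩) (mul_dvd_mul_right
        (Finset.dvd_prod_of_mem (fun g : G => ((t ⟨g.1, hGP _ g.2⟩ : P.primeCompl) : B))
          (Finset.mem_attach G ⟨g, hg⟩)) g)
    | zero => simp
    | add x y _ _ hx hy => rw [mul_add]; exact dvd_add hx hy
    | smul r x _ hx => rw [smul_eq_mul, mul_left_comm]; exact dvd_mul_of_dvd_right hx r
  -- `π ^ e ∈ ξ B_P`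
  obtain ⟨e, v, hv, hve⟩ : ∃ e : ℕ, ∃ v ∉ P, ξ ∣ v * (π : B) ^ e := by
    haveI : IsDiscreteValuationRing R := by
      have hnf : ¬IsField R := fun hf => hπ₀ (by
        have := IsLocalRing.isField_iff_maximalIdeal_eq.1 hf
        rw [hgen] at this
        exact Ideal.span_singleton_eq_bot.1 this)
      have h04 := (IsDiscreteValuationRing.TFAE R hnf).out 0 4 (a := IsDiscreteValuationRing R) (b := (maximalIdeal R).IsPrincipal) rfl rfl
      exact h04.2 ⟨⟨π₀, hgen⟩⟩
    obtain ⟨e, he⟩ := IsDiscreteValuationRing.associated_pow_irreducible hξR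
      ((IsDiscreteValuationRing.irreducible_iff_uniformizer _).2 hπgen)
    obtain ⟨c, hc⟩ := he.dvd
    obtain ⟨b, t, rfl⟩ := IsLocalization.exists_mk'_eq P.primeCompl c
    refine ⟨e, t, t.2, ⟨b, IsLocalization.injective R P.primeCompl_le_nonZeroDivisors ?_⟩⟩
    rw [map_mul, map_mul, map_pow, hc, mul_left_comm, IsLocalization.mk'_spec']
  exact ⟨π, π.2, hπ0, ⟨s, hsP, hs⟩, e, v, hv, hve⟩

/-- The principal step: a flat algebra over a Noetherian domain, separated for `ξ`, with reduced
fibres and uniformizers at the primes associated to `ξ`, is reduced. -/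
theorem isReduced_of_unif {B : Type u} [CommRing B] [IsDomain B] [IsNoetherianRing B]
    (T : Type u) [CommRing T] [Algebra B T] [Module.Flat B T] {ξ : B}
    (hξ : ξ ≠ 0) (hsep : ∀ z : T, (∀ n, algebraMap B T ξ ^ n ∣ z) → z = 0)
    (hfib : ∀ P ∈ associatedPrimes B (B ⧸ Ideal.span {ξ}),
      HasUnif ξ P ∧ IsReduced (T ⧸ P.map (algebraMap B T))) :
    IsReduced T := by
  classical
  have hregT : ∀ b : B, b ≠ 0 → ∀ z : T, algebraMap B T b * z = 0 → z = 0 := fun b hb z hz =>
    (IsSMulRegular.of_flat (S := T) (IsRegular.of_ne_zero hb).left).right_eq_zero_of_smul hz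
  suffices key : ∀ z : T, IsNilpotent z → algebraMap B T ξ ∣ z by
    constructor
    intro z hz
    refine hsep z fun n => ?_
    induction n with
    | zero => simp
    | succ n ih =>
      obtain ⟨w, rfl⟩ := ih
      obtain ⟨k, hk⟩ := hz
      have hw : IsNilpotent w := by
        refine ⟨k, hregT ((ξ ^ n) ^ k) (pow_ne_zero _ (pow_ne_zero _ hξ)) _ ?_⟩
        rw [map_pow, map_pow, ← mul_pow, hk]
      obtain ⟨v, rfl⟩ := key w hw
      exact ⟨v, by ring⟩
  intro z hz
  let M := B ⧸ Ideal.span {ξ}
  let J : Ideal B := ((Ideal.span {algebraMap B T ξ}).colon ({z} : Set T)).comap (algebraMap B T)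
  have hJ : ∀ s, s ∈ J ↔ algebraMap B T ξ ∣ algebraMap B T s * z := fun s => by
    rw [Ideal.mem_comap, Submodule.mem_colon_singleton, smul_eq_mul, Ideal.mem_span_singleton]
  have hass : ∀ P ∈ associatedPrimes B M, ¬ J ≤ P := by
    intro P hP hJP
    haveI := hP.isPrime
    obtain ⟨⟨π₀, hπP, hπ0', ⟨s, hsP, hs⟩, e, v, hv, hve⟩, hred⟩ := hfib P hP
    obtain ⟨π, rfl⟩ : ∃ π : P, (π : B) = π₀ := ⟨⟨π₀, hπP⟩, rfl⟩
    have hπ0 := hπ0'
    haveI := hred
    have hpow : ∀ j : ℕ, ∃ u ∉ P, algebraMap B T ((π : B) ^ j) ∣ algebraMap B T u * z := by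
      intro j
      induction j with
      | zero => exact ⟨1, fun h => hP.isPrime.ne_top ((Ideal.eq_top_iff_one P).2 h), by simp⟩
      | succ j ih =>
        obtain ⟨u, hu, w, hw⟩ := ih
        have hwn : IsNilpotent w := by
          obtain ⟨k, hk⟩ := hz
          refine ⟨k, hregT (((π : B) ^ j) ^ k) (pow_ne_zero _ (pow_ne_zero _ hπ0)) _ ?_⟩
          rw [map_pow, ← mul_pow, ← hw, mul_pow, hk, mul_zero]
        have hwP : w ∈ P.map (algebraMap B T) :=
          Ideal.Quotient.eq_zero_iff_mem.1 ((hwn.map (Ideal.Quotient.mk _)).eq_zero)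
        have hsw : algebraMap B T (π : B) ∣ algebraMap B T s * w := by
          clear hw hwn
          induction hwP using Submodule.span_induction with
          | mem x hx =>
            obtain ⟨a, ha, rfl⟩ := hx
            rw [← map_mul]
            exact map_dvd _ (hs a ha)
          | zero => simp
          | add x y _ _ hx hy => rw [mul_add]; exact dvd_add hx hy
          | smul r x _ hx => rw [smul_eq_mul, mul_left_comm]; exact dvd_mul_of_dvd_right hx r
        refine ⟨s * u, fun h => (hP.isPrime.mem_or_mem h).elim hsP hu, ?_⟩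
        rw [map_mul, mul_assoc, hw, mul_left_comm, pow_succ, map_mul]
        exact mul_dvd_mul_left _ hsw
    obtain ⟨u, hu, hdu⟩ := hpow e
    refine (fun h : v * u ∉ P => h (hJP ((hJ _).2 ?_))) fun h => (hP.isPrime.mem_or_mem h).elim hv hu
    rw [map_mul, mul_assoc]
    refine dvd_trans ?_ (mul_dvd_mul_left _ hdu)
    rw [← map_mul]
    exact map_dvd _ hve
  obtain ⟨s, hsJ, hs⟩ : ∃ s ∈ J, IsSMulRegular M s := by
    by_contra hn
    push Not at hn
    have hsub : (J : Set B) ⊆ ⋃ P ∈ ((associatedPrimes.finite B M).toFinset : Set (Ideal B)), (P : Set B) := by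
      intro a ha
      rw [Set.Finite.coe_toFinset, biUnion_associatedPrimes_eq_compl_regular]
      exact hn a ha
    obtain ⟨P, hP, hle⟩ := (Ideal.subset_union_prime ⊥ ⊥ fun P hP _ _ =>
      ((associatedPrimes.finite B M).mem_toFinset.1 hP).isPrime).1 hsub
    exact hass P ((associatedPrimes.finite B M).mem_toFinset.1 hP) hle
  have hreg := hs.of_flat_of_isBaseChange (TensorProduct.isBaseChange B M T)
  obtain ⟨w, hw⟩ := (hJ s).1 hsJ
  let E := Algebra.TensorProduct.quotIdealMapEquivTensorQuot T (Ideal.span {ξ})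
  have hI : (Ideal.span {ξ}).map (algebraMap B T) = Ideal.span {algebraMap B T ξ} := by
    rw [Ideal.map_span, Set.image_singleton]
  have h0 : E (Ideal.Quotient.mk _ z) = 0 := by
    refine hreg.right_eq_zero_of_smul ?_
    rw [← map_smul, Algebra.smul_def, Ideal.Quotient.algebraMap_eq, ← map_mul,
      Ideal.Quotient.eq_zero_iff_mem.2, map_zero]
    rw [hI, hw]
    exact Ideal.mul_mem_right _ _ (Ideal.mem_span_singleton_self _)
  rw [EmbeddingLike.map_eq_zero_iff, Ideal.Quotient.eq_zero_iff_mem, hI, Ideal.mem_span_singleton] at h0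
  exact h0

/-- The principal step over a normal domain. -/
theorem isReduced_of_fibres {B : Type u} [CommRing B] [IsDomain B] [IsNoetherianRing B]
    [IsIntegrallyClosed B] (T : Type u) [CommRing T] [Algebra B T] [Module.Flat B T] {ξ : B}
    (hξ : ξ ≠ 0) (hsep : ∀ z : T, (∀ n, algebraMap B T ξ ^ n ∣ z) → z = 0)
    (hfib : ∀ P : Ideal B, P.IsPrime → ξ ∈ P → IsReduced (T ⧸ P.map (algebraMap B T))) :
    IsReduced T :=
  isReduced_of_unif T hξ hsep fun P hP =>
    ⟨hasUnif_of_normal hξ hP, hfib P hP.isPrime (mem_of_mem_associatedPrimes hP)⟩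

/-- Finite domains over a Nagata local ring stay reduced after completion. -/
theorem isReduced_tensor_of_isNagata (R : Type u) [CommRing R] [IsLocalRing R] [IsNoetherianRing R]
    (hR : CAlg.IsNagata R) (B : Type u) [CommRing B] [IsDomain B] [Algebra R B] [Module.Finite R B] :
    IsReduced (B ⊗[R] AdicCompletion (maximalIdeal R) R) := by
  classical
  let C := AdicCompletion (maximalIdeal R) R
  suffices key : ∀ (q : Ideal R) (B : Type u) [CommRing B] [IsDomain B] [Algebra R B]
      [Module.Finite R B], RingHom.ker (algebraMap R B) = q → IsReduced (B ⊗[R] C) from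
    key _ B rfl
  intro q
  induction q using WellFoundedGT.induction with
  | ind q ih =>
  intro B _ _ _ _ hker
  haveI hqp : q.IsPrime := hker ▸ RingHom.ker_isPrime _
  by_cases hqm : maximalIdeal R ≤ q
  · -- the residue field case
    have hkill : ∀ r ∈ maximalIdeal R, algebraMap R B r = 0 := fun r hr =>
      RingHom.mem_ker.1 (hker ▸ hqm hr)
    have hsurj : Function.Surjective (Algebra.TensorProduct.includeLeft : B →ₐ[R] B ⊗[R] C) := by
      intro z
      induction z using TensorProduct.induction_on with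
      | zero => exact ⟨0, map_zero _⟩
      | add x y hx hy =>
        obtain ⟨a, rfl⟩ := hx
        obtain ⟨b, rfl⟩ := hy
        exact ⟨a + b, map_add _ _ _⟩
      | tmul b c =>
        obtain ⟨r, hr⟩ := (AdicCompletion.residueField_map_bijective R).2 (residue C c)
        obtain ⟨r, rfl⟩ := residue_surjective r
        rw [ResidueField.map_residue, ← sub_eq_zero, ← map_sub, residue_eq_zero_iff,
          AdicCompletion.maximalIdeal_eq_map] at hr
        have hz : ∀ x ∈ (maximalIdeal R).map (algebraMap R C), b ⊗ₜ[R] x = 0 := by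
          intro x hx
          rw [← Submodule.restrictScalars_mem R, ← Ideal.smul_top_eq_map] at hx
          induction hx using Submodule.smul_induction_on' with
          | smul a ha y _ =>
            rw [← TensorProduct.smul_tmul, Algebra.smul_def, hkill a ha, zero_mul,
              TensorProduct.zero_tmul]
          | add x _ y _ hx hy => rw [TensorProduct.tmul_add, hx, hy, add_zero]
        refine ⟨r • b, ?_⟩
        have h := hz _ hr
        rw [TensorProduct.tmul_sub, sub_eq_zero] at h
        rw [← h, Algebra.algebraMap_eq_smul_one, ← TensorProduct.smul_tmul]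
        rfl
    have hBf : IsField B := by
      haveI : q.IsMaximal := by
        have e : maximalIdeal R = q := le_antisymm hqm (IsLocalRing.le_maximalIdeal hqp.ne_top)
        exact e ▸ maximalIdeal.isMaximal R
      letI : Field (R ⧸ q) := Ideal.Quotient.field q
      letI : Algebra (R ⧸ q) B := (Ideal.Quotient.lift q (algebraMap R B)
        fun a ha => RingHom.mem_ker.1 (hker ▸ ha)).toAlgebra
      haveI : IsScalarTower R (R ⧸ q) B := IsScalarTower.of_algebraMap_eq fun _ => rfl
      haveI : Algebra.IsIntegral (R ⧸ q) B := Algebra.IsIntegral.tower_top R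
      exact isField_of_isIntegral_of_isField' (R := R ⧸ q) (Field.toIsField _)
    rcases subsingleton_or_nontrivial (B ⊗[R] C) with h | h
    · exact ⟨fun x _ => Subsingleton.elim _ _⟩
    letI := hBf.toField
    let e := RingEquiv.ofBijective (Algebra.TensorProduct.includeLeft : B →ₐ[R] B ⊗[R] C).toRingHom
      ⟨RingHom.injective _, hsurj⟩
    exact isReduced_of_injective e.symm e.symm.injective
  -- pass to the normalization
  haveI : IsDomain (R ⧸ q) := Ideal.Quotient.isDomain q
  letI : Algebra (R ⧸ q) B := (Ideal.Quotient.lift q (algebraMap R B)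
    fun a ha => RingHom.mem_ker.1 (hker ▸ ha)).toAlgebra
  haveI : IsScalarTower R (R ⧸ q) B := IsScalarTower.of_algebraMap_eq fun _ => rfl
  haveI : Module.Finite (R ⧸ q) B := Module.Finite.of_restrictScalars_finite R _ _
  haveI : FaithfulSMul (R ⧸ q) B := (faithfulSMul_iff_algebraMap_injective _ _).2 <| by
    rw [injective_iff_map_eq_zero]
    intro a ha
    obtain ⟨a, rfl⟩ := Ideal.Quotient.mk_surjective a
    rw [Ideal.Quotient.eq_zero_iff_mem, ← hker, RingHom.mem_ker]
    exact ha
  let L := FractionRing B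
  haveI : FaithfulSMul (R ⧸ q) L := (faithfulSMul_iff_algebraMap_injective _ _).2 <| by
    rw [IsScalarTower.algebraMap_eq (R ⧸ q) B L]
    exact (IsFractionRing.injective B L).comp (FaithfulSMul.algebraMap_injective _ _)
  letI : Algebra (FractionRing (R ⧸ q)) L := FractionRing.liftAlgebra (R ⧸ q) L
  haveI : Module.Finite (FractionRing (R ⧸ q)) L :=
    Module.Finite.of_isLocalization (R ⧸ q) B (nonZeroDivisors (R ⧸ q))
  let B' := integralClosure (R ⧸ q) L
  haveI : Module.Finite (R ⧸ q) B' := (hR.2 q) L inferInstance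
  haveI : Module.Finite R B' := Module.Finite.trans (R ⧸ q) B'
  haveI : IsNoetherianRing B' := IsNoetherianRing.of_finite (R ⧸ q) B'
  haveI : IsIntegrallyClosed B' :=
    integralClosure.isIntegrallyClosedOfFiniteExtension (FractionRing (R ⧸ q))
  let i : B →ₐ[R] B' :=
    (((IsScalarTower.toAlgHom (R ⧸ q) B L).codRestrict B' fun b =>
      (Algebra.IsIntegral.isIntegral (R := R ⧸ q) b).map
        (IsScalarTower.toAlgHom (R ⧸ q) B L))).restrictScalars R
  have hi : Function.Injective i := fun a b h => IsFractionRing.injective B L (congrArg Subtype.val h)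
  suffices hB' : IsReduced (B' ⊗[R] C) by
    refine isReduced_of_injective (Algebra.TensorProduct.map i (AlgHom.id R C)) ?_
    exact Module.Flat.rTensor_preserves_injective_linearMap i.toLinearMap hi
  have hkerB' : RingHom.ker (algebraMap R B') = q := by
    ext a
    rw [RingHom.mem_ker, IsScalarTower.algebraMap_apply R (R ⧸ q) B',
      map_eq_zero_iff _ (fun a b h => FaithfulSMul.algebraMap_injective (R ⧸ q) L
        (congrArg Subtype.val h))]
    exact Ideal.Quotient.eq_zero_iff_mem
  obtain ⟨x, hxm, hxq⟩ := SetLike.not_le_iff_exists.1 hqm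
  set ξ := algebraMap R B' x
  have hξ : ξ ≠ 0 := fun h => hxq (hkerB' ▸ RingHom.mem_ker.2 h)
  let T := B' ⊗[R] C
  refine isReduced_of_fibres (B := B') T hξ ?_ ?_
  · -- separatedness: `T` is finite over `C`
    intro z hz
    let u : C →ₐ[R] T := Algebra.TensorProduct.includeRight
    letI : Algebra C T := u.toRingHom.toAlgebra
    haveI : Module.Finite C (C ⊗[R] B') := inferInstance
    haveI : Module.Finite C T := by
      haveI : IsScalarTower R C T := IsScalarTower.of_algebraMap_eq fun r => (u.commutes r).symm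
      let ψ : C ⊗[R] B' →ₐ[C] T := Algebra.TensorProduct.lift (Algebra.ofId C T)
        (Algebra.TensorProduct.includeLeft : B' →ₐ[R] T) fun _ _ => Commute.all _ _
      refine Module.Finite.of_surjective ψ.toLinearMap fun z => ?_
      induction z using TensorProduct.induction_on with
      | zero => exact ⟨0, map_zero _⟩
      | add x y hx hy =>
        obtain ⟨a, rfl⟩ := hx
        obtain ⟨b, rfl⟩ := hy
        exact ⟨a + b, map_add _ _ _⟩
      | tmul b c =>
        refine ⟨c ⊗ₜ[R] b, ?_⟩
        change u c * (b ⊗ₜ[R] (1 : C)) = _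
        change ((1 : B') ⊗ₜ[R] c) * (b ⊗ₜ[R] (1 : C)) = _
        rw [Algebra.TensorProduct.tmul_mul_tmul, one_mul, mul_one]
    let xC := algebraMap R C x
    have hxC : Ideal.span {xC} ≤ (⊥ : Ideal C).jacobson := by
      rw [jacobson_eq_maximalIdeal ⊥ bot_ne_top, Ideal.span_singleton_le_iff_mem,
        AdicCompletion.maximalIdeal_eq_map]
      exact Ideal.mem_map_of_mem _ hxm
    refine (IsHausdorff.of_le_jacobson (Ideal.span {xC}) T hxC).haus' z fun n => ?_
    obtain ⟨w, rfl⟩ := hz n
    rw [SModEq.sub_mem, sub_zero]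
    have : algebraMap B' T ξ ^ n * w = (xC ^ n) • w := by
      rw [Algebra.smul_def, map_pow]
      congr 2
      change ξ ⊗ₜ[R] (1 : C) = (1 : B') ⊗ₜ[R] xC
      rw [show ξ = x • (1 : B') from Algebra.algebraMap_eq_smul_one x, TensorProduct.smul_tmul,
        ← Algebra.algebraMap_eq_smul_one]
    rw [this, Ideal.span_singleton_pow]
    exact Submodule.smul_mem_smul (Ideal.mem_span_singleton_self _) Submodule.mem_top
  · intro P hP hξP
    haveI := hP
    haveI : IsDomain (B' ⧸ P) := Ideal.Quotient.isDomain P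
    have hlt : q < RingHom.ker (algebraMap R (B' ⧸ P)) := by
      refine lt_of_le_of_ne (fun a ha => ?_) fun e => hxq (e.symm ▸ ?_)
      · rw [RingHom.mem_ker, IsScalarTower.algebraMap_apply R B' (B' ⧸ P),
          show algebraMap R B' a = 0 from RingHom.mem_ker.1 (hkerB'.symm ▸ ha), map_zero]
      · rw [RingHom.mem_ker, IsScalarTower.algebraMap_apply R B' (B' ⧸ P)]
        exact Ideal.Quotient.eq_zero_iff_mem.2 hξP
    haveI := ih _ hlt (B' ⧸ P) rfl
    let e1 := Algebra.TensorProduct.quotIdealMapEquivTensorQuot T P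
    let e2 := (Algebra.TensorProduct.comm B' T (B' ⧸ P)).toRingEquiv.trans
      (Algebra.TensorProduct.cancelBaseChange R B' (B' ⧸ P) (B' ⧸ P) C).toRingEquiv
    exact isReduced_of_injective (e1.toRingEquiv.trans e2) (RingEquiv.injective _)

end Groth.Agent.Lib.Cohen.NagataUnramified
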