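import Groth.Agent.H24.PowerSeries
import Groth.Agent.Lib.LocalFlat.Criterion
import Groth.Agent.Lib.FSAdic.PowerSeries
import Mathlib.RingTheory.TensorProduct.MvPolynomial
import Mathlib.RingTheory.MvPowerSeries.Equiv
import Mathlib.RingTheory.AdicCompletion.AsTensorProduct
import Mathlib.RingTheory.Flat.Stability

/-!
Base change of formal power series rings along a flat algebra.
-/

set_option autoImplicit false
set_option linter.style.haveILetI false

universe u

open scoped TensorProduct

attribute [local instance] MvPolynomial.algebraMvPolynomial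

namespace Groth.Agent.Lib.Cohen.PowerSeriesBaseChange

variable (k B : Type u) [CommRing k] [IsNoetherianRing k] [CommRing B] [IsNoetherianRing B]
  [Algebra k B] [Module.Flat k B] (σ : Type) [Finite σ]

theorem flat_polynomial : Module.Flat (MvPolynomial σ k) (MvPowerSeries σ B) := by
  haveI : Module.Flat (MvPolynomial σ k) (MvPolynomial σ B) :=
    Module.Flat.isBaseChange k (MvPolynomial σ k) B (MvPolynomial σ B)
      (Algebra.IsPushout.out (R := k) (S := MvPolynomial σ k) (R' := B) (S' := MvPolynomial σ B))
  haveI : Module.Flat (MvPolynomial σ B) (MvPowerSeries σ B) :=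
    Module.Flat.of_linearEquiv (MvPowerSeries.toAdicCompletionAlgEquiv σ B).toLinearEquiv
  haveI : IsScalarTower (MvPolynomial σ k) (MvPolynomial σ B) (MvPowerSeries σ B) :=
    .of_algebraMap_eq fun p => by
      ext n
      simp [MvPowerSeries.algebraMap_apply', MvPolynomial.coeff_map]
  exact Module.Flat.trans (MvPolynomial σ k) (MvPolynomial σ B) (MvPowerSeries σ B)

omit [IsNoetherianRing k] [IsNoetherianRing B] [Module.Flat k B] in
theorem compatibleSMul (n : ℕ) (N : Type u) [AddCommGroup N] [Module (MvPolynomial σ k) N]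
    [Module (MvPowerSeries σ k) N] [IsScalarTower (MvPolynomial σ k) (MvPowerSeries σ k) N]
    (hN : ∀ e ∈ (Ideal.span (Set.range MvPowerSeries.X) : Ideal (MvPowerSeries σ k)) ^ n,
      ∀ z : N, e • z = 0) :
    TensorProduct.CompatibleSMul (MvPolynomial σ k) (MvPowerSeries σ k) (MvPowerSeries σ B) N := by
  classical
  let P := MvPolynomial σ k
  let R := MvPowerSeries σ k
  let C := MvPowerSeries σ B
  haveI : IsScalarTower P R C := .of_algebraMap_eq fun p => by
    ext n
    simp [P, R, C, MvPowerSeries.algebraMap_apply', MvPowerSeries.algebraMap_apply'']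
  let I : Ideal R := Ideal.span (Set.range MvPowerSeries.X)
  have hImap : I ^ n = ((Ideal.span (Set.range MvPolynomial.X) : Ideal P) ^ n).map (algebraMap P R) := by
    rw [Ideal.map_pow, Ideal.map_span, ← Set.range_comp]
    have : (algebraMap P R ∘ MvPolynomial.X) = MvPowerSeries.X := by
      funext i
      simp [P, R, MvPowerSeries.algebraMap_apply']
    rw [this]
  refine ⟨fun r m z => ?_⟩
  obtain ⟨q, e, he, rfl⟩ : ∃ q : P, ∃ e ∈ I ^ n, r = algebraMap P R q + e :=
    ⟨MvPowerSeries.truncTotal n r, _,
      Groth.Agent.Lib.FSAdic.PowerSeries.sub_truncTotal_mem r n, by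
        simp [P, R, MvPowerSeries.algebraMap_apply']⟩
  have h0 : ∀ m : C, (e • m) ⊗ₜ[P] z = 0 := by
    have he' := he
    rw [hImap] at he'
    clear he
    induction he' using Submodule.span_induction with
    | mem x hx =>
      obtain ⟨μ, hμ, rfl⟩ := hx
      intro m
      have hz : μ • z = 0 := by
        rw [← algebraMap_smul R μ z]
        exact hN _ (hImap ▸ Ideal.mem_map_of_mem _ hμ) z
      rw [algebraMap_smul, TensorProduct.smul_tmul, hz, TensorProduct.tmul_zero]
    | zero => intro m; rw [zero_smul, TensorProduct.zero_tmul]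
    | add x y _ _ hx hy => intro m; rw [add_smul, TensorProduct.add_tmul, hx, hy, add_zero]
    | smul a x _ hx =>
      intro m
      rw [smul_eq_mul, mul_comm, mul_smul]
      exact hx _
  rw [add_smul, add_smul, TensorProduct.add_tmul, h0, add_zero, hN e he z, add_zero,
    algebraMap_smul, algebraMap_smul, TensorProduct.smul_tmul]

theorem flat : Module.Flat (MvPowerSeries σ k) (MvPowerSeries σ B) := by
  classical
  let P := MvPolynomial σ k
  let R := MvPowerSeries σ k
  let C := MvPowerSeries σ B
  let I : Ideal R := Ideal.span (Set.range MvPowerSeries.X)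
  haveI : IsScalarTower P R C := .of_algebraMap_eq fun p => by
    ext n
    simp [P, R, C, MvPowerSeries.algebraMap_apply', MvPowerSeries.algebraMap_apply'',
      MvPolynomial.coeff_map]
  haveI : Module.Flat P C := flat_polynomial k B σ
  refine Groth.Agent.Lib.LocalFlat.Criterion.flat_of_forall_pow C I ?_ fun n p => ?_
  · have h : I.map (algebraMap R C) ≤ Ideal.span (Set.range MvPowerSeries.X) := by
      rw [Ideal.map_span, Ideal.span_le]
      rintro _ ⟨_, ⟨i, rfl⟩, rfl⟩
      rw [MvPowerSeries.algebraMap_apply'']
      simp only [MvPowerSeries.map_X, id, SetLike.mem_coe]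
      refine Ideal.subset_span ⟨i, ?_⟩
      ext n
      simp
    exact h.trans (IsAdicComplete.le_jacobson_bot _)
  have hq : ∀ e ∈ I ^ n, ∀ z : R ⧸ I ^ n, e • z = 0 := by
    intro e he z
    obtain ⟨w, rfl⟩ := Ideal.Quotient.mk_surjective z
    change Ideal.Quotient.mk (I ^ n) (e * w) = 0
    rw [Ideal.Quotient.eq_zero_iff_mem]
    exact Ideal.mul_mem_right _ _ he
  haveI : TensorProduct.CompatibleSMul P R C p :=
    compatibleSMul k B σ n p fun e he z => Subtype.ext (hq e he z)
  haveI : TensorProduct.CompatibleSMul P R C (R ⧸ I ^ n) := compatibleSMul k B σ n _ hq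
  have hinj : Function.Injective ((p.subtype.restrictScalars P).lTensor C) :=
    Module.Flat.lTensor_preserves_injective_linearMap _ p.injective_subtype
  let e1 := TensorProduct.mapOfCompatibleSMul P R P C p
  let e2 := TensorProduct.mapOfCompatibleSMul R P P C p
  intro x y hxy
  obtain ⟨x, rfl⟩ := TensorProduct.mapOfCompatibleSMul_surjective R P P C p x
  obtain ⟨y, rfl⟩ := TensorProduct.mapOfCompatibleSMul_surjective R P P C p y
  congr 1
  apply hinj
  apply (TensorProduct.equivOfCompatibleSMul R P P C (R ⧸ I ^ n)).injective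
  have key : ∀ t : C ⊗[P] p, TensorProduct.equivOfCompatibleSMul R P P C (R ⧸ I ^ n)
      ((p.subtype.restrictScalars P).lTensor C t) =
        p.subtype.lTensor C (TensorProduct.mapOfCompatibleSMul R P P C p t) := by
    intro t
    induction t using TensorProduct.induction_on with
    | zero => simp
    | tmul a b => rfl
    | add a b ha hb => simp only [map_add, ha, hb]
  rw [key, key]
  exact hxy

end Groth.Agent.Lib.Cohen.PowerSeriesBaseChange
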