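import Groth.Agent.Lib.Cohen.NagataUnramified

/-!
# Flat local algebras over Nagata local rings with geometrically reduced closed fibre
-/

set_option linter.style.haveILetI false

universe u

open scoped TensorProduct
open IsLocalRing

namespace Groth.Agent.Lib.Cohen.NagataFlatReduced

/-- Finite domains over a Nagata local ring stay reduced after a flat base change with geometrically
reduced closed fibre. -/
theorem isReduced_tensor (R : Type u) [CommRing R] [IsLocalRing R] [IsNoetherianRing R]
    (hR : CAlg.IsNagata R) (C : Type u) [CommRing C] [IsNoetherianRing C] [Algebra R C]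
    [Module.Flat R C] (hjac : (maximalIdeal R).map (algebraMap R C) ≤ (⊥ : Ideal C).jacobson)
    (h0 : ∀ (L : Type u) [Field L] [Algebra R L] [Module.Finite R L], IsReduced (L ⊗[R] C))
    (B : Type u) [CommRing B] [IsDomain B] [Algebra R B] [Module.Finite R B] :
    IsReduced (B ⊗[R] C) := by
  classical
  suffices key : ∀ (q : Ideal R) (B : Type u) [CommRing B] [IsDomain B] [Algebra R B]
      [Module.Finite R B], RingHom.ker (algebraMap R B) = q → IsReduced (B ⊗[R] C) from
    key _ B rfl
  intro q
  induction q using WellFoundedGT.induction with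
  | ind q ih =>
  intro B _ _ _ _ hker
  haveI hqp : q.IsPrime := hker ▸ RingHom.ker_isPrime _
  by_cases hqm : maximalIdeal R ≤ q
  · -- the residue field case
    have hBf : IsField B := by
      haveI : q.IsMaximal := by
        have e : maximalIdeal R = q := le_antisymm hqm (IsLocalRing.le_maximalIdeal hqp.ne_top)
        exact e ▸ maximalIdeal.isMaximal R
      letI : Field (R ⧸ q) := Ideal.Quotient.field q
      letI : Algebra (R ⧸ q) B := (Ideal.Quotient.lift q (algebraMap R B)
        fun a ha => RingHom.mem_ker.1 (hker ▸ ha)).toAlgebra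
      haveI : IsScalarTower R (R ⧸ q) B := IsScalarTower.of_algebraMap_eq fun _ => rfl
      haveI : Algebra.IsIntegral (R ⧸ q) B := Algebra.IsIntegral.tower_top R
      exact isField_of_isIntegral_of_isField' (R := R ⧸ q) (Field.toIsField _)
    letI := hBf.toField
    exact h0 B
  -- pass to the normalization
  haveI : IsDomain (R ⧸ q) := Ideal.Quotient.isDomain q
  letI : Algebra (R ⧸ q) B := (Ideal.Quotient.lift q (algebraMap R B)
    fun a ha => RingHom.mem_ker.1 (hker ▸ ha)).toAlgebra
  haveI : IsScalarTower R (R ⧸ q) B := IsScalarTower.of_algebraMap_eq fun _ => rfl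
  haveI : Module.Finite (R ⧸ q) B := Module.Finite.of_restrictScalars_finite R _ _
  haveI : FaithfulSMul (R ⧸ q) B := (faithfulSMul_iff_algebraMap_injective _ _).2 <| by
    rw [injective_iff_map_eq_zero]
    intro a ha
    obtain ⟨a, rfl⟩ := Ideal.Quotient.mk_surjective a
    rw [Ideal.Quotient.eq_zero_iff_mem, ← hker, RingHom.mem_ker]
    exact ha
  let L := FractionRing B
  haveI : FaithfulSMul (R ⧸ q) L := (faithfulSMul_iff_algebraMap_injective _ _).2 <| by
    rw [IsScalarTower.algebraMap_eq (R ⧸ q) B L]
    exact (IsFractionRing.injective B L).comp (FaithfulSMul.algebraMap_injective _ _)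
  letI : Algebra (FractionRing (R ⧸ q)) L := FractionRing.liftAlgebra (R ⧸ q) L
  haveI : Module.Finite (FractionRing (R ⧸ q)) L :=
    Module.Finite.of_isLocalization (R ⧸ q) B (nonZeroDivisors (R ⧸ q))
  let B' := integralClosure (R ⧸ q) L
  haveI : Module.Finite (R ⧸ q) B' := (hR.2 q) L inferInstance
  haveI : Module.Finite R B' := Module.Finite.trans (R ⧸ q) B'
  haveI : IsNoetherianRing B' := IsNoetherianRing.of_finite (R ⧸ q) B'
  haveI : IsIntegrallyClosed B' :=
    integralClosure.isIntegrallyClosedOfFiniteExtension (FractionRing (R ⧸ q))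
  let i : B →ₐ[R] B' :=
    (((IsScalarTower.toAlgHom (R ⧸ q) B L).codRestrict B' fun b =>
      (Algebra.IsIntegral.isIntegral (R := R ⧸ q) b).map
        (IsScalarTower.toAlgHom (R ⧸ q) B L))).restrictScalars R
  have hi : Function.Injective i := fun a b h => IsFractionRing.injective B L (congrArg Subtype.val h)
  suffices hB' : IsReduced (B' ⊗[R] C) by
    refine isReduced_of_injective (Algebra.TensorProduct.map i (AlgHom.id R C)) ?_
    exact Module.Flat.rTensor_preserves_injective_linearMap i.toLinearMap hi
  have hkerB' : RingHom.ker (algebraMap R B') = q := by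
    ext a
    rw [RingHom.mem_ker, IsScalarTower.algebraMap_apply R (R ⧸ q) B',
      map_eq_zero_iff _ (fun a b h => FaithfulSMul.algebraMap_injective (R ⧸ q) L
        (congrArg Subtype.val h))]
    exact Ideal.Quotient.eq_zero_iff_mem
  obtain ⟨x, hxm, hxq⟩ := SetLike.not_le_iff_exists.1 hqm
  set ξ := algebraMap R B' x
  have hξ : ξ ≠ 0 := fun h => hxq (hkerB' ▸ RingHom.mem_ker.2 h)
  let T := B' ⊗[R] C
  refine NagataUnramified.isReduced_of_fibres (B := B') T hξ ?_ ?_
  · -- separatedness: `T` is finite over `C`
    intro z hz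
    let u : C →ₐ[R] T := Algebra.TensorProduct.includeRight
    letI : Algebra C T := u.toRingHom.toAlgebra
    haveI : Module.Finite C (C ⊗[R] B') := inferInstance
    haveI : Module.Finite C T := by
      haveI : IsScalarTower R C T := IsScalarTower.of_algebraMap_eq fun r => (u.commutes r).symm
      let ψ : C ⊗[R] B' →ₐ[C] T := Algebra.TensorProduct.lift (Algebra.ofId C T)
        (Algebra.TensorProduct.includeLeft : B' →ₐ[R] T) fun _ _ => Commute.all _ _
      refine Module.Finite.of_surjective ψ.toLinearMap fun z => ?_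
      induction z using TensorProduct.induction_on with
      | zero => exact ⟨0, map_zero _⟩
      | add x y hx hy =>
        obtain ⟨a, rfl⟩ := hx
        obtain ⟨b, rfl⟩ := hy
        exact ⟨a + b, map_add _ _ _⟩
      | tmul b c =>
        refine ⟨c ⊗ₜ[R] b, ?_⟩
        change u c * (b ⊗ₜ[R] (1 : C)) = _
        change ((1 : B') ⊗ₜ[R] c) * (b ⊗ₜ[R] (1 : C)) = _
        rw [Algebra.TensorProduct.tmul_mul_tmul, one_mul, mul_one]
    let xC := algebraMap R C x
    have hxC : Ideal.span {xC} ≤ (⊥ : Ideal C).jacobson := by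
      rw [Ideal.span_singleton_le_iff_mem]
      exact hjac (Ideal.mem_map_of_mem _ hxm)
    refine (IsHausdorff.of_le_jacobson (Ideal.span {xC}) T hxC).haus' z fun n => ?_
    obtain ⟨w, rfl⟩ := hz n
    rw [SModEq.sub_mem, sub_zero]
    have : algebraMap B' T ξ ^ n * w = (xC ^ n) • w := by
      rw [Algebra.smul_def, map_pow]
      congr 2
      change ξ ⊗ₜ[R] (1 : C) = (1 : B') ⊗ₜ[R] xC
      rw [show ξ = x • (1 : B') from Algebra.algebraMap_eq_smul_one x, TensorProduct.smul_tmul,
        ← Algebra.algebraMap_eq_smul_one]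
    rw [this, Ideal.span_singleton_pow]
    exact Submodule.smul_mem_smul (Ideal.mem_span_singleton_self _) Submodule.mem_top
  · intro P hP hξP
    haveI := hP
    haveI : IsDomain (B' ⧸ P) := Ideal.Quotient.isDomain P
    have hlt : q < RingHom.ker (algebraMap R (B' ⧸ P)) := by
      refine lt_of_le_of_ne (fun a ha => ?_) fun e => hxq (e.symm ▸ ?_)
      · rw [RingHom.mem_ker, IsScalarTower.algebraMap_apply R B' (B' ⧸ P),
          show algebraMap R B' a = 0 from RingHom.mem_ker.1 (hkerB'.symm ▸ ha), map_zero]
      · rw [RingHom.mem_ker, IsScalarTower.algebraMap_apply R B' (B' ⧸ P)]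
        exact Ideal.Quotient.eq_zero_iff_mem.2 hξP
    haveI := ih _ hlt (B' ⧸ P) rfl
    let e1 := Algebra.TensorProduct.quotIdealMapEquivTensorQuot T P
    let e2 := (Algebra.TensorProduct.comm B' T (B' ⧸ P)).toRingEquiv.trans
      (Algebra.TensorProduct.cancelBaseChange R B' (B' ⧸ P) (B' ⧸ P) C).toRingEquiv
    exact isReduced_of_injective (e1.toRingEquiv.trans e2) (RingEquiv.injective _)

end Groth.Agent.Lib.Cohen.NagataFlatReduced
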