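import Groth.Prelude.Def_EGA4c
import Groth.Agent.Lib.Cohen.PowerSeriesBaseChange
import Groth.Agent.Lib.Cohen.NagataFlatReduced
import Groth.Agent.Lib.Cohen.Unramified
import Groth.Agent.Lib.ArtinFun.PowerSeries
import Groth.Agent.Lib.Adic.Complete
import Groth.Agent.H24.PowerSeries
import Groth.Agent.H52.FBase.GeomRed
import Groth.Agent.Lib.Excellent.CompletionTopology

/-!
Completed tensor products of reduced complete local algebras over perfect fields are reduced.
-/

set_option autoImplicit false
set_option linter.style.haveILetI false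

universe u

open scoped TensorProduct
open IsLocalRing

namespace Groth.Agent.Lib.Cohen.CTensorReduced

/-- A complete local algebra with finite residue field is finite over a power series ring. -/
theorem exists_finite (k A : Type u) [Field k] [CommRing A] [Algebra k A] [IsNoetherianRing A]
    [IsLocalRing A] [IsAdicComplete (maximalIdeal A) A] [Module.Finite k (ResidueField A)] :
    ∃ (d : ℕ) (g : MvPowerSeries (Fin d) k →ₐ[k] A),
      Ideal.span (Set.range fun i => g (MvPowerSeries.X i)) = maximalIdeal A ∧ g.toRingHom.Finite := by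
  obtain ⟨d, x, hx⟩ : ∃ (d : ℕ) (x : Fin d → A), Ideal.span (Set.range x) = maximalIdeal A :=
    Submodule.fg_iff_exists_fin_generating_family.1 (IsNoetherian.noetherian (maximalIdeal A))
  obtain ⟨g, hg⟩ := Groth.Agent.H24.PowerSeries.exists_hom (A := k) (maximalIdeal A) x
    (fun i => hx ▸ Ideal.subset_span ⟨i, rfl⟩)
  refine ⟨d, g, by rw [show (fun i => g (MvPowerSeries.X i)) = x from funext hg, hx], ?_⟩
  letI : Algebra (MvPowerSeries (Fin d) k) A := g.toRingHom.toAlgebra
  haveI : IsScalarTower k (MvPowerSeries (Fin d) k) A :=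
    IsScalarTower.of_algebraMap_eq fun l => (g.commutes l).symm
  let J : Ideal (MvPowerSeries (Fin d) k) := Ideal.span (Set.range MvPowerSeries.X)
  have hJ : J.map g.toRingHom = maximalIdeal A := by
    rw [Ideal.map_span, ← Set.range_comp, ← hx]
    congr 2
    exact funext hg
  haveI : IsHausdorff J A := IsHausdorff.of_map (J := maximalIdeal A) (by
    rw [RingHom.algebraMap_toAlgebra, hJ])
  refine Groth.Agent.Lib.Adic.Complete.finite_of_finite_quotient (I := J) ?_
  have e : (J • ⊤ : Submodule (MvPowerSeries (Fin d) k) A) =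
      Submodule.restrictScalars (MvPowerSeries (Fin d) k) (maximalIdeal A) := by
    rw [Ideal.smul_top_eq_map, RingHom.algebraMap_toAlgebra, hJ]
  haveI : Module.Finite k (A ⧸ maximalIdeal A) := ‹Module.Finite k (ResidueField A)›
  haveI : Module.Finite (MvPowerSeries (Fin d) k) (A ⧸ maximalIdeal A) :=
    Module.Finite.of_restrictScalars_finite k _ _
  exact Module.Finite.equiv ((Submodule.quotEquivOfEq _ _ e).trans
    (Submodule.Quotient.restrictScalarsEquiv _ (maximalIdeal A))).symm

theorem isAdicComplete_ps (B : Type u) [CommRing B] [IsLocalRing B] [IsNoetherianRing B]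
    [IsAdicComplete (maximalIdeal B) B] (d : ℕ) :
    IsAdicComplete (maximalIdeal (MvPowerSeries (Fin d) B)) (MvPowerSeries (Fin d) B) :=
  Groth.Agent.Lib.ArtinFun.isAdicComplete_ps
    ({ carrier := B
       res := IsScalarTower.toAlgHom B B (ResidueField B)
       res_surjective := IsLocalRing.residue_surjective
       isAdicComplete := inferInstance } : ArtFun.CRing B (ResidueField B)) d

theorem maximalIdeal_ps (B : Type u) [CommRing B] [IsLocalRing B] (d : ℕ) :
    maximalIdeal (MvPowerSeries (Fin d) B) =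
      Ideal.span (Set.range MvPowerSeries.X) ⊔ (maximalIdeal B).map MvPowerSeries.C := by
  refine le_antisymm (fun f hf => ?_) (sup_le (Ideal.span_le.2 ?_) (Ideal.map_le_iff_le_comap.2 ?_))
  · rw [← sub_add_cancel f (MvPowerSeries.C (MvPowerSeries.constantCoeff f))]
    refine add_mem (Ideal.mem_sup_left ?_) (Ideal.mem_sup_right (Ideal.mem_map_of_mem _ ?_))
    · apply Groth.Agent.H23.PSAut.mem_span_X_of_constantCoeff
      simp
    · rw [mem_maximalIdeal, mem_nonunits_iff]
      exact fun hu => (mem_maximalIdeal f).1 hf (MvPowerSeries.isUnit_iff_constantCoeff.2 hu)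
  · rintro _ ⟨i, rfl⟩
    rw [SetLike.mem_coe, mem_maximalIdeal, mem_nonunits_iff, MvPowerSeries.isUnit_iff_constantCoeff]
    simp
  · intro b hb
    rw [Ideal.mem_comap, mem_maximalIdeal, mem_nonunits_iff, MvPowerSeries.isUnit_iff_constantCoeff,
      MvPowerSeries.constantCoeff_C]
    exact (mem_maximalIdeal b).1 hb

variable (k A B : Type u) [Field k] [CommRing A] [CommRing B] [Algebra k A] [Algebra k B]
  [IsNoetherianRing A] [IsNoetherianRing B] [IsLocalRing A] [IsLocalRing B]
  [IsAdicComplete (maximalIdeal A) A] [IsAdicComplete (maximalIdeal B) B]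
  [Module.Finite k (ResidueField A)]

omit [IsNoetherianRing A] [IsLocalRing A] [IsAdicComplete (maximalIdeal A) A] [IsNoetherianRing B]
  [IsLocalRing B] [IsAdicComplete (maximalIdeal B) B] [Module.Finite k (ResidueField A)] in
/-- Reducedness of the base change to power series. -/
theorem isReduced_tensor_ps [PerfectField k] [IsReduced A] [IsReduced B] [IsNoetherianRing B] (d : ℕ)
    [Algebra (MvPowerSeries (Fin d) k) A] [Module.Finite (MvPowerSeries (Fin d) k) A] :
    IsReduced (A ⊗[MvPowerSeries (Fin d) k] MvPowerSeries (Fin d) B) := by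
  classical
  let R := MvPowerSeries (Fin d) k
  let C := MvPowerSeries (Fin d) B
  haveI := Groth.Agent.H24.PowerSeries.isAdicComplete k (Fin d)
  haveI : IsNoetherianRing A := IsNoetherianRing.of_finite R A
  haveI : Module.Flat R C := PowerSeriesBaseChange.flat k B (Fin d)
  haveI : IsScalarTower k R C := IsScalarTower.of_algebraMap_eq fun l => by
    simp [R, C, MvPowerSeries.algebraMap_apply'', MvPowerSeries.algebraMap_apply]
  have hR : CAlg.IsNagata R := Groth.Agent.Lib.Cohen.Unramified.isNagata_of_surjective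
    (Groth.Agent.Lib.Cohen.Unramified.isNagata_completion R)
    (AdicCompletion.ofAlgEquiv (maximalIdeal R)).symm.toRingEquiv.toRingHom
    (AdicCompletion.ofAlgEquiv (maximalIdeal R)).symm.surjective
  have hX : ∀ i, algebraMap R C (MvPowerSeries.X i) = MvPowerSeries.X i := fun i => by
    simp [R, C, MvPowerSeries.algebraMap_apply'']
  have hjac : (maximalIdeal R).map (algebraMap R C) ≤ (⊥ : Ideal C).jacobson := by
    refine le_trans ?_ (IsAdicComplete.le_jacobson_bot
      (Ideal.span (Set.range MvPowerSeries.X) : Ideal C))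
    rw [Groth.Agent.H24.PowerSeries.maximalIdeal_eq k (Fin d), Ideal.map_span, Ideal.span_le]
    rintro _ ⟨_, ⟨i, rfl⟩, rfl⟩
    rw [hX]
    exact Ideal.subset_span ⟨i, rfl⟩
  have h0 : ∀ (L : Type u) [Field L] [Algebra R L] [Module.Finite R L], IsReduced (L ⊗[R] C) := by
    intro L _ _ _
    letI : Algebra k L := ((algebraMap R L).comp (algebraMap k R)).toAlgebra
    haveI : IsScalarTower k R L := IsScalarTower.of_algebraMap_eq fun _ => rfl
    have hkX : ∀ i, algebraMap R L (MvPowerSeries.X i) = 0 := by
      intro i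
      haveI := RingHom.ker_isPrime (algebraMap R L)
      haveI : Algebra.IsIntegral R L := Algebra.IsIntegral.of_finite R L
      have hker : RingHom.ker (algebraMap R L) = maximalIdeal R := by
        refine IsLocalRing.eq_maximalIdeal ?_
        rw [RingHom.ker_eq_comap_bot]
        exact Ideal.isMaximal_comap_of_isIntegral_of_isMaximal (I := (⊥ : Ideal L))
      exact RingHom.mem_ker.1 (hker ▸ Groth.Agent.H24.PowerSeries.X_mem k i)
    haveI : Algebra.IsGeometricallyReduced k B :=
      Groth.Agent.H52.FBase.GeomRed.isGeometricallyReduced_of_perfectField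
    haveI : IsReduced (B ⊗[k] L) := Groth.Agent.H52.FBase.GeomRed.isReduced_tensor_field L
    haveI : IsReduced (L ⊗[k] B) :=
      isReduced_of_injective (Algebra.TensorProduct.comm k L B) (AlgEquiv.injective _)
    -- the constant term
    let c0 : C →+* L ⊗[k] B :=
      (Algebra.TensorProduct.includeRight : B →ₐ[k] L ⊗[k] B).toRingHom.comp MvPowerSeries.constantCoeff
    have hr : ∀ r : R, algebraMap R L r = algebraMap k L (MvPowerSeries.constantCoeff r) := by
      intro r
      have hm : r - algebraMap k R (MvPowerSeries.constantCoeff r) ∈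
          Ideal.span (Set.range MvPowerSeries.X) := by
        apply Groth.Agent.H23.PSAut.mem_span_X_of_constantCoeff
        simp [R, MvPowerSeries.algebraMap_apply]
      have : r - algebraMap k R (MvPowerSeries.constantCoeff r) ∈ RingHom.ker (algebraMap R L) :=
        (Ideal.span_le.2 (by rintro _ ⟨i, rfl⟩; exact RingHom.mem_ker.2 (hkX i))) hm
      rw [RingHom.mem_ker, map_sub, sub_eq_zero] at this
      exact this
    let c1 : C →ₐ[R] L ⊗[k] B :=
      { c0 with
        commutes' := fun r => by
          change (1 : L) ⊗ₜ[k] MvPowerSeries.constantCoeff (algebraMap R C r) = _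
          rw [show MvPowerSeries.constantCoeff (algebraMap R C r) =
              algebraMap k B (MvPowerSeries.constantCoeff r) by
                simp [R, C, MvPowerSeries.algebraMap_apply''],
            Algebra.TensorProduct.algebraMap_apply, hr,
            Algebra.algebraMap_eq_smul_one, Algebra.algebraMap_eq_smul_one, TensorProduct.smul_tmul] }
    let φ : L ⊗[R] C →ₐ[L] L ⊗[k] B :=
      Algebra.TensorProduct.lift (Algebra.ofId L _) c1 fun _ _ => Commute.all _ _
    let ψ : L ⊗[k] B →ₗ[k] L ⊗[R] C :=
      TensorProduct.lift (LinearMap.mk₂ k (fun l b => l ⊗ₜ[R] MvPowerSeries.C b)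
        (fun _ _ _ => TensorProduct.add_tmul _ _ _) (fun _ _ _ => (TensorProduct.smul_tmul' _ _ _).symm)
        (fun _ _ _ => by rw [map_add, TensorProduct.tmul_add])
        (fun c l b => by
          rw [← TensorProduct.tmul_smul]
          congr 1
          simp [Algebra.smul_def, C, MvPowerSeries.algebraMap_apply]))
    have hψ : ∀ z, ψ (φ z) = z := by
      intro z
      induction z using TensorProduct.induction_on with
      | zero => rw [map_zero, map_zero]
      | add x y hx hy => rw [map_add, map_add, hx, hy]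
      | tmul l c =>
        have h1 : φ (l ⊗ₜ[R] c) = l ⊗ₜ[k] MvPowerSeries.constantCoeff c := by
          change (l ⊗ₜ[k] (1 : B)) * ((1 : L) ⊗ₜ[k] MvPowerSeries.constantCoeff c) = _
          rw [Algebra.TensorProduct.tmul_mul_tmul, one_mul, mul_one]
        rw [h1]
        change l ⊗ₜ[R] MvPowerSeries.C (MvPowerSeries.constantCoeff c) = _
        have hm : c - MvPowerSeries.C (MvPowerSeries.constantCoeff c) ∈
            Ideal.span (Set.range MvPowerSeries.X) := by
          apply Groth.Agent.H23.PSAut.mem_span_X_of_constantCoeff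
          simp
        have h2 : ∀ e ∈ (Ideal.span (Set.range MvPowerSeries.X) : Ideal C), l ⊗ₜ[R] e = 0 := by
          intro e he
          obtain ⟨a, rfl⟩ := (Submodule.mem_span_range_iff_exists_fun C).1 he
          rw [TensorProduct.tmul_sum]
          refine Finset.sum_eq_zero fun i _ => ?_
          rw [smul_eq_mul, mul_comm, ← hX, ← Algebra.smul_def, ← TensorProduct.smul_tmul,
            Algebra.smul_def, hkX, zero_mul, TensorProduct.zero_tmul]
        have h3 := h2 _ hm
        rw [TensorProduct.tmul_sub, sub_eq_zero] at h3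
        exact h3.symm
    exact isReduced_of_injective φ (Function.LeftInverse.injective hψ)
  let ι := {P : Ideal A // P ∈ minimalPrimes A}
  haveI : Finite ι := (minimalPrimes.finite_of_isNoetherianRing A).to_subtype
  haveI : Fintype ι := Fintype.ofFinite ι
  haveI hprime : ∀ i : ι, i.1.IsPrime := fun i => i.2.1.1
  let G : A →ₐ[R] (∀ i : ι, A ⧸ i.1) := AlgHom.pi fun i => Ideal.Quotient.mkₐ R i.1
  have hG : Function.Injective G := by
    rw [injective_iff_map_eq_zero]
    intro x hx
    have : x ∈ nilradical A := by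
      rw [nilradical, ← Ideal.sInf_minimalPrimes, Submodule.mem_sInf]
      intro P hP
      exact Ideal.Quotient.eq_zero_iff_mem.1 (congrFun hx ⟨P, hP⟩)
    rw [nilradical_eq_zero] at this
    exact this
  haveI hP : ∀ i : ι, IsReduced ((A ⧸ i.1) ⊗[R] C) := fun i =>
    haveI : IsDomain (A ⧸ i.1) := Ideal.Quotient.isDomain i.1
    NagataFlatReduced.isReduced_tensor R hR C hjac h0 (A ⧸ i.1)
  haveI hP' : ∀ i : ι, IsReduced (C ⊗[R] (A ⧸ i.1)) := fun i =>
    isReduced_of_injective (Algebra.TensorProduct.comm R C (A ⧸ i.1)) (AlgEquiv.injective _)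
  refine ⟨fun z hz => ?_⟩
  apply (Algebra.TensorProduct.comm R A C).injective
  let F := Algebra.TensorProduct.map (AlgHom.id R C) G
  apply Module.Flat.lTensor_preserves_injective_linearMap (M := C) G.toLinearMap hG
  apply (Algebra.TensorProduct.piRight R R C fun i : ι => A ⧸ i.1).injective
  rw [map_zero, map_zero, map_zero]
  exact (((hz.map (Algebra.TensorProduct.comm R A C)).map F).map
    (Algebra.TensorProduct.piRight R R C fun i : ι => A ⧸ i.1)).eq_zero

/-- The completed tensor product is reduced. -/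
theorem isReduced_cTensor [PerfectField k] [IsReduced A] [IsReduced B] :
    IsReduced (EGA4.CTensor k A B) := by
  classical
  obtain ⟨d, g, hgm, hgfin⟩ := exists_finite k A
  let R := MvPowerSeries (Fin d) k
  let C := MvPowerSeries (Fin d) B
  letI : Algebra R A := g.toRingHom.toAlgebra
  haveI : IsScalarTower k R A := IsScalarTower.of_algebraMap_eq fun l => (g.commutes l).symm
  haveI : Module.Finite R A := hgfin
  haveI := isReduced_tensor_ps k A B d
  haveI : IsScalarTower k R C := IsScalarTower.of_algebraMap_eq fun l => by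
    simp [R, C, MvPowerSeries.algebraMap_apply'', MvPowerSeries.algebraMap_apply]
  let T := C ⊗[R] A
  haveI : IsReduced T :=
    isReduced_of_injective (Algebra.TensorProduct.comm R C A) (AlgEquiv.injective _)
  -- completeness of `T`
  haveI := isAdicComplete_ps B d
  let M := maximalIdeal C
  haveI : Module.Finite C T := inferInstance
  haveI hcompl : IsAdicComplete M T := Groth.Agent.Lib.Adic.Complete.isAdicComplete_of_finite
  let MT : Ideal T := M.map (algebraMap C T)
  have hMT : ∀ j, ∀ z : T, z ∈ (M ^ j • ⊤ : Submodule C T) ↔ z ∈ MT ^ j := fun j z => by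
    rw [Ideal.smul_top_eq_map, ← Ideal.map_pow, Submodule.restrictScalars_mem]
  -- the map out of the tensor product
  let φ : A ⊗[k] B →ₐ[k] T := Algebra.TensorProduct.lift
    ((Algebra.TensorProduct.includeRight : A →ₐ[R] T).restrictScalars k)
    ((((Algebra.TensorProduct.includeLeft : C →ₐ[R] T).restrictScalars k)).comp
      ((IsScalarTower.toAlgHom B B C).restrictScalars k))
    fun _ _ => Commute.all _ _
  let I := EGA4.cTensorIdeal k A B
  have hφA : ∀ a : A, φ (a ⊗ₜ 1) = (1 : C) ⊗ₜ[R] a := fun a => by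
    change ((1 : C) ⊗ₜ[R] a) * ((algebraMap B C 1) ⊗ₜ[R] (1 : A)) = _
    rw [map_one, Algebra.TensorProduct.tmul_mul_tmul, one_mul, mul_one]
  have hφB : ∀ b : B, φ ((1 : A) ⊗ₜ b) = (MvPowerSeries.C b : C) ⊗ₜ[R] (1 : A) := fun b => by
    change ((1 : C) ⊗ₜ[R] (1 : A)) * (algebraMap B C b ⊗ₜ[R] (1 : A)) = _
    rw [Algebra.TensorProduct.tmul_mul_tmul, one_mul, one_mul]
    rfl
  have hM := maximalIdeal_ps B d
  have hXM : ∀ i, (MvPowerSeries.X i : C) ∈ M := fun i => by
    change _ ∈ maximalIdeal _
    rw [hM]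
    exact Ideal.mem_sup_left (Ideal.subset_span ⟨i, rfl⟩)
  have hφI : I.map φ ≤ MT := by
    change (EGA4.cTensorIdeal k A B).map φ ≤ MT
    rw [EGA4.cTensorIdeal, Ideal.map_le_iff_le_comap, sup_le_iff,
      Ideal.map_le_iff_le_comap, Ideal.map_le_iff_le_comap, ← hgm, Ideal.span_le]
    constructor
    · rintro _ ⟨i, rfl⟩
      change φ (g (MvPowerSeries.X i) ⊗ₜ 1) ∈ MT
      rw [hφA, show g (MvPowerSeries.X i) = (MvPowerSeries.X i : R) • (1 : A) from
        (Algebra.algebraMap_eq_smul_one (A := A) (MvPowerSeries.X i : R)), ← TensorProduct.smul_tmul,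
        ← Algebra.algebraMap_eq_smul_one]
      have : algebraMap R C (MvPowerSeries.X i) = MvPowerSeries.X i := by
        simp [R, C, MvPowerSeries.algebraMap_apply'']
      rw [this]
      exact Ideal.mem_map_of_mem (algebraMap C T) (hXM i)
    · intro b hb
      change φ ((1 : A) ⊗ₜ b) ∈ MT
      rw [hφB]
      refine Ideal.mem_map_of_mem (algebraMap C T) ?_
      change _ ∈ maximalIdeal _
      rw [hM]
      exact Ideal.mem_sup_right (Ideal.mem_map_of_mem _ hb)
  -- left inverses modulo powers of the ideal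
  have hG : ∀ j, ∃ G : T →+* (A ⊗[k] B) ⧸ I ^ j,
      (∀ a, G (φ a) = Ideal.Quotient.mk _ a) ∧ MT.map G ≤ I.map (Ideal.Quotient.mk (I ^ j)) := by
    intro j
    let Q := (A ⊗[k] B) ⧸ I ^ j
    let IQ : Ideal Q := I.map (Ideal.Quotient.mk (I ^ j))
    have hIQ : IQ ^ j = ⊥ := by rw [← Ideal.map_pow, Ideal.map_quotient_self]
    haveI := Groth.Agent.H24.PowerSeries.isAdicComplete_of_pow_eq_bot IQ j hIQ
    letI : Algebra B (A ⊗[k] B) := Algebra.TensorProduct.rightAlgebra
    haveI : IsScalarTower k B (A ⊗[k] B) := IsScalarTower.of_algebraMap_eq fun l => by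
      change _ = (1 : A) ⊗ₜ algebraMap k B l
      rw [Algebra.algebraMap_eq_smul_one (A := B), TensorProduct.tmul_smul,
        Algebra.algebraMap_eq_smul_one]
      rfl
    let iA : A →ₐ[k] Q :=
      (Ideal.Quotient.mkₐ k (I ^ j)).comp (Algebra.TensorProduct.includeLeft : A →ₐ[k] A ⊗[k] B)
    have hiA : ∀ i, iA (g (MvPowerSeries.X i)) ∈ IQ := fun i =>
      Ideal.mem_map_of_mem _ (Ideal.mem_sup_left (Ideal.mem_map_of_mem _
        (hgm ▸ Ideal.subset_span ⟨i, rfl⟩)))
    obtain ⟨f, hf⟩ := Groth.Agent.H24.PowerSeries.exists_hom (A := B) IQ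
      (fun i => iA (g (MvPowerSeries.X i))) hiA
    let fR : R →ₐ[k] Q :=
      (f.restrictScalars k).comp ((IsScalarTower.toAlgHom R R C).restrictScalars k)
    have hcomp : fR = iA.comp g := by
      refine Groth.Agent.H24.PowerSeries.hom_ext IQ (fun i => ?_) fun i => ?_
      · change f (algebraMap R C (MvPowerSeries.X i)) ∈ IQ
        rw [show algebraMap R C (MvPowerSeries.X i) = MvPowerSeries.X i by
          simp [R, C, MvPowerSeries.algebraMap_apply''], hf]
        exact hiA i
      · change f (algebraMap R C (MvPowerSeries.X i)) = _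
        rw [show algebraMap R C (MvPowerSeries.X i) = MvPowerSeries.X i by
          simp [R, C, MvPowerSeries.algebraMap_apply''], hf]
        rfl
    let iA' : A →ₐ[R] Q := { iA.toRingHom with commutes' := fun r => rfl }
    let f' : C →ₐ[R] Q := { f.toRingHom with commutes' := fun r => AlgHom.congr_fun hcomp r }
    let G : T →ₐ[R] Q := Algebra.TensorProduct.lift f' iA' fun _ _ => Commute.all _ _
    refine ⟨G.toRingHom, fun a => ?_, ?_⟩
    · induction a using TensorProduct.induction_on with
      | zero => rw [map_zero, map_zero, map_zero]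
      | add x y hx hy => rw [map_add, map_add, map_add, hx, hy]
      | tmul a b =>
        have h1 : φ (a ⊗ₜ[k] b) = (MvPowerSeries.C b : C) ⊗ₜ[R] a := by
          rw [show a ⊗ₜ[k] b = (a ⊗ₜ[k] (1 : B)) * ((1 : A) ⊗ₜ[k] b) by simp, map_mul, hφA, hφB,
            Algebra.TensorProduct.tmul_mul_tmul, one_mul, mul_one]
        rw [h1]
        change f (algebraMap B C b) * iA a = _
        rw [AlgHom.commutes, mul_comm]
        change Ideal.Quotient.mk _ (a ⊗ₜ[k] (1 : B)) * Ideal.Quotient.mk _ ((1 : A) ⊗ₜ[k] b) = _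
        rw [← map_mul, Algebra.TensorProduct.tmul_mul_tmul, one_mul, mul_one]
    · rw [Ideal.map_map, Ideal.map_le_iff_le_comap]
      change maximalIdeal _ ≤ _
      rw [hM, sup_le_iff, Ideal.span_le, Ideal.map_le_iff_le_comap]
      constructor
      · rintro _ ⟨i, rfl⟩
        change f (MvPowerSeries.X i) * iA 1 ∈ IQ
        rw [hf]
        exact Ideal.mul_mem_right _ _ (hiA i)
      · intro b hb
        change f (algebraMap B C b) * iA 1 ∈ IQ
        rw [AlgHom.commutes]
        exact Ideal.mul_mem_right _ _ (Ideal.mem_map_of_mem _ (Ideal.mem_sup_right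
          (Ideal.mem_map_of_mem _ hb)))
  -- conclusion
  refine ⟨fun x hx => AdicCompletion.ext_evalₐ fun j => ?_⟩
  choose a ha using fun i => Ideal.Quotient.mk_surjective (AdicCompletion.evalₐ I i x)
  have hCauchy : ∀ {m n : ℕ}, m ≤ n → φ (a m) ≡ φ (a n) [SMOD (M ^ m • ⊤ : Submodule C T)] := by
    intro m n hmn
    rw [SModEq.sub_mem, hMT, ← map_sub]
    refine Ideal.pow_right_mono hφI m ?_
    rw [← Ideal.map_pow]
    refine Ideal.mem_map_of_mem _ ?_
    rw [← Ideal.Quotient.eq, ha m, ← Groth.Agent.Lib.Excellent.CompletionTopology.factor_evalₐ hmn x,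
      ← ha n]
    rfl
  obtain ⟨L, hL⟩ := IsPrecomplete.prec (I := M) inferInstance hCauchy
  obtain ⟨N, hN⟩ := hx
  have hL' : ∀ i, φ (a i) - L ∈ MT ^ i := fun i => (hMT i _).1 (SModEq.sub_mem.1 (hL i))
  have hLN : L ^ N = 0 := by
    refine IsHausdorff.haus' (I := M) _ fun i => ?_
    rw [SModEq.zero, hMT]
    have h1 : a i ^ N ∈ I ^ i := by
      rw [← Ideal.Quotient.eq_zero_iff_mem, map_pow, ha, ← map_pow, hN, map_zero]
    have h2 : φ (a i ^ N) ∈ MT ^ i := by
      refine Ideal.pow_right_mono hφI i ?_
      rw [← Ideal.map_pow]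
      exact Ideal.mem_map_of_mem _ h1
    have h3 : φ (a i) ^ N - L ^ N ∈ MT ^ i :=
      Ideal.mem_of_dvd _ (sub_dvd_pow_sub_pow _ _ _) (hL' i)
    rw [map_pow] at h2
    have := sub_mem h2 h3
    rwa [sub_sub_cancel] at this
  have hL0 : L = 0 := IsReduced.eq_zero _ ⟨N, hLN⟩
  obtain ⟨G, hG1, hG2⟩ := hG j
  rw [map_zero, ← ha j, ← hG1]
  have h4 := Ideal.mem_map_of_mem G (hL' j)
  rw [hL0, sub_zero, Ideal.map_pow] at h4
  have h5 := Ideal.pow_right_mono hG2 j h4
  rw [← Ideal.map_pow, Ideal.map_quotient_self] at h5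
  exact h5

end Groth.Agent.Lib.Cohen.CTensorReduced
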