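import Mathlib.RingTheory.Unramified.Field
import Mathlib.RingTheory.Flat.Basic
import Mathlib.RingTheory.Etale.Field
import Mathlib.FieldTheory.IntermediateField.Algebraic

/-!
# Separable algebraic extensions stay reduced under field extensions
-/

set_option linter.style.haveILetI false

universe u

open scoped TensorProduct

namespace Groth.Agent.Lib.Cohen.SeparableTensor

theorem isReduced_tensor (K C L : Type u) [Field K] [Field C] [Field L] [Algebra K C] [Algebra K L]
    [Algebra.IsSeparable K L] : IsReduced (C ⊗[K] L) := by
  refine IsReduced.tensorProduct_of_flat_of_forall_fg fun E hE => ?_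
  haveI : Algebra.IsAlgebraic K L := Algebra.IsSeparable.isAlgebraic K L
  let F := E.toIntermediateField' (Subalgebra.isField_of_algebraic E)
  haveI : Algebra.FiniteType K E := E.fg_iff_finiteType.1 hE
  haveI : Algebra.IsSeparable K F := inferInstance
  haveI : Algebra.FiniteType K F := ‹Algebra.FiniteType K E›
  haveI : Module.Finite K F := Algebra.IsIntegral.finite
  haveI : Algebra.FormallyUnramified K F := Algebra.FormallyUnramified.of_isSeparable K F
  haveI : Algebra.EssFiniteType C (C ⊗[K] F) := inferInstance
  exact Algebra.FormallyUnramified.isReduced_of_field C (C ⊗[K] F)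

end Groth.Agent.Lib.Cohen.SeparableTensor
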