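import Groth.Agent.Lib.Cohen.NagataUnramified
import Groth.Agent.Lib.Cohen.NagataGlobal
import Mathlib.RingTheory.Nilpotent.GeometricallyReduced
import Mathlib.LinearAlgebra.TensorProduct.Pi
import Mathlib.RingTheory.Flat.Stability
import Mathlib.RingTheory.AdicCompletion.AsTensorProduct
import Mathlib.RingTheory.Localization.BaseChange
import Mathlib.RingTheory.LocalProperties.Reduced
import Mathlib.RingTheory.Ideal.MinimalPrime.Basic
import Mathlib.RingTheory.Spectrum.Prime.Topology

/-!
# Japanese local domains and the minimal primes of the completion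
-/

set_option linter.style.haveILetI false

universe u

open scoped TensorProduct
open IsLocalRing

namespace Groth.Agent.Lib.Cohen.AnalyticDimOne

variable {A : Type u} [CommRing A] [IsDomain A] [IsNoetherianRing A] [IsLocalRing A]

theorem exists_mul_eq_zero {C : Type u} [CommRing C] [IsReduced C] (q : Ideal C)
    (hq : q ∈ minimalPrimes C) {x : C} (hx : x ∈ q) : ∃ s ∉ q, s * x = 0 := by
  haveI := hq.1.1
  let Cq := Localization.AtPrime q
  have hn : algebraMap C Cq x ∈ nilradical Cq := by
    rw [nilradical_eq_sInf, Submodule.mem_sInf]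
    intro (Q : Ideal Cq) hQ
    haveI : Q.IsPrime := hQ
    have hle : Q.comap (algebraMap C Cq) ≤ q := fun y hy =>
      (IsLocalization.AtPrime.to_map_mem_maximal_iff Cq q y).1 (le_maximalIdeal hQ.ne_top hy)
    exact (le_antisymm hle (hq.2 ⟨Ideal.IsPrime.comap _, bot_le⟩ hle)).ge hx
  haveI : IsReduced Cq := isReduced_localizationPreserves (R := C) q.primeCompl Cq inferInstance
  rw [nilradical_eq_zero] at hn
  obtain ⟨s, hs⟩ := (IsLocalization.map_eq_zero_iff q.primeCompl Cq _).1 hn
  exact ⟨s, s.2, hs⟩

theorem algebraMap_notMem (q : Ideal (AdicCompletion (maximalIdeal A) A))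
    (hq : q ∈ minimalPrimes (AdicCompletion (maximalIdeal A) A))
    [IsReduced (AdicCompletion (maximalIdeal A) A)] {a : A} (ha : a ≠ 0) :
    algebraMap A (AdicCompletion (maximalIdeal A) A) a ∉ q := by
  let C := AdicCompletion (maximalIdeal A) A
  haveI : Module.FaithfullyFlat A C := Module.FaithfullyFlat.of_flat_of_isLocalHom
  intro haq
  obtain ⟨s, hsq, hs⟩ := exists_mul_eq_zero q hq haq
  refine hsq ?_
  have h0 : s = 0 := (IsSMulRegular.of_flat (S := C) (IsRegular.of_ne_zero ha).left).right_eq_zero_of_smul
    (by rw [smul_eq_mul, mul_comm]; exact hs)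
  rw [h0]
  exact q.zero_mem

theorem isLocalization_fractionRing {C : Type u} [CommRing C] [IsReduced C] (q : Ideal C) [q.IsPrime]
    (hq : q ∈ minimalPrimes C) : IsLocalization q.primeCompl (FractionRing (C ⧸ q)) := by
  let F := FractionRing (C ⧸ q)
  refine ⟨⟨fun t => ?_, fun z => ?_, fun {a b} h => ?_⟩⟩
  · rw [IsScalarTower.algebraMap_apply C (C ⧸ q) F]
    exact IsUnit.mk0 _ ((map_ne_zero_iff _ (IsFractionRing.injective (C ⧸ q) F)).2
      fun h => t.2 (Ideal.Quotient.eq_zero_iff_mem.1 h))
  · obtain ⟨a, s, hs, rfl⟩ := IsFractionRing.div_surjective (C ⧸ q) z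
    obtain ⟨a, rfl⟩ := Ideal.Quotient.mk_surjective a
    obtain ⟨s, rfl⟩ := Ideal.Quotient.mk_surjective s
    refine ⟨⟨a, ⟨s, fun h => nonZeroDivisors.ne_zero hs (Ideal.Quotient.eq_zero_iff_mem.2 h)⟩⟩, ?_⟩
    exact div_mul_cancel₀ _ (IsFractionRing.to_map_ne_zero_of_mem_nonZeroDivisors hs)
  · rw [IsScalarTower.algebraMap_apply C (C ⧸ q) F, IsScalarTower.algebraMap_apply C (C ⧸ q) F] at h
    obtain ⟨s, hs, he⟩ := exists_mul_eq_zero q hq
      (Ideal.Quotient.eq.1 (IsFractionRing.injective (C ⧸ q) F h))
    exact ⟨⟨s, hs⟩, sub_eq_zero.1 ((mul_sub s a b).symm.trans he)⟩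

omit [IsNoetherianRing A] [IsLocalRing A] in
theorem flat_of_injective (F : Type u) [Field F] [Algebra A F]
    (h : Function.Injective (algebraMap A F)) : Module.Flat A F := by
  letI : Algebra (FractionRing A) F := (IsFractionRing.lift (A := A) (g := algebraMap A F) h).toAlgebra
  haveI : IsScalarTower A (FractionRing A) F := IsScalarTower.of_algebraMap_eq fun a => by
    rw [RingHom.algebraMap_toAlgebra, IsFractionRing.lift_algebraMap]
  exact Module.Flat.trans A (FractionRing A) F

/-- Finite field extensions of the fraction field stay reduced after completion. -/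
theorem isReduced_tensor_finite (hA : CAlg.IsNagata A) (L : Type u) [Field L] [Algebra A L]
    [Algebra (FractionRing A) L] [IsScalarTower A (FractionRing A) L]
    [FiniteDimensional (FractionRing A) L] :
    IsReduced (AdicCompletion (maximalIdeal A) A ⊗[A] L) := by
  let C := AdicCompletion (maximalIdeal A) A
  let K := FractionRing A
  obtain ⟨B, hBfin, hBfrac⟩ :=
    Groth.Agent.Lib.Cohen.NagataGlobal.exists_finite_subalgebra (A := A) K L
  haveI := hBfin
  haveI := hBfrac
  haveI := Groth.Agent.Lib.Cohen.NagataUnramified.isReduced_tensor_of_isNagata A hA B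
  haveI : IsReduced (L ⊗[B] (B ⊗[A] C)) := by
    haveI : IsLocalization (Algebra.algebraMapSubmonoid (B ⊗[A] C) (nonZeroDivisors B))
        ((B ⊗[A] C) ⊗[B] L) := inferInstance
    haveI : IsReduced ((B ⊗[A] C) ⊗[B] L) :=
      isReduced_localizationPreserves (R := B ⊗[A] C)
        (Algebra.algebraMapSubmonoid (B ⊗[A] C) (nonZeroDivisors B)) ((B ⊗[A] C) ⊗[B] L) inferInstance
    exact isReduced_of_injective (Algebra.TensorProduct.comm B L (B ⊗[A] C)) (AlgEquiv.injective _)
  exact
    isReduced_of_injective ((Algebra.TensorProduct.comm A C L).toRingEquiv.trans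
      (Algebra.TensorProduct.cancelBaseChange A B L L C).symm.toRingEquiv) (RingEquiv.injective _)

/-- Algebraic field extensions of the fraction field stay reduced after completion. -/
theorem isReduced_tensor_algebraic (hA : CAlg.IsNagata A) (Ω : Type u) [Field Ω] [Algebra A Ω]
    [Algebra (FractionRing A) Ω] [IsScalarTower A (FractionRing A) Ω]
    [Algebra.IsAlgebraic (FractionRing A) Ω] :
    IsReduced (AdicCompletion (maximalIdeal A) A ⊗[A] Ω) := by
  let C := AdicCompletion (maximalIdeal A) A
  haveI : Module.FaithfullyFlat A C := Module.FaithfullyFlat.of_flat_of_isLocalHom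
  let K := FractionRing A
  have hΩK : ∀ z : Ω, IsIntegral K z := fun z => (Algebra.IsAlgebraic.isAlgebraic z).isIntegral
  refine IsReduced.tensorProduct_of_flat_of_forall_fg fun E hE => ?_
  obtain ⟨s, rfl⟩ := hE
  let L := IntermediateField.adjoin K (s : Set Ω)
  haveI : FiniteDimensional K L := IntermediateField.finiteDimensional_adjoin fun x _ => hΩK x
  haveI : IsReduced (C ⊗[A] L) := isReduced_tensor_finite hA L
  let i : Algebra.adjoin A (s : Set Ω) →ₐ[A] L :=
    { toFun := fun x => ⟨x.1, (Algebra.adjoin_le (S := L.toSubalgebra.restrictScalars A)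
        (IntermediateField.subset_adjoin K (s : Set Ω)) : _ ≤ L.toSubalgebra.restrictScalars A) x.2⟩
      map_one' := rfl
      map_mul' := fun _ _ => rfl
      map_zero' := rfl
      map_add' := fun _ _ => rfl
      commutes' := fun c => Subtype.ext rfl }
  exact isReduced_of_injective (Algebra.TensorProduct.map (AlgHom.id A C) i)
    (Module.Flat.lTensor_preserves_injective_linearMap i.toLinearMap
      fun x y h => Subtype.ext (congrArg (fun z : L => (z : Ω)) h))

/-- `Frac(Ĉ/q)` is geometrically reduced for a Japanese domain with Nagata property. -/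
theorem isGeometricallyReduced_of_isNagata (hA : CAlg.IsNagata A)
    [IsReduced (AdicCompletion (maximalIdeal A) A)]
    (q : Ideal (AdicCompletion (maximalIdeal A) A)) [q.IsPrime]
    (hq : q ∈ minimalPrimes (AdicCompletion (maximalIdeal A) A)) :
    Algebra.IsGeometricallyReduced A (FractionRing (AdicCompletion (maximalIdeal A) A ⧸ q)) := by
  classical
  let C := AdicCompletion (maximalIdeal A) A
  haveI : Module.FaithfullyFlat A C := Module.FaithfullyFlat.of_flat_of_isLocalHom
  let F := FractionRing (C ⧸ q)
  refine ⟨fun p hp => ?_⟩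
  let Ω := AlgebraicClosure p.ResidueField
  by_cases hp0 : p = ⊥
  swap
  · obtain ⟨a, hap, ha0⟩ := Submodule.exists_mem_ne_zero_of_ne_bot hp0
    have hu : IsUnit (algebraMap A F a) := by
      rw [IsScalarTower.algebraMap_apply A (C ⧸ q) F, IsScalarTower.algebraMap_apply A C (C ⧸ q)]
      refine IsUnit.mk0 _ ((map_ne_zero_iff _ (IsFractionRing.injective (C ⧸ q) F)).2 ?_)
      exact fun h => algebraMap_notMem q hq ha0 (Ideal.Quotient.eq_zero_iff_mem.1 h)
    have h0 : algebraMap A Ω a = 0 := by
      rw [IsScalarTower.algebraMap_apply A p.ResidueField Ω, Ideal.algebraMap_residueField_eq_zero.2 hap,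
        map_zero]
    obtain ⟨w, hw⟩ := isUnit_iff_exists_inv.1 hu
    have hone : (1 : Ω ⊗[A] F) = 0 := by
      rw [Algebra.TensorProduct.one_def, ← hw, ← Algebra.smul_def, ← TensorProduct.smul_tmul,
        Algebra.smul_def, h0, zero_mul, TensorProduct.zero_tmul]
    exact ⟨fun x _ => by rw [← mul_one x, hone, mul_zero]⟩
  subst hp0
  haveI : FaithfulSMul A Ω := (faithfulSMul_iff_algebraMap_injective _ _).2 <| by
    rw [injective_iff_map_eq_zero]
    intro a ha
    rw [IsScalarTower.algebraMap_apply A (⊥ : Ideal A).ResidueField Ω, map_eq_zero] at ha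
    exact Ideal.algebraMap_residueField_eq_zero.1 ha
  let K := FractionRing A
  letI : Algebra K Ω := FractionRing.liftAlgebra A Ω
  haveI : IsScalarTower A K Ω := FractionRing.isScalarTower_liftAlgebra A Ω
  haveI : Algebra.IsAlgebraic K Ω := ⟨fun z => by
    haveI : IsFractionRing A (⊥ : Ideal A).ResidueField := by
      haveI : FaithfulSMul A (⊥ : Ideal A).ResidueField :=
        (faithfulSMul_iff_algebraMap_injective _ _).2 <| by
          rw [injective_iff_map_eq_zero]
          exact fun a ha => Ideal.algebraMap_residueField_eq_zero.1 ha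
      exact IsFractionRing.of_field A _ fun z => by
        obtain ⟨a, s, -, rfl⟩ := IsFractionRing.div_surjective (A ⧸ (⊥ : Ideal A)) z
        obtain ⟨a, rfl⟩ := Ideal.Quotient.mk_surjective a
        obtain ⟨s, rfl⟩ := Ideal.Quotient.mk_surjective s
        exact ⟨a, s, rfl⟩
    exact (IsFractionRing.isAlgebraic_iff A K Ω).1
      ((IsFractionRing.isAlgebraic_iff A (⊥ : Ideal A).ResidueField Ω).2
        (Algebra.IsAlgebraic.isAlgebraic z))⟩
  haveI : IsReduced (C ⊗[A] Ω) := isReduced_tensor_algebraic hA Ω
  haveI : IsLocalization q.primeCompl F := isLocalization_fractionRing q hq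
  haveI : IsReduced ((C ⊗[A] Ω) ⊗[C] F) :=
    isReduced_localizationPreserves (R := C ⊗[A] Ω) (Algebra.algebraMapSubmonoid (C ⊗[A] Ω) q.primeCompl)
      ((C ⊗[A] Ω) ⊗[C] F) inferInstance
  exact isReduced_of_injective ((Algebra.TensorProduct.comm A Ω F).toRingEquiv.trans
    ((Algebra.TensorProduct.cancelBaseChange A C F F Ω).symm.toRingEquiv.trans
      (Algebra.TensorProduct.comm C F (C ⊗[A] Ω)).toRingEquiv)) (RingEquiv.injective _)

/-- The Japanese property from geometrically reduced generic branches of the completion. -/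
theorem isN2_of_branches [IsReduced (AdicCompletion (maximalIdeal A) A)]
    (h : ∀ (q : Ideal (AdicCompletion (maximalIdeal A) A)) [q.IsPrime],
      q ∈ minimalPrimes (AdicCompletion (maximalIdeal A) A) →
        Algebra.IsGeometricallyReduced A (FractionRing (AdicCompletion (maximalIdeal A) A ⧸ q))) :
    CAlg.IsN2 A := by
  classical
  intro L _ _ _ _ hfin
  let C := AdicCompletion (maximalIdeal A) A
  let K := FractionRing A
  haveI : Module.FaithfullyFlat A C := Module.FaithfullyFlat.of_flat_of_isLocalHom
  refine Groth.Agent.Lib.Cohen.Unramified.finite_of_isReduced_tensor C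
    (Groth.Agent.Lib.Cohen.Unramified.isNagata_completion A) K L ?_
  let ι := {q : Ideal C // q ∈ minimalPrimes C}
  haveI : Finite ι := (minimalPrimes.finite_of_isNoetherianRing C).to_subtype
  haveI : Fintype ι := Fintype.ofFinite ι
  haveI hprime : ∀ q : ι, q.1.IsPrime := fun q => q.2.1.1
  haveI : Module.Flat A L := Module.Flat.trans A K L
  have hred : ∀ q : ι, IsReduced (L ⊗[A] FractionRing (C ⧸ q.1)) := fun q => by
    let F := FractionRing (C ⧸ q.1)
    haveI := h q.1 q.2
    let Ω := AlgebraicClosure (⊥ : Ideal A).ResidueField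
    haveI hΩ : IsReduced (Ω ⊗[A] F) := Algebra.IsGeometricallyReduced.isReduced_algebraicClosure_tensorProduct ⊥
    haveI : FaithfulSMul A (⊥ : Ideal A).ResidueField :=
      (faithfulSMul_iff_algebraMap_injective _ _).2 <| by
        rw [injective_iff_map_eq_zero]
        exact fun a ha => Ideal.algebraMap_residueField_eq_zero.1 ha
    letI : Algebra K (⊥ : Ideal A).ResidueField := FractionRing.liftAlgebra A _
    haveI : IsScalarTower A K (⊥ : Ideal A).ResidueField :=
      FractionRing.isScalarTower_liftAlgebra A _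
    haveI : IsScalarTower A K Ω := inferInstance
    haveI : Algebra.IsAlgebraic K L := Algebra.IsAlgebraic.of_finite K L
    let i : L →ₐ[A] Ω := (IsAlgClosed.lift (R := K) (S := L) (M := Ω)).restrictScalars A
    haveI : Module.Flat A F := flat_of_injective F (by
      rw [injective_iff_map_eq_zero]
      intro a ha
      by_contra ha0
      rw [IsScalarTower.algebraMap_apply A (C ⧸ q.1) F, map_eq_zero_iff _ (IsFractionRing.injective _ F),
        IsScalarTower.algebraMap_apply A C (C ⧸ q.1)] at ha
      exact algebraMap_notMem q.1 q.2 ha0 (Ideal.Quotient.eq_zero_iff_mem.1 ha))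
    exact isReduced_of_injective (Algebra.TensorProduct.map i (AlgHom.id A F))
      (Module.Flat.rTensor_preserves_injective_linearMap i.toLinearMap i.toRingHom.injective)
  let j : C →ₐ[A] (∀ q : ι, FractionRing (C ⧸ q.1)) :=
    Pi.algHom A _ fun q => IsScalarTower.toAlgHom A C (FractionRing (C ⧸ q.1))
  have hj : Function.Injective j := by
    refine (injective_iff_map_eq_zero j).2 fun x hx => ?_
    have : x ∈ nilradical C := by
      rw [nilradical, ← Ideal.sInf_minimalPrimes, Submodule.mem_sInf]
      intro Q hQ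
      have h1 : algebraMap C (FractionRing (C ⧸ Q)) x = 0 := congrFun hx ⟨Q, hQ⟩
      haveI := hQ.1.1
      rw [IsScalarTower.algebraMap_apply C (C ⧸ Q), map_eq_zero_iff _ (IsFractionRing.injective _ _)] at h1
      exact Ideal.Quotient.eq_zero_iff_mem.1 h1
    rwa [nilradical_eq_zero] at this
  suffices IsReduced (L ⊗[A] C) from
    isReduced_of_injective (Algebra.TensorProduct.comm A C L) (AlgEquiv.injective _)
  refine ⟨fun z hz => ?_⟩
  let φ := Algebra.TensorProduct.map (AlgHom.id A L) j
  have hφ : Function.Injective φ := Module.Flat.lTensor_preserves_injective_linearMap j.toLinearMap hj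
  refine hφ ?_
  rw [map_zero]
  apply (TensorProduct.piRight A A L fun q : ι => FractionRing (C ⧸ q.1)).injective
  rw [map_zero]
  funext q
  haveI := hred q
  have hP : IsNilpotent (Algebra.TensorProduct.map (AlgHom.id A L)
      (IsScalarTower.toAlgHom A C (FractionRing (C ⧸ q.1))) z) := hz.map _
  refine Eq.trans ?_ hP.eq_zero
  clear hP hz
  induction z using TensorProduct.induction_on with
  | zero => simp
  | tmul c r => rfl
  | add x y hx hy => simp only [map_add, Pi.add_apply, hx, hy]

end Groth.Agent.Lib.Cohen.AnalyticDimOne
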