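import Groth.Agent.Lib.Cohen.SeparableTensor
import Groth.Prelude.Def_Found
import Mathlib.RingTheory.AdicCompletion.AsTensorProduct
import Mathlib.RingTheory.AdicCompletion.LocalRing
import Mathlib.RingTheory.DiscreteValuationRing.TFAE
import Mathlib.RingTheory.RegularLocalRing.Defs
import Mathlib.RingTheory.Localization.BaseChange
import Mathlib.RingTheory.Flat.FaithfullyFlat.Algebra
import Mathlib.RingTheory.Artinian.Module
import Mathlib.FieldTheory.Perfect
import Mathlib.RingTheory.DedekindDomain.Dvr
import Mathlib.RingTheory.Ideal.GoingDown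
import Mathlib.RingTheory.LocalProperties.Reduced
import Groth.Agent.Lib.Excellent.CompletionNoetherian
import Groth.Agent.Lib.Cohen.AnalyticDimOne

/-!
# Dedekind domains of characteristic zero are G-rings
-/

set_option linter.style.haveILetI false

universe u

open scoped TensorProduct
open IsLocalRing

namespace Groth.Agent.Lib.Cohen.DedekindGRing

theorem isRegularRing_of_artinian_reduced (X : Type u) [CommRing X] [IsArtinianRing X] [IsReduced X] :
    IsRegularRing X := by
  rw [isRegularRing_iff]
  intro p _
  haveI : IsArtinianRing (Localization.AtPrime p) := inferInstance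
  haveI : IsReduced (Localization.AtPrime p) :=
    isReduced_localizationPreserves (R := X) p.primeCompl (Localization.AtPrime p) inferInstance
  letI := (IsArtinianRing.isField_of_isReduced_of_isLocalRing (Localization.AtPrime p)).toField
  infer_instance

/-- A completion of a discrete valuation ring is a discrete valuation ring. -/
theorem exists_dvr (R : Type u) [CommRing R] [IsDomain R] [IsDiscreteValuationRing R] :
    ∃ _ : IsDomain (AdicCompletion (maximalIdeal R) R),
      IsDiscreteValuationRing (AdicCompletion (maximalIdeal R) R) := by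
  let C := AdicCompletion (maximalIdeal R) R
  haveI : Module.FaithfullyFlat R C := Module.FaithfullyFlat.of_flat_of_isLocalHom
  obtain ⟨π, hπ⟩ := IsDiscreteValuationRing.exists_irreducible R
  let ϖ := algebraMap R C π
  have hm : maximalIdeal C = Ideal.span {ϖ} := by
    have h := congrArg (Ideal.map (algebraMap R C)) hπ.maximalIdeal_eq
    rw [Ideal.map_span, Set.image_singleton] at h
    rw [AdicCompletion.maximalIdeal_eq_map]
    exact h
  have hreg : ∀ n : ℕ, ϖ ^ n ≠ 0 := fun n h => pow_ne_zero n hπ.ne_zero
    (FaithfulSMul.algebraMap_injective R C (by rw [map_pow, map_zero]; exact h))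
  obtain ⟨Q, hQ, hQϖ⟩ : ∃ Q : Ideal C, Q.IsPrime ∧ ϖ ∉ Q := by
    by_contra hn
    push Not at hn
    have : ϖ ∈ nilradical C := by
      rw [nilradical_eq_sInf, Submodule.mem_sInf]
      exact fun Q hQ => hn Q hQ
    obtain ⟨n, hn⟩ := mem_nilradical.1 this
    exact hreg n hn
  have hle : Q ≤ Ideal.span {ϖ} := hm ▸ IsLocalRing.le_maximalIdeal hQ.ne_top
  have hQ0 : Q = ⊥ := by
    refine Submodule.eq_bot_of_le_smul_of_le_jacobson_bot (maximalIdeal C) Q (IsNoetherian.noetherian Q) ?_
      (IsLocalRing.maximalIdeal_le_jacobson _)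
    intro q hq
    obtain ⟨c, rfl⟩ := Ideal.mem_span_singleton'.1 (hle hq)
    rw [mul_comm]
    exact Submodule.smul_mem_smul (hm.symm ▸ Ideal.mem_span_singleton_self ϖ)
      ((hQ.mem_or_mem hq).resolve_right hQϖ)
  haveI : IsDomain C := by
    haveI : (⊥ : Ideal C).IsPrime := hQ0 ▸ hQ
    exact IsDomain.of_bot_isPrime C
  refine ⟨inferInstance, ?_⟩
  have hnf : ¬IsField C := fun hf => hQϖ (by
    have := IsLocalRing.isField_iff_maximalIdeal_eq.1 hf
    rw [hm, Ideal.span_singleton_eq_bot] at this
    rw [this]; exact zero_mem _)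
  have h04 := (IsDiscreteValuationRing.TFAE C hnf).out 0 4 (a := IsDiscreteValuationRing C)
    (b := (maximalIdeal C).IsPrincipal) rfl rfl
  exact h04.2 ⟨⟨ϖ, hm⟩⟩

/-- Local G-ring property of Nagata discrete valuation rings and fields. -/
theorem isRegularHom_completion (R : Type u) [CommRing R] [IsDomain R] [IsLocalRing R]
    [IsNoetherianRing R] [IsDedekindDomain R] (hN : CAlg.IsNagata R) :
    CAlg.IsRegularHom R (AdicCompletion (maximalIdeal R) R) := by
  let C := AdicCompletion (maximalIdeal R) R
  haveI : Module.FaithfullyFlat R C := Module.FaithfullyFlat.of_flat_of_isLocalHom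
  refine ⟨inferInstance, fun p hp => ?_⟩
  let k := p.ResidueField
  suffices hall : ∀ (k' : Type u) [Field k'] [Algebra k k'], Module.Finite k k' →
      IsRegularRing (k' ⊗[k] p.Fiber C) by
    refine ⟨?_, hall⟩
    haveI hreg := hall k inferInstance
    haveI := IsRegularRing.of_ringEquiv (R := k ⊗[k] p.Fiber C) (R' := p.Fiber C)
      (Algebra.TensorProduct.lid k (p.Fiber C)).toRingEquiv
    infer_instance
  intro k' _ _ hk'
  by_cases hpm : maximalIdeal R ≤ p
  · -- the closed fibre
    have hpeq : p = maximalIdeal R := le_antisymm (IsLocalRing.le_maximalIdeal hp.ne_top) hpm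
    have hkill : ∀ r ∈ maximalIdeal R, algebraMap R k r = 0 := fun r hr =>
      Ideal.algebraMap_residueField_eq_zero.2 (hpm hr)
    have hsurj : Function.Surjective (Algebra.TensorProduct.includeLeft : k →ₐ[k] k ⊗[R] C) := by
      intro z
      induction z using TensorProduct.induction_on with
      | zero => exact ⟨0, map_zero _⟩
      | add x y hx hy =>
        obtain ⟨a, rfl⟩ := hx
        obtain ⟨b, rfl⟩ := hy
        exact ⟨a + b, map_add _ _ _⟩
      | tmul b c =>
        obtain ⟨r, hr⟩ := (AdicCompletion.residueField_map_bijective R).2 (residue C c)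
        obtain ⟨r, rfl⟩ := residue_surjective r
        rw [ResidueField.map_residue, ← sub_eq_zero, ← map_sub, residue_eq_zero_iff,
          AdicCompletion.maximalIdeal_eq_map] at hr
        have hz : ∀ x ∈ (maximalIdeal R).map (algebraMap R C), b ⊗ₜ[R] x = 0 := by
          intro x hx
          rw [← Submodule.restrictScalars_mem R, ← Ideal.smul_top_eq_map] at hx
          induction hx using Submodule.smul_induction_on' with
          | smul a ha y _ =>
            rw [← TensorProduct.smul_tmul, Algebra.smul_def, hkill a ha, zero_mul,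
              TensorProduct.zero_tmul]
          | add x _ y _ hx hy => rw [TensorProduct.tmul_add, hx, hy, add_zero]
        refine ⟨r • b, ?_⟩
        have h := hz _ hr
        rw [TensorProduct.tmul_sub, sub_eq_zero] at h
        rw [← h, Algebra.algebraMap_eq_smul_one, ← TensorProduct.smul_tmul]
        rfl
    haveI : Nontrivial (p.Fiber C) := by
      obtain ⟨Q, hQ⟩ := (PrimeSpectrum.comap_surjective_of_faithfullyFlat (A := R) (B := C)) ⟨p, hp⟩
      haveI : Q.asIdeal.LiesOver p := ⟨(congrArg PrimeSpectrum.asIdeal hQ).symm⟩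
      let P := (PrimeSpectrum.preimageEquivFiber R C ⟨p, hp⟩) ⟨Q, hQ⟩
      exact ⟨⟨0, 1, fun h => P.isPrime.ne_top ((Ideal.eq_top_iff_one _).2
        (h ▸ P.asIdeal.zero_mem))⟩⟩
    let e : k ≃ₐ[k] p.Fiber C := AlgEquiv.ofBijective
      (Algebra.TensorProduct.includeLeft : k →ₐ[k] k ⊗[R] C) ⟨RingHom.injective _, hsurj⟩
    exact IsRegularRing.of_ringEquiv (R := k')
      ((Algebra.TensorProduct.rid k k k').symm.toRingEquiv.trans
        (Algebra.TensorProduct.congr (AlgEquiv.refl (R := k) (A₁ := k')) e).toRingEquiv)
  -- the generic fibre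
  obtain rfl : p = ⊥ := by
    by_contra hne
    exact hpm ((hp.isMaximal hne).eq_of_le (maximalIdeal.isMaximal R).ne_top
      (IsLocalRing.le_maximalIdeal hp.ne_top)).ge
  have hnf : ¬IsField R := fun hf => hpm (by rw [IsLocalRing.isField_iff_maximalIdeal_eq.1 hf])
  haveI : IsDiscreteValuationRing R :=
    ((IsDiscreteValuationRing.TFAE R hnf).out 0 2 (a := IsDiscreteValuationRing R)
      (b := IsDedekindDomain R) rfl rfl).2 inferInstance
  obtain ⟨hCdom, hCdvr⟩ := exists_dvr R
  haveI : FaithfulSMul R k := (faithfulSMul_iff_algebraMap_injective _ _).2 <| by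
    rw [injective_iff_map_eq_zero]
    exact fun a ha => Ideal.algebraMap_residueField_eq_zero.1 ha
  haveI : IsFractionRing R k := IsFractionRing.of_field R k fun z => by
    obtain ⟨a, s, -, rfl⟩ := IsFractionRing.div_surjective (R ⧸ (⊥ : Ideal R)) z
    obtain ⟨a, rfl⟩ := Ideal.Quotient.mk_surjective a
    obtain ⟨s, rfl⟩ := Ideal.Quotient.mk_surjective s
    exact ⟨a, s, rfl⟩
  let L := FractionRing C
  have hinj : Function.Injective (algebraMap R C) := FaithfulSMul.algebraMap_injective R C
  letI : Algebra k L := (IsFractionRing.lift (A := R) (g := (algebraMap C L).comp (algebraMap R C))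
    ((IsFractionRing.injective C L).comp hinj)).toAlgebra
  haveI : IsScalarTower R k L := IsScalarTower.of_algebraMap_eq fun c => by
    rw [RingHom.algebraMap_toAlgebra, IsFractionRing.lift_algebraMap]
    rfl
  haveI : IsLocalization (Algebra.algebraMapSubmonoid C (nonZeroDivisors R)) L := by
    obtain ⟨π, hπ⟩ := IsDiscreteValuationRing.exists_irreducible R
    have hπC : algebraMap R C π ≠ 0 := (map_ne_zero_iff _ hinj).2 hπ.ne_zero
    refine ⟨⟨fun t => ?_, fun z => ?_, fun {a b} h => ⟨1, by rw [IsFractionRing.injective C L h]⟩⟩⟩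
    · obtain ⟨_, c, hc, rfl⟩ := t
      exact IsUnit.mk0 _ ((map_ne_zero_iff _ (IsFractionRing.injective C L)).2
        ((map_ne_zero_iff _ hinj).2 (nonZeroDivisors.ne_zero hc)))
    · obtain ⟨b, d, hd, rfl⟩ := IsFractionRing.div_surjective C z
      obtain ⟨ϖ, hϖ⟩ := IsDiscreteValuationRing.exists_irreducible C
      obtain ⟨n, hn⟩ := IsDiscreteValuationRing.associated_pow_irreducible (nonZeroDivisors.ne_zero hd) hϖ
      have hass : Associated (algebraMap R C π) ϖ := by
        have h := congrArg (Ideal.map (algebraMap R C)) hπ.maximalIdeal_eq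
        rw [Ideal.map_span, Set.image_singleton] at h
        rw [← Ideal.span_singleton_eq_span_singleton, ← hϖ.maximalIdeal_eq,
          AdicCompletion.maximalIdeal_eq_map]
        exact h.symm
      obtain ⟨c, hc⟩ := (hn.trans (hass.symm.pow_pow)).dvd
      refine ⟨⟨b * c, ⟨algebraMap R C (π ^ n), π ^ n,
        mem_nonZeroDivisors_of_ne_zero (pow_ne_zero _ hπ.ne_zero), rfl⟩⟩, ?_⟩
      simp only
      rw [map_pow (algebraMap R C), hc, map_mul, map_mul, ← mul_assoc, div_mul_cancel₀]
      exact IsFractionRing.to_map_ne_zero_of_mem_nonZeroDivisors hd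
  haveI : IsLocalizedModule (nonZeroDivisors R) (IsScalarTower.toAlgHom R C L).toLinearMap :=
    isLocalizedModule_iff_isLocalization.2 inferInstance
  haveI : Algebra.IsPushout R k C L := (Algebra.isPushout_of_isLocalization (nonZeroDivisors R) k C L).symm
  let e : (⊥ : Ideal R).Fiber C ≃ₐ[k] L := Algebra.IsPushout.equiv R k C L
  haveI := hk'
  letI : Algebra R k' := ((algebraMap k k').comp (algebraMap R k)).toAlgebra
  haveI : IsScalarTower R k k' := IsScalarTower.of_algebraMap_eq fun _ => rfl
  let K := FractionRing R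
  let ε : K ≃ₐ[R] k := FractionRing.algEquiv R k
  letI : Algebra K k' := ((algebraMap k k').comp ε.toRingEquiv.toRingHom).toAlgebra
  haveI : IsScalarTower R K k' := IsScalarTower.of_algebraMap_eq fun c => by
    rw [RingHom.algebraMap_toAlgebra (R := K), RingHom.comp_apply]
    exact (IsScalarTower.algebraMap_apply R k k' c).trans (congrArg _ (ε.commutes c).symm)
  haveI : FiniteDimensional K k' := by
    refine Module.Finite.of_equiv_equiv ε.symm.toRingEquiv (RingEquiv.refl k') ?_
    ext z
    simp [RingHom.algebraMap_toAlgebra]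
    rfl
  haveI : IsReduced (C ⊗[R] k') := AnalyticDimOne.isReduced_tensor_finite hN k'
  haveI : IsReduced (L ⊗[k] k') := isReduced_of_injective
    ((Algebra.TensorProduct.comm k L k').toRingEquiv.trans
      (((Algebra.TensorProduct.congr (AlgEquiv.refl (R := k) (A₁ := k')) e.symm).toRingEquiv.trans
        (Algebra.TensorProduct.cancelBaseChange R k k' k' C).toRingEquiv).trans
          (Algebra.TensorProduct.comm R k' C).toRingEquiv)) (RingEquiv.injective _)
  haveI : Module.Finite L (L ⊗[k] k') := inferInstance
  haveI : IsArtinianRing (L ⊗[k] k') := IsArtinianRing.of_finite L _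
  haveI := isRegularRing_of_artinian_reduced (L ⊗[k] k')
  exact IsRegularRing.of_ringEquiv (R := L ⊗[k] k')
    ((Algebra.TensorProduct.comm k L k').toRingEquiv.trans
      (Algebra.TensorProduct.congr (AlgEquiv.refl (R := k) (A₁ := k')) e.symm).toRingEquiv)

/-- Nagata Dedekind domains are G-rings. -/
theorem isGRing_of_isNagata (A : Type u) [CommRing A] [IsDedekindDomain A] (hN : CAlg.IsNagata A) :
    CAlg.IsGRing A := by
  refine ⟨inferInstance, fun p _ => ?_⟩
  haveI : IsDomain (Localization.AtPrime p) :=
    IsLocalization.isDomain_localization p.primeCompl_le_nonZeroDivisors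
  haveI : IsDedekindDomain (Localization.AtPrime p) :=
    IsLocalization.isDedekindDomain A p.primeCompl_le_nonZeroDivisors _
  exact isRegularHom_completion (Localization.AtPrime p)
    (Groth.Agent.Lib.Excellent.Nagata.isNagata_of_isLocalization p.primeCompl hN)

/-- Dedekind domains of characteristic zero are Nagata. -/
theorem isNagata_of_charZero (A : Type u) [CommRing A] [IsDedekindDomain A] [CharZero A] :
    CAlg.IsNagata A := by
  refine ⟨inferInstance, fun p hp => ?_⟩
  haveI : IsDomain (A ⧸ p) := Ideal.Quotient.isDomain p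
  rcases eq_or_ne p ⊥ with rfl | hne
  · exact Groth.Agent.Lib.Excellent.Nagata.isN2_of_ringEquiv (RingEquiv.quotientBot A).symm
      Groth.Agent.Lib.Excellent.Nagata.isN2_of_charZero
  · haveI : p.IsMaximal := hp.isMaximal hne
    exact Groth.Agent.Lib.Excellent.Nagata.isN2_of_isField
      ((Ideal.Quotient.maximal_ideal_iff_isField_quotient p).1 inferInstance)

/-- Dedekind domains of characteristic zero are G-rings. -/
theorem isGRing (A : Type u) [CommRing A] [IsDedekindDomain A] [CharZero A] : CAlg.IsGRing A :=
  isGRing_of_isNagata A (isNagata_of_charZero A)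

end Groth.Agent.Lib.Cohen.DedekindGRing
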