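import Groth.Agent.Lib.Cohen.NagataGlobal
import Groth.Agent.S2657
import Groth.Agent.Lib.Regular.UFD
import Groth.Agent.Lib.Regular.Quotient

/-!
# J-2 and geometrically reduced formal fibres give Nagata
-/

set_option linter.style.haveILetI false

universe u

open Groth.Agent.Lib.Excellent.GenericNormal

namespace Groth.Agent.Lib.Cohen.QuasiExcellent

theorem regLocus_subset_norLocus (B : Type u) [CommRing B] : EGA4.regLocus B ⊆ EGA4.norLocus B :=
  fun q hq => by
    haveI : IsRegularLocalRing (Localization.AtPrime q.asIdeal) := hq
    exact ⟨Groth.Agent.Lib.Regular.Quotient.isDomain _,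
      Groth.Agent.Lib.Regular.UFD.isIntegrallyClosed _⟩

theorem genNor_of_isJ2 {A : Type u} [CommRing A] (h2 : EGA4.IsJ2 A) (B : Type u) [CommRing B]
    [IsDomain B] [Algebra A B] [Algebra.FiniteType A B] : GenNor B := by
  refine genNor_iff.2 ⟨EGA4.regLocus B, h2 B inferInstance, ⟨⟨⊥, Ideal.isPrime_bot⟩, ?_⟩,
    regLocus_subset_norLocus B⟩
  change IsRegularLocalRing (Localization.AtPrime (⊥ : Ideal B))
  haveI : IsFractionRing B (Localization.AtPrime (⊥ : Ideal B)) := by
    have e : (⊥ : Ideal B).primeCompl = nonZeroDivisors B := by
      ext x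
      simp [Ideal.primeCompl, mem_nonZeroDivisors_iff_ne_zero]
    have h : IsLocalization (⊥ : Ideal B).primeCompl (Localization.AtPrime (⊥ : Ideal B)) :=
      inferInstance
    simp only [e] at h
    exact h
  letI := (IsFractionRing.toField (A := B) (K := Localization.AtPrime (⊥ : Ideal B)))
  infer_instance

/-- A Noetherian ring with generically normal finite domains over its quotients and Nagata local
rings is Nagata. -/
theorem isNagata_of_local (A : Type u) [CommRing A] [IsNoetherianRing A]
    (hgen : ∀ (B : Type u) [CommRing B] [IsDomain B] [Algebra A B], Module.Finite A B → GenNor B)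
    (hloc : ∀ (m : Ideal A) [m.IsMaximal], CAlg.IsNagata (Localization.AtPrime m)) :
    CAlg.IsNagata A := by
  refine ⟨inferInstance, fun q _ => ?_⟩
  haveI : IsDomain (A ⧸ q) := Ideal.Quotient.isDomain q
  refine NagataGlobal.isN2_of_local (fun B _ _ _ hfin _ => ?_) fun p _ => ?_
  · letI : Algebra A B := ((algebraMap (A ⧸ q) B).comp (algebraMap A (A ⧸ q))).toAlgebra
    haveI : IsScalarTower A (A ⧸ q) B := IsScalarTower.of_algebraMap_eq' rfl
    exact hgen B (Module.Finite.trans (A ⧸ q) B)
  · let P := p.comap (Ideal.Quotient.mk q)
    haveI : P.IsPrime := Ideal.IsPrime.comap _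
    obtain ⟨m, hm, hle⟩ := Ideal.exists_le_maximal P Ideal.IsPrime.ne_top'
    haveI := hm
    have hP : CAlg.IsNagata (Localization.AtPrime P) := by
      let R := Localization.AtPrime m
      have hd : Disjoint (m.primeCompl : Set A) (P : Set A) :=
        Set.disjoint_left.2 fun z hz hzP => hz (hle hzP)
      haveI : (P.map (algebraMap A R)).IsPrime :=
        IsLocalization.isPrime_of_isPrime_disjoint m.primeCompl R P inferInstance hd
      set P' := P.map (algebraMap A R)
      have hcomap : P'.comap (algebraMap A R) = P :=
        IsLocalization.under_map_of_isPrime_disjoint m.primeCompl R inferInstance hd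
      haveI : IsLocalization.AtPrime (Localization.AtPrime P') P := by
        have h := IsLocalization.isLocalization_isLocalization_atPrime_isLocalization m.primeCompl
          (Localization.AtPrime P') P'
        simp only [hcomap] at h
        exact h
      refine Groth.Agent.Lib.Cohen.Unramified.isNagata_of_surjective
        (Groth.Agent.Lib.Excellent.Nagata.isNagata_of_isLocalization P'.primeCompl
          (A' := Localization.AtPrime P') (hloc m))
        (IsLocalization.algEquiv P.primeCompl (Localization.AtPrime P')
          (Localization.AtPrime P)).toRingEquiv.toRingHom ?_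
      exact RingEquiv.surjective _
    haveI : IsDomain (Localization.AtPrime p) :=
      IsLocalization.isDomain_localization p.primeCompl_le_nonZeroDivisors
    let φ := Localization.localRingHom P p (Ideal.Quotient.mk q) rfl
    have hφ : Function.Surjective φ := by
      intro z
      obtain ⟨a, s, rfl⟩ := IsLocalization.exists_mk'_eq p.primeCompl z
      obtain ⟨a', ha'⟩ := Ideal.Quotient.mk_surjective a
      obtain ⟨s', hs'⟩ := Ideal.Quotient.mk_surjective (s : A ⧸ q)
      have hs'' : s' ∈ P.primeCompl := fun h => s.2 (hs' ▸ h)
      refine ⟨IsLocalization.mk' (Localization.AtPrime P) a' ⟨s', hs''⟩, ?_⟩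
      rw [Localization.localRingHom_mk']
      congr 1
      exact Subtype.ext hs'
    have hquot := Groth.Agent.Lib.Cohen.Unramified.isNagata_of_surjective hP φ hφ
    exact Groth.Agent.Lib.Excellent.Nagata.isN2_of_ringEquiv
      (RingEquiv.quotientBot (Localization.AtPrime p)) (hquot.2 ⊥)

/-- A regular ring is reduced. -/
theorem isReduced_of_isRegularRing (X : Type u) [CommRing X] [IsRegularRing X] : IsReduced X := by
  refine (isReduced_ofLocalizationMaximal X) fun J hJ => ?_
  haveI := hJ.isPrime
  haveI : IsRegularLocalRing (Localization.AtPrime J) := inferInstance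
  haveI := Groth.Agent.Lib.Regular.Quotient.isDomain (Localization.AtPrime J)
  infer_instance

/-- Regular formal fibres are reduced. -/
theorem hasGeomReducedFormalFibres_of_isGRing {A : Type u} [CommRing A] (hG : CAlg.IsGRing A)
    (m : Ideal A) [m.IsPrime] : EGA4.HasGeomReducedFormalFibres (Localization.AtPrime m) := by
  intro p _
  rw [Groth.Agent.Lib.Excellent.FormalFibre.isGeometricallyReduced_iff_finite]
  intro k' _ _ hk'
  haveI := ((hG.2 m).2 p).2 k' hk'
  exact isReduced_of_isRegularRing _

/-- J-2 and geometrically reduced formal fibres give Nagata. -/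
theorem isNagata_of_geomReduced (A : Type u) [CommRing A] [IsNoetherianRing A]
    (h1 : ∀ (m : Ideal A) [m.IsMaximal], EGA4.HasGeomReducedFormalFibres (Localization.AtPrime m))
    (h2 : EGA4.IsJ2 A) : CAlg.IsNagata A :=
  isNagata_of_local A (fun B _ _ _ hfin => haveI := hfin; genNor_of_isJ2 h2 B)
    fun m _ => Groth.Agent.S2657.result (Localization.AtPrime m) (h1 m)

end Groth.Agent.Lib.Cohen.QuasiExcellent
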