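import Groth.Agent.Lib.Cohen.NagataLocal
import Groth.Agent.Lib.Cohen.CompleteNagata
import Mathlib.RingTheory.LocalProperties.Basic

/-!
# Reducedness of completed finite algebras from their local rings
-/

set_option linter.style.haveILetI false

universe u

open scoped TensorProduct
open IsLocalRing
open Groth.Agent.Lib.Excellent

namespace Groth.Agent.Lib.Cohen.Bridge

/-- Finite algebras over Nagata rings are Nagata. -/
theorem isNagata_of_finite {A R : Type u} [CommRing A] [CommRing R] [Algebra A R] [Module.Finite A R]
    (hA : CAlg.IsNagata A) : CAlg.IsNagata R := by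
  haveI := hA.1
  refine ⟨IsNoetherianRing.of_finite A R, fun P _ => ?_⟩
  let p := P.comap (algebraMap A R)
  haveI : p.IsPrime := Ideal.IsPrime.comap _
  let g : A ⧸ p →+* R ⧸ P := Ideal.quotientMap P (algebraMap A R) le_rfl
  haveI : IsDomain (A ⧸ p) := Ideal.Quotient.isDomain p
  haveI : IsDomain (R ⧸ P) := Ideal.Quotient.isDomain P
  refine Groth.Agent.Lib.Cohen.CompleteNagata.isN2_of_finite g Ideal.quotientMap_injective ?_ (hA.2 p)
  have h1 : (g.comp (Ideal.Quotient.mk p)).Finite := by
    have h2 : g.comp (Ideal.Quotient.mk p) = (Ideal.Quotient.mk P).comp (algebraMap A R) :=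
      RingHom.ext fun a => rfl
    rw [h2]
    exact (RingHom.Finite.of_surjective _ Ideal.Quotient.mk_surjective).comp
      (RingHom.finite_algebraMap.2 inferInstance)
  exact RingHom.Finite.of_comp_finite h1

/-- A finite algebra stays reduced after completion if its local rings at maximal ideals do. -/
theorem isReduced_tensor_of_maximal (A : Type u) [CommRing A] [IsLocalRing A] [IsNoetherianRing A]
    (B : Type u) [CommRing B] [Algebra A B] [Module.Finite A B]
    (h : ∀ (M : Ideal B) [M.IsMaximal], IsReduced
      (AdicCompletion (maximalIdeal (Localization.AtPrime M)) (Localization.AtPrime M))) :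
    IsReduced (B ⊗[A] AdicCompletion (maximalIdeal A) A) := by
  let I := (maximalIdeal A).map (algebraMap A B)
  suffices hI : IsReduced (AdicCompletion I B) from
    isReduced_of_injective (CompletionFinite.completionEquiv (maximalIdeal A) B).toRingEquiv
      (RingEquiv.injective _)
  haveI : IsNoetherianRing B := IsNoetherianRing.of_finite A B
  constructor
  intro z hz
  refine AdicCompletion.ext_evalₐ fun n => ?_
  obtain ⟨b, hb⟩ := Ideal.Quotient.mk_surjective (AdicCompletion.evalₐ I n z)
  rw [map_zero, ← hb, Ideal.Quotient.eq_zero_iff_mem]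
  refine Ideal.mem_of_localization_maximal fun M hM => ?_
  let BM := Localization.AtPrime M
  let J := I.map (algebraMap B BM)
  have hIM : I ≤ M := by
    rw [Ideal.map_le_iff_le_comap]
    haveI := Ideal.isMaximal_comap_of_isIntegral_of_isMaximal (R := A) M
    exact (IsLocalRing.eq_maximalIdeal this).ge
  have hJm : J ≤ maximalIdeal BM := by
    rw [Ideal.map_le_iff_le_comap]
    exact hIM.trans fun x hx => (IsLocalization.AtPrime.to_map_mem_maximal_iff BM M x).2 hx
  have hrad : maximalIdeal BM ≤ J.radical := by
    rw [Ideal.radical_eq_sInf, le_sInf_iff]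
    rintro Q ⟨hJQ, hQ⟩
    haveI := hQ
    have hle : Q.comap (algebraMap B BM) ≤ M := fun x hx =>
      (IsLocalization.AtPrime.to_map_mem_maximal_iff BM M x).1 (IsLocalRing.le_maximalIdeal hQ.ne_top hx)
    haveI : (Q.comap (algebraMap B BM)).IsPrime := Ideal.IsPrime.comap _
    have hmax : (Q.comap (algebraMap B BM)).IsMaximal := by
      refine Ideal.isMaximal_of_isIntegral_of_isMaximal_comap (R := A) _ ?_
      have h2 : maximalIdeal A ≤ (Q.comap (algebraMap B BM)).comap (algebraMap A B) := fun a ha =>
        hJQ (Ideal.mem_map_of_mem _ (Ideal.mem_map_of_mem _ ha))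
      rw [← (maximalIdeal.isMaximal A).eq_of_le (Ideal.IsPrime.comap (algebraMap A B)).ne_top h2]
      exact maximalIdeal.isMaximal A
    rw [← IsLocalization.map_comap M.primeCompl BM (maximalIdeal BM),
      ← IsLocalization.map_comap M.primeCompl BM Q]
    refine Ideal.map_mono fun x hx => ?_
    have : x ∈ M := (IsLocalization.AtPrime.to_map_mem_maximal_iff BM M x).1 hx
    rwa [← hmax.eq_of_le hM.ne_top hle] at this
  obtain ⟨k, hk⟩ := Ideal.exists_pow_le_of_le_radical_of_fg hrad (IsNoetherian.noetherian _)
  haveI := h M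
  haveI : IsReduced (AdicCompletion J BM) := by
    refine isReduced_of_injective (CompletionTopology.equivOfPow (J := maximalIdeal BM) 1 (k + 1)
      (by rwa [pow_one]) ((Ideal.pow_le_pow_right (Nat.le_succ k)).trans hk) le_rfl (by omega))
      (RingEquiv.injective _)
  have h0 := CompletionFinite.evalₐ_mapAlgHom I BM n z hb.symm
  rw [(hz.map (CompletionFinite.mapAlgHom I BM)).eq_zero, map_zero] at h0
  have h1 := Ideal.Quotient.eq_zero_iff_mem.1 h0.symm
  rwa [← Ideal.map_pow] at h1

end Groth.Agent.Lib.Cohen.Bridge
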