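import Groth.Agent.Lib.Excellent.GenericRegular
import Groth.Agent.Lib.Regular.Indep
import Groth.Agent.Lib.Regular.Serre
import Groth.Agent.Lib.Cohen.NagataGlobal
import Groth.Agent.Lib.Cohen.PSDerivation
import Groth.Agent.H24.PowerSeries
import Mathlib.RingTheory.Derivation.MapCoeffs
import Mathlib.RingTheory.RegularLocalRing.Polynomial
import Mathlib.RingTheory.AdjoinRoot
import Mathlib.FieldTheory.PurelyInseparable.Basic

/-!
# Generic regularity of finite extensions of power series rings in characteristic `p`
-/

set_option autoImplicit false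
set_option linter.style.haveILetI false

universe u

open Polynomial IsLocalRing
open scoped nonZeroDivisors

namespace Groth.Agent.Lib.Cohen.GenRegInsep

open Groth.Agent.Lib.Excellent.GenericRegular

/-- A quotient of a regular local ring by a parameter is regular. -/
theorem quotient_singleton {R : Type u} [CommRing R] [IsRegularLocalRing R] {g : R}
    (hg : g ∈ maximalIdeal R) (hg2 : g ∉ maximalIdeal R ^ 2) :
    IsRegularLocalRing (R ⧸ Ideal.span {g}) := by
  have h := (Groth.Agent.Lib.Regular.Indep.quotient_of_indep (c := 1) (fun _ => ⟨g, hg⟩)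
    (linearIndependent_unique_iff.2 fun h0 => hg2 ((Ideal.toCotangent_eq_zero _ ⟨g, hg⟩).1 h0))).1
  have e : Set.range (fun _ : Fin 1 => g) = {g} := Set.range_const
  rwa [e] at h

/-- `A[y] / (g)` is regular where `A` is and where a derivation of `A` kills no constant of `g`. -/
theorem mem_regLocus_adjoinRoot {A : Type u} [CommRing A] [IsNoetherianRing A] (g : A[X])
    (D : Derivation ℤ A[X] (PolynomialModule A A)) (h : A)
    (hreg : ∀ q : PrimeSpectrum A, h ∉ q.asIdeal → q ∈ EGA4.regLocus A)
    (Q : PrimeSpectrum (AdjoinRoot g)) (hQ : AdjoinRoot.of g h ∉ Q.asIdeal)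
    (hDQ : AdjoinRoot.mk g (PolynomialModule.equivPolynomialSelf (D g)) ∉ Q.asIdeal) :
    Q ∈ EGA4.regLocus (AdjoinRoot g) := by
  let P : Ideal A[X] := Q.asIdeal.comap (AdjoinRoot.mk g)
  let T := Localization.Away h
  haveI : IsRegularRing T := by
    refine isRegularRing_iff.mpr fun q hq => ?_
    refine (mem_regLocus_localization (Submonoid.powers h) (R := A) ⟨q, hq⟩).2 (hreg _ fun hh => ?_)
    exact hq.ne_top (Ideal.eq_top_of_isUnit_mem _ hh
      (IsLocalization.map_units _ ⟨h, Submonoid.mem_powers h⟩))
  haveI : IsRegularLocalRing (Localization.AtPrime P) := by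
    letI : Algebra A[X] T[X] := (Polynomial.mapRingHom (algebraMap A T)).toAlgebra
    haveI : IsLocalization ((Submonoid.powers h).map (C : A →+* A[X])) T[X] :=
      Polynomial.isLocalization (Submonoid.powers h) T
    obtain ⟨P', hP'⟩ : (⟨P, inferInstance⟩ : PrimeSpectrum A[X]) ∈
        Set.range (PrimeSpectrum.comap (algebraMap A[X] T[X])) := by
      rw [PrimeSpectrum.localization_comap_range T[X] ((Submonoid.powers h).map (C : A →+* A[X]))]
      change Disjoint _ _
      rw [Set.disjoint_left]
      rintro _ ⟨_, ⟨n, rfl⟩, rfl⟩ hn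
      rw [SetLike.mem_coe, map_pow] at hn
      exact hQ (Ideal.IsPrime.mem_of_pow_mem (I := P) inferInstance n hn)
    have hh := (mem_regLocus_localization ((Submonoid.powers h).map (C : A →+* A[X])) P').1
      (IsRegularRing.isRegularLocalRing_localization P'.asIdeal)
    rw [hP'] at hh
    exact hh
  let R := Localization.AtPrime P
  have hgP : g ∈ P := by
    change AdjoinRoot.mk g g ∈ Q.asIdeal
    rw [AdjoinRoot.mk_self]; exact zero_mem _
  let E := PolynomialModule.equivPolynomialSelf (R := A)
  have hg2 : algebraMap A[X] R g ∉ maximalIdeal R ^ 2 := by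
    intro h2
    rw [← Localization.AtPrime.map_eq_maximalIdeal, ← Ideal.map_pow,
      IsLocalization.algebraMap_mem_map_algebraMap_iff P.primeCompl] at h2
    obtain ⟨s, hs, hsg⟩ := h2
    have hsq : ∀ x ∈ P ^ 2, E (D x) ∈ P := by
      intro x hx
      rw [pow_two] at hx
      refine Submodule.mul_induction_on hx (fun a ha b hb => ?_) fun a b ha hb => ?_
      · rw [Derivation.leibniz, map_add, map_smul, map_smul, smul_eq_mul, smul_eq_mul]
        exact add_mem (Ideal.mul_mem_right _ _ ha) (Ideal.mul_mem_right _ _ hb)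
      · rw [map_add, map_add]; exact add_mem ha hb
    have h1 := hsq _ hsg
    rw [Derivation.leibniz, map_add, map_smul, map_smul, smul_eq_mul, smul_eq_mul] at h1
    have h3 : s * E (D g) ∈ P := (Ideal.add_mem_iff_left _ (Ideal.mul_mem_right _ _ hgP)).1 h1
    exact (Ideal.IsPrime.mem_or_mem inferInstance h3).elim hs hDQ
  have hgm : algebraMap A[X] R g ∈ maximalIdeal R :=
    (IsLocalization.AtPrime.to_map_mem_maximal_iff R P g).2 hgP
  haveI := quotient_singleton hgm hg2
  let J : Ideal A[X] := Ideal.span {g}
  have hJ : J.map (algebraMap A[X] R) = Ideal.span {algebraMap A[X] R g} := by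
    rw [Ideal.map_span, Set.image_singleton]
  haveI : IsRegularLocalRing (R ⧸ J.map (algebraMap A[X] R)) :=
    IsRegularLocalRing.of_ringEquiv (R := R ⧸ Ideal.span {algebraMap A[X] R g})
      (Ideal.quotEquivOfEq hJ.symm)
  have hM : Algebra.algebraMapSubmonoid (A[X] ⧸ J) P.primeCompl = Q.asIdeal.primeCompl := by
    ext z
    constructor
    · rintro ⟨y, hy, rfl⟩
      exact hy
    · intro hz
      obtain ⟨y, rfl⟩ := Ideal.Quotient.mk_surjective z
      exact ⟨y, hz, rfl⟩
  haveI hL : IsLocalization (Algebra.algebraMapSubmonoid (A[X] ⧸ J) P.primeCompl)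
      (R ⧸ J.map (algebraMap A[X] R)) := inferInstance
  rw [hM] at hL
  let Q' : Ideal (A[X] ⧸ J) := Q.asIdeal
  haveI : Q'.IsPrime := Q.isPrime
  haveI : IsLocalization Q'.primeCompl (R ⧸ J.map (algebraMap A[X] R)) := hL
  haveI : IsRegularLocalRing (Localization.AtPrime Q') :=
    IsRegularLocalRing.of_ringEquiv (R := R ⧸ J.map (algebraMap A[X] R))
      (IsLocalization.algEquiv Q'.primeCompl (R ⧸ J.map (algebraMap A[X] R))
        (Localization.AtPrime Q')).toRingEquiv
  exact this

/-- Adjoining a `p`-th root preserves generic regularity, given a derivation. -/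
theorem genReg_of_pow {p : ℕ} [Fact p.Prime] (A B : Type u) [CommRing A] [IsDomain A]
    [IsNoetherianRing A] [CommRing B] [IsDomain B] [Algebra A B] [Module.Finite A B] [FaithfulSMul A B]
    (K : Type u) [Field K] [Algebra A K] [IsFractionRing A K] [CharP A p]
    (L : Type u) [Field L] [Algebra B L] [IsFractionRing B L] [Algebra K L] [Algebra A L]
    [IsScalarTower A K L] [IsScalarTower A B L] (b : B) (f : A) (hbf : b ^ p = algebraMap A B f)
    (hgen : Algebra.adjoin K {algebraMap B L b} = ⊤) (hf : ∀ z : K, z ^ p ≠ algebraMap A K f)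
    (D : Derivation ℤ A A) (hD : D f ≠ 0) (hA : GenReg A) : GenReg B := by
  obtain ⟨h, hh, hreg⟩ := hA
  let g : A[X] := X ^ p - C f
  have hg : g.Monic := monic_X_pow_sub_C f (Fact.out : p.Prime).ne_zero
  let S := AdjoinRoot g
  have hbg : g.eval₂ (algebraMap A B) b = 0 := by simp [g, hbf]
  let φ : S →ₐ[A] B := AdjoinRoot.liftAlgHom g (Algebra.ofId A B) b hbg
  let x := algebraMap B L b
  have hxg : Polynomial.aeval x (g.map (algebraMap A K)) = 0 := by
    rw [Polynomial.aeval_map_algebraMap]
    change Polynomial.aeval (algebraMap B L b) (X ^ p - C f) = 0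
    rw [map_sub, map_pow, aeval_X, aeval_C, ← map_pow, hbf, ← IsScalarTower.algebraMap_apply, sub_self]
  have hmin : minpoly K x = g.map (algebraMap A K) := by
    refine (minpoly.eq_of_irreducible_of_monic ?_ hxg (hg.map _)).symm
    simpa [g] using X_pow_sub_C_irreducible_of_prime (Fact.out : p.Prime) hf
  have hφ : Function.Injective φ := by
    rw [injective_iff_map_eq_zero]
    intro z hz
    obtain ⟨q, rfl⟩ := AdjoinRoot.mk_surjective z
    rw [AdjoinRoot.mk_eq_zero, ← Polynomial.modByMonic_eq_zero_iff_dvd hg]
    apply Polynomial.map_injective _ (IsFractionRing.injective A K)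
    rw [Polynomial.map_zero, Polynomial.map_modByMonic _ hg,
      Polynomial.modByMonic_eq_zero_iff_dvd (hg.map _), ← hmin]
    refine minpoly.dvd K x ?_
    rw [Polynomial.aeval_map_algebraMap, Polynomial.aeval_algebraMap_apply]
    have : Polynomial.aeval b q = 0 := hz
    rw [this, map_zero]
  haveI : IsDomain S := hφ.isDomain φ.toRingHom
  letI : Algebra S B := φ.toRingHom.toAlgebra
  haveI : IsScalarTower A S B := IsScalarTower.of_algebraMap_eq fun a => (φ.commutes a).symm
  haveI : Module.Finite A S := hg.finite_adjoinRoot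
  haveI : IsNoetherianRing S := IsNoetherianRing.of_finite A S
  haveI : Module.Finite S B := Module.Finite.of_restrictScalars_finite A S B
  haveI : FaithfulSMul S B := (faithfulSMul_iff_algebraMap_injective _ _).2 hφ
  letI : Algebra S L := ((algebraMap B L).comp φ.toRingHom).toAlgebra
  haveI : IsScalarTower S B L := IsScalarTower.of_algebraMap_eq fun _ => rfl
  have hSA : ∀ a : A, algebraMap S L (AdjoinRoot.of g a) = algebraMap K L (algebraMap A K a) := fun a => by
    rw [← IsScalarTower.algebraMap_apply A K L, IsScalarTower.algebraMap_apply A B L]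
    exact congrArg (algebraMap B L) (φ.commutes a)
  haveI : IsFractionRing S L := by
    haveI : FaithfulSMul S L := (faithfulSMul_iff_algebraMap_injective _ _).2
      ((IsFractionRing.injective B L).comp hφ)
    refine IsFractionRing.of_field S L fun z => ?_
    have hz : z ∈ Algebra.adjoin K {x} := hgen ▸ Algebra.mem_top
    obtain ⟨q, rfl⟩ := Algebra.adjoin_singleton_eq_range_aeval K x ▸ hz
    obtain ⟨⟨s, hs⟩, hq⟩ := IsLocalization.integerNormalization_map_to_map A⁰ q
    refine ⟨AdjoinRoot.mk g (IsLocalization.integerNormalization A⁰ q), AdjoinRoot.of g s, ?_⟩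
    have h1 : algebraMap S L (AdjoinRoot.mk g (IsLocalization.integerNormalization A⁰ q)) =
        algebraMap K L (algebraMap A K s) * Polynomial.aeval x q := by
      have : φ (AdjoinRoot.mk g (IsLocalization.integerNormalization A⁰ q)) =
          Polynomial.aeval b (IsLocalization.integerNormalization A⁰ q) := rfl
      change algebraMap B L (φ _) = _
      rw [this, ← Polynomial.aeval_algebraMap_apply, ← Polynomial.aeval_map_algebraMap K, hq,
        Algebra.smul_def, map_mul, Polynomial.algebraMap_apply, Polynomial.aeval_C]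
    change Polynomial.aeval x q = _
    rw [h1, hSA, mul_div_cancel_left₀]
    exact (map_ne_zero_iff _ (algebraMap K L).injective).2 ((map_ne_zero_iff _ (IsFractionRing.injective A K)).2
      (nonZeroDivisors.ne_zero hs))
  refine genReg_of_isSeparable (P := S) (B := B) L L ⟨AdjoinRoot.of g (h * D f), ?_, fun Q hQ => ?_⟩
  · refine (map_ne_zero_iff _ (AdjoinRoot.of.injective_of_degree_ne_zero ?_)).2 (mul_ne_zero hh hD)
    rw [Polynomial.degree_X_pow_sub_C (Fact.out : p.Prime).pos]
    exact_mod_cast (Fact.out : p.Prime).ne_zero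
  · rw [map_mul] at hQ
    refine mem_regLocus_adjoinRoot g D.mapCoeffs h hreg Q (fun hh' => hQ (Ideal.mul_mem_right _ _ hh')) ?_
    have : PolynomialModule.equivPolynomialSelf (D.mapCoeffs g) = C (-D f) := by
      ext n
      change D (g.coeff n) = _
      simp only [g, coeff_sub, coeff_X_pow, coeff_C, map_sub]
      rcases eq_or_ne n 0 with rfl | hn
      · simp [(Fact.out : p.Prime).ne_zero.symm]
      · simp [hn, apply_ite D]
    rw [this, AdjoinRoot.mk_C, map_neg, neg_mem_iff]
    exact fun hh' => hQ (Ideal.mul_mem_left _ _ hh')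

open Groth.Agent.Lib.Cohen.NagataGlobal (exists_finite_subalgebra)

/-- Finite domains over `k[[X]]` are generically regular. -/
theorem genReg_powerSeries (p : ℕ) [Fact p.Prime] (k : Type u) [Field k] [CharP k p] (d : ℕ)
    (A : Type u) [CommRing A] [IsDomain A] [Algebra (MvPowerSeries (Fin d) k) A]
    [Module.Finite (MvPowerSeries (Fin d) k) A] [FaithfulSMul (MvPowerSeries (Fin d) k) A] :
    GenReg A := by
  classical
  let R := MvPowerSeries (Fin d) k
  let L := FractionRing R
  haveI : IsRegularLocalRing R := Groth.Agent.H24.PowerSeries.isRegularLocalRing_fin k d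
  have hR : GenReg R := ⟨1, one_ne_zero, fun q _ =>
    Groth.Agent.Lib.Regular.Serre.isRegularLocalRing_localization q.asIdeal⟩
  haveI : IsDomain R := Groth.Agent.Lib.Regular.Quotient.isDomain R
  suffices key : ∀ (n : ℕ) (A : Type u) [CommRing A] [IsDomain A] [Algebra R A] [Module.Finite R A]
      [FaithfulSMul R A] (K : Type u) [Field K] [Algebra A K] [IsFractionRing A K] [Algebra L K]
      [Algebra R K] [IsScalarTower R L K] [IsScalarTower R A K],
      Module.finrank L K = n → GenReg A by
    haveI : FaithfulSMul R (FractionRing A) := (faithfulSMul_iff_algebraMap_injective _ _).2 <| by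
      rw [IsScalarTower.algebraMap_eq R A (FractionRing A)]
      exact (IsFractionRing.injective A _).comp (FaithfulSMul.algebraMap_injective R A)
    letI : Algebra L (FractionRing A) := FractionRing.liftAlgebra R (FractionRing A)
    exact key _ A (FractionRing A) rfl
  intro n
  induction n using Nat.strong_induction_on with
  | h n ih =>
  intro A _ _ _ _ _ K _ _ _ _ _ _ _ hn
  haveI : Module.Finite L K := Module.Finite.of_isLocalization R A (Rₚ := L) (Sₚ := K) R⁰
  haveI : CharP R p := charP_of_injective_ringHom
    (f := (MvPowerSeries.C : k →+* R)) MvPowerSeries.C_injective p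
  haveI : CharP L p := charP_of_injective_ringHom (IsFractionRing.injective R L) p
  haveI : ExpChar L p := ExpChar.prime Fact.out
  by_cases hsep : Algebra.IsSeparable L K
  · exact genReg_of_isSeparable (P := R) (B := A) L K hR
  let Ls := separableClosure L K
  have hLs : Ls ≠ ⊤ := fun h => hsep ((separableClosure.eq_top_iff L K).1 h)
  -- a maximal intermediate field above the separable closure
  obtain ⟨M, ⟨hLM, hMtop⟩, hMmax⟩ : ∃ M : IntermediateField L K, (Ls ≤ M ∧ M ≠ ⊤) ∧
      ∀ M' : IntermediateField L K, (Ls ≤ M' ∧ M' ≠ ⊤) → M ≤ M' → M' = M := by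
    let s : Set ℕ := (fun M' : IntermediateField L K => Module.finrank L M') '' {M' | Ls ≤ M' ∧ M' ≠ ⊤}
    have hb : BddAbove s := ⟨Module.finrank L K, by
      rintro _ ⟨M', -, rfl⟩
      exact Submodule.finrank_le M'.toSubmodule⟩
    obtain ⟨M, hM, hMs⟩ := Nat.sSup_mem (s := s) ⟨_, Ls, ⟨le_rfl, hLs⟩, rfl⟩ hb
    refine ⟨M, hM, fun M' hM' hle => (IntermediateField.eq_of_le_of_finrank_le hle ?_).symm⟩
    exact (le_csSup hb ⟨M', hM', rfl⟩).trans_eq hMs.symm
  -- an element generating `K` over `M` with `p`-th power in `M`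
  obtain ⟨a, haM, hap⟩ : ∃ a : K, a ∉ M ∧ a ^ p ∈ M := by
    haveI : IsPurelyInseparable Ls K := separableClosure.isPurelyInseparable L K
    obtain ⟨z, hz⟩ : ∃ z : K, z ∉ M := by
      by_contra! h
      exact hMtop (top_le_iff.1 fun z _ => h z)
    haveI : ExpChar Ls p := expChar_of_injective_ringHom (algebraMap L Ls).injective p
    obtain ⟨e, y, hy⟩ := IsPurelyInseparable.pow_mem Ls p z
    have hex : ∃ e : ℕ, z ^ p ^ e ∈ M := ⟨e, hy ▸ hLM y.2⟩
    have h0 : Nat.find hex ≠ 0 := fun h => hz (by simpa [h] using Nat.find_spec hex)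
    refine ⟨z ^ p ^ (Nat.find hex - 1), Nat.find_min hex (by omega), ?_⟩
    rw [← pow_mul, ← pow_succ, Nat.sub_add_cancel (Nat.pos_of_ne_zero h0)]
    exact Nat.find_spec hex
  obtain ⟨A', hA', hA'frac⟩ := exists_finite_subalgebra (A := R) L M
  haveI := hA'
  haveI := hA'frac
  haveI : IsDomain A' := inferInstance
  haveI : FaithfulSMul R M := (faithfulSMul_iff_algebraMap_injective _ _).2 <| by
    rw [IsScalarTower.algebraMap_eq R L M]
    exact (algebraMap L M).injective.comp (IsFractionRing.injective R L)
  haveI : FaithfulSMul R A' := (faithfulSMul_iff_algebraMap_injective _ _).2 fun x y hxy =>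
    FaithfulSMul.algebraMap_injective R M (congrArg Subtype.val hxy)
  have hlt : Module.finrank L M < n := by
    rw [← hn]
    exact Submodule.finrank_lt (s := M.toSubmodule) fun h => hMtop (top_le_iff.1 fun z _ =>
      show z ∈ M.toSubmodule from h ▸ Submodule.mem_top)
  have hA'reg : GenReg A' := ih _ hlt A' M rfl
  -- scale `a` to be integral over `A`
  obtain ⟨u, s, hs, hus⟩ := IsFractionRing.div_surjective A' (⟨a ^ p, hap⟩ : M)
  let α : M := algebraMap A' M s
  have hα : α ≠ 0 := (map_ne_zero_iff _ (IsFractionRing.injective A' M)).2 (nonZeroDivisors.ne_zero hs)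
  let f : A' := u * s ^ (p - 1)
  have hfa : (algebraMap A' M f : K) = (a * (α : K)) ^ p := by
    have h1 : algebraMap A' M f = (⟨a ^ p, hap⟩ : M) * α ^ p := by
      rw [← hus, div_mul_eq_mul_div, eq_div_iff hα, map_mul, map_pow, mul_assoc]
      congr 1
      rw [← pow_succ, Nat.sub_add_cancel (Fact.out : p.Prime).pos]
    rw [h1, mul_pow]
    rfl
  let b0 : K := a * (α : K)
  have hb0 : b0 ∉ M := fun h => haM <| by
    have : a = b0 / (α : K) := by
      rw [mul_div_cancel_right₀]
      exact fun h0 => hα (Subtype.ext h0)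
    rw [this]; exact M.div_mem h α.2
  -- a finite model of `K` containing `A'` and `b0`
  haveI : IsScalarTower R M K := IsScalarTower.of_algebraMap_eq fun r => by
    rw [IsScalarTower.algebraMap_apply R L M r, IsScalarTower.algebraMap_apply R L K r]
    rfl
  let i' : A' →ₐ[R] K := (IsScalarTower.toAlgHom R M K).comp A'.val
  let B : Subalgebra R K := (IsScalarTower.toAlgHom R A K).range ⊔ i'.range ⊔ Algebra.adjoin R {b0}
  have hb0int : IsIntegral R b0 := by
    refine IsIntegral.of_pow (Fact.out : p.Prime).pos ?_
    have h1 : IsIntegral R (i' f) := (Algebra.IsIntegral.isIntegral f).map i'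
    have h2 : i' f = b0 ^ p := hfa
    rwa [h2] at h1
  haveI : Module.Finite R B := by
    haveI : Module.Finite R (IsScalarTower.toAlgHom R A K).range :=
      Module.Finite.range (IsScalarTower.toAlgHom R A K).toLinearMap
    haveI : Module.Finite R i'.range := Module.Finite.range i'.toLinearMap
    haveI : Module.Finite R (Algebra.adjoin R {b0}) :=
      Module.Finite.iff_fg.2 (fg_adjoin_of_finite (Set.finite_singleton b0) (by simpa using hb0int))
    haveI : Module.Finite R ((IsScalarTower.toAlgHom R A K).range ⊔ i'.range : Subalgebra R K) :=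
      Subalgebra.finite_sup _ _
    exact Subalgebra.finite_sup _ _
  haveI : IsFractionRing B K := IsFractionRing.of_field B K fun z => by
    obtain ⟨c, c', -, rfl⟩ := IsFractionRing.div_surjective A z
    exact ⟨⟨_, (le_sup_left.trans le_sup_left : (IsScalarTower.toAlgHom R A K).range ≤ B) ⟨c, rfl⟩⟩,
      ⟨_, (le_sup_left.trans le_sup_left : (IsScalarTower.toAlgHom R A K).range ≤ B) ⟨c', rfl⟩⟩, rfl⟩
  let iB : A' →ₐ[R] B := i'.codRestrict B fun z =>
    (le_sup_right.trans le_sup_left : i'.range ≤ B) ⟨z, rfl⟩
  letI : Algebra A' B := iB.toRingHom.toAlgebra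
  haveI : IsScalarTower R A' B := IsScalarTower.of_algebraMap_eq fun r => (iB.commutes r).symm
  haveI : Module.Finite A' B := Module.Finite.of_restrictScalars_finite R A' B
  haveI : FaithfulSMul A' B := (faithfulSMul_iff_algebraMap_injective _ _).2 fun x y hxy =>
    Subtype.ext ((algebraMap M K).injective (congrArg (fun z : B => (z : K)) hxy))
  haveI : IsScalarTower A' B K := IsScalarTower.of_algebraMap_eq fun _ => rfl
  haveI : IsNoetherianRing A' := IsNoetherianRing.of_finite R A'
  haveI : CharP A' p := charP_of_injective_ringHom (FaithfulSMul.algebraMap_injective R A') p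
  have hgen : Algebra.adjoin M {b0} = ⊤ := by
    have hint : IsIntegral M b0 := Algebra.IsIntegral.isIntegral b0
    rw [← IntermediateField.adjoin_simple_toSubalgebra_of_isAlgebraic hint.isAlgebraic]
    have htop : (IntermediateField.adjoin M {b0}).restrictScalars L = ⊤ := by
      by_contra hne
      have hle : M ≤ (IntermediateField.adjoin M {b0}).restrictScalars L := fun x hx =>
        IntermediateField.algebraMap_mem _ (⟨x, hx⟩ : M)
      have := hMmax _ ⟨hLM.trans hle, hne⟩ hle
      refine hb0 ?_
      rw [← this]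
      exact IntermediateField.subset_adjoin M {b0} rfl
    rw [IntermediateField.restrictScalars_eq_top_iff.1 htop]
    rfl
  have hpow : ∀ z : M, z ^ p ≠ algebraMap A' M f := by
    intro z hz
    refine hb0 ?_
    have hz' : (z : K) ^ p = b0 ^ p := by
      have := congrArg (fun m : M => (m : K)) hz
      rw [IntermediateField.coe_pow, hfa] at this
      exact this
    haveI : CharP K p := charP_of_injective_ringHom (algebraMap L K).injective p
    haveI : ExpChar K p := ExpChar.prime Fact.out
    rw [← frobenius_inj K p hz']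
    exact z.2
  obtain ⟨D, hD⟩ := PSDerivation.exists_derivation (p := p) (k := k) (d := d) A' M f hpow
  have hB : GenReg B := genReg_of_pow (A := A') (B := B) M K
    ⟨b0, (le_sup_right : Algebra.adjoin R {b0} ≤ B) (Algebra.subset_adjoin rfl)⟩ f
    (Subtype.ext hfa.symm) hgen hpow D hD hA'reg
  let iA : A →ₐ[R] B := (IsScalarTower.toAlgHom R A K).codRestrict B fun z =>
    (le_sup_left.trans le_sup_left : (IsScalarTower.toAlgHom R A K).range ≤ B) ⟨z, rfl⟩
  letI : Algebra A B := iA.toRingHom.toAlgebra
  haveI : IsScalarTower R A B := IsScalarTower.of_algebraMap_eq fun r => (iA.commutes r).symm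
  haveI : Module.Finite A B := Module.Finite.of_restrictScalars_finite R A B
  haveI : IsNoetherianRing A := IsNoetherianRing.of_finite R A
  haveI : FaithfulSMul A B := (faithfulSMul_iff_algebraMap_injective _ _).2 fun x y hxy =>
    IsFractionRing.injective A K (congrArg Subtype.val hxy)
  exact genReg_of_finite hB

end Groth.Agent.Lib.Cohen.GenRegInsep
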