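import Groth.Agent.Lib.Cohen.NagataUnramified
import Groth.Agent.Lib.Cohen.NagataFiniteType
import Groth.Agent.Lib.Excellent.FormalFibre
import Groth.Agent.Lib.Excellent.Nagata

/-!
Formal fibres of Nagata local rings are geometrically reduced; essentially finite type algebras
over Nagata rings are Nagata.
-/

set_option autoImplicit false
set_option linter.style.haveILetI false

universe u

open scoped TensorProduct

namespace Groth.Agent.Lib.Cohen.NagataFormalFibres

open Groth.Agent.Lib.Excellent

theorem isReduced_fractionRing_tensor (R B K C : Type u) [CommRing R] [CommRing B] [CommRing C]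
    [IsDomain B] [Field K] [Algebra R B] [Algebra R K] [Algebra B K] [IsScalarTower R B K]
    [IsFractionRing B K] [Algebra R C] [IsReduced (B ⊗[R] C)] : IsReduced (K ⊗[R] C) := by
  letI : Algebra (B ⊗[R] C) (K ⊗[R] C) :=
    (Algebra.TensorProduct.map (IsScalarTower.toAlgHom R B K) (AlgHom.id R C)).toRingHom.toAlgebra
  haveI : IsScalarTower B (B ⊗[R] C) (K ⊗[R] C) := .of_algebraMap_eq fun x => by
    simp [RingHom.algebraMap_toAlgebra]
  haveI := IsLocalization.tensorProduct_tensorProduct R C (nonZeroDivisors B) K
    (by ext; simp [RingHom.algebraMap_toAlgebra])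
  exact isReduced_localizationPreserves (Algebra.algebraMapSubmonoid (B ⊗[R] C)
    (nonZeroDivisors B)) (K ⊗[R] C) inferInstance

theorem isReduced_finPoint (R : Type u) [CommRing R] [IsLocalRing R] [IsNoetherianRing R]
    (hR : CAlg.IsNagata R) (K : Type u) [Field K] [Algebra R K] (hK : FormalFibre.IsFinPoint R K) :
    IsReduced (K ⊗[R] EGA4.Cpl R) := by
  obtain ⟨B, hB, hfr⟩ := hK
  haveI : IsReduced ((B : Type u) ⊗[R] EGA4.Cpl R) :=
    NagataUnramified.isReduced_tensor_of_isNagata R hR B
  exact isReduced_fractionRing_tensor R B K (EGA4.Cpl R)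

/-- A Nagata local ring has geometrically reduced formal fibres. -/
theorem hasGeomReducedFormalFibres_of_isNagata (R : Type u) [CommRing R] [IsLocalRing R]
    [IsNoetherianRing R] (hR : CAlg.IsNagata R) : EGA4.HasGeomReducedFormalFibres R :=
  (FormalFibre.geomReduced_fibres_iff (EGA4.Cpl R)).2 fun K _ _ hK => isReduced_finPoint R hR K hK

theorem isNagata_of_essFiniteType {R S : Type u} [CommRing R] (hR : CAlg.IsNagata R) [CommRing S]
    [Algebra R S] [Algebra.EssFiniteType R S] : CAlg.IsNagata S :=
  Nagata.isNagata_of_isLocalization (Algebra.EssFiniteType.submonoid R S)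
    (NagataFiniteType.isNagata_of_finiteType (R := R) (S := Algebra.EssFiniteType.subalgebra R S) hR)

end Groth.Agent.Lib.Cohen.NagataFormalFibres
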