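import Groth.Agent.Lib.PBasis.Field
import Mathlib.Algebra.CharP.Lemmas
import Mathlib.RingTheory.Adjoin.Field

/-!
# Cofinite subfields containing the `p`-th powers
-/

set_option autoImplicit false
set_option linter.style.haveILetI false

universe u

open EGA41

namespace Groth.Agent.Lib.Cohen.CofiniteSubfields

open Groth.Agent.Lib.PBasis.Field

variable {p : ℕ} [Fact p.Prime] {P K : Type u} [Field P] [Field K] [Algebra P K] [CharP K p]

/-- Exchange: `y ∈ P(K^p, t)` outside `P(K^p, t \ {a})` generates `a`. -/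
theorem mem_FF_of_mem {t : Set K} {a y : K} (hy : y ∈ FF p P t) (hy' : y ∉ FF p P (t \ {a})) :
    a ∈ FF p P ((t \ {a}) ∪ {y}) := by
  set F' := FF p P (t \ {a}) with hF'
  by_cases ha : a ∈ F'
  · exact FF_mono Set.subset_union_left ha
  have hdeg : ∀ z : K, z ∉ F' →
      IsIntegral F' z ∧ Module.finrank F' (IntermediateField.adjoin F' ({z} : Set K)) = p := by
    intro z hz
    have hzp : z ^ p ∈ F' := pow_mem_FF _ z
    have hint : IsIntegral F' z := ⟨Polynomial.X ^ p - Polynomial.C ⟨z ^ p, hzp⟩,
      Polynomial.monic_X_pow_sub_C _ (Fact.out : p.Prime).ne_zero, by simp⟩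
    exact ⟨hint, by
      rw [IntermediateField.adjoin.finrank hint, irreducible_X_pow_sub hz hzp,
        Polynomial.natDegree_X_pow_sub_C]⟩
  obtain ⟨hia, hda⟩ := hdeg a ha
  obtain ⟨-, hdy⟩ := hdeg y hy'
  haveI := IntermediateField.adjoin.finiteDimensional hia
  have hyA : y ∈ IntermediateField.adjoin F' ({a} : Set K) := by
    change y ∈ (IntermediateField.adjoin F' ({a} : Set K)).restrictScalars P
    rw [hF', restrict_adjoin_FF]
    exact FF_mono (by rw [Set.sdiff_union_self]; exact Set.subset_union_left) hy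
  have heq : IntermediateField.adjoin F' ({y} : Set K) = IntermediateField.adjoin F' {a} :=
    IntermediateField.eq_of_le_of_finrank_eq
      (IntermediateField.adjoin_simple_le_iff.2 hyA) (hdy.trans hda.symm)
  have haY : a ∈ (IntermediateField.adjoin F' ({y} : Set K)).restrictScalars P := by
    change a ∈ IntermediateField.adjoin F' ({y} : Set K)
    rw [heq]
    exact IntermediateField.subset_adjoin _ _ rfl
  rwa [hF', restrict_adjoin_FF] at haY

theorem mem_FF_empty {B : Set K} (hB : ∀ a ∈ B, a ∉ FF p P (B \ {a})) (t : Finset K)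
    (ht : (t : Set K) ⊆ B) {y : K} (hy : y ∈ FF p P (t : Set K))
    (hyB : y ∈ FF p P (B \ (t : Set K))) : y ∈ FF p P (∅ : Set K) := by
  classical
  induction t using Finset.induction_on with
  | empty => simpa using hy
  | @insert a t hat ih =>
    rw [Finset.coe_insert, Set.insert_subset_iff] at ht
    rw [Finset.coe_insert] at hy hyB
    refine ih ht.2 ?_ (FF_mono (Set.sdiff_subset_sdiff_right (Set.subset_insert _ _)) hyB)
    by_contra hy'
    have heq : insert a (t : Set K) \ {a} = (t : Set K) := Set.insert_sdiff_self_of_notMem (by simpa using hat)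
    have := mem_FF_of_mem (a := a) hy (by rwa [heq])
    rw [heq] at this
    refine hB a ht.1 (FF_le (Set.union_subset ?_ ?_) this)
    · exact fun z hz => subset_FF _ ⟨ht.2 hz, fun h => hat (by
        have h' : z = a := h
        exact_mod_cast h' ▸ hz)⟩
    · rintro z rfl
      exact FF_mono (fun w hw => (⟨hw.1, fun h => hw.2 (Or.inl h)⟩ : w ∈ B \ {a})) hyB

/-- A directed family of cofinite subfields with intersection the `p`-th powers. -/
theorem exists_family (p : ℕ) [Fact p.Prime] (k : Type u) [Field k] [CharP k p] :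
    ∃ (ι : Type u) (_ : Preorder ι) (_ : IsDirected ι (· ≤ ·)) (_ : Nonempty ι) (F : ι → Subfield k),
      (∀ i j, i ≤ j → F j ≤ F i) ∧ (∀ i, Module.Finite (F i) k) ∧ (∀ i c, c ^ p ∈ F i) ∧
      (∀ y, (∀ i, y ∈ F i) → ∃ c, c ^ p = y) := by
  classical
  let P : Subfield k := (⊥ : Subfield k)
  obtain ⟨B, -, -, hind, hgen⟩ := exists_pBasis (p := p) (k := P) (K := k) Set.univ ∅
    (Set.empty_subset _) isPGenerating_univ (isPIndependent_set_iff (∅ : Set k) |>.2 (by simp))
  have hB := (isPIndependent_set_iff B).1 hind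
  have hgen' : FF p P B = ⊤ := by
    have := isPGenerating_iff_FF.1 hgen
    rwa [Subtype.range_val] at this
  let G : Finset B → IntermediateField P k := fun s => FF p P (B \ Subtype.val '' (s : Set B))
  refine ⟨Finset B, inferInstance, inferInstance, inferInstance, fun s => (G s).toSubfield,
    fun s t hst => ?_, fun s => ?_, fun s c => pow_mem_FF _ c, fun y hy => ?_⟩
  · exact fun z hz => FF_mono (Set.sdiff_subset_sdiff_right (Set.image_mono (Finset.coe_subset.2 hst))) hz
  · have hint : ∀ z ∈ Subtype.val '' (s : Set B), IsIntegral (G s) z := fun z _ =>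
      ⟨Polynomial.X ^ p - Polynomial.C ⟨z ^ p, pow_mem_FF _ z⟩,
        Polynomial.monic_X_pow_sub_C _ (Fact.out : p.Prime).ne_zero, by simp⟩
    haveI : FiniteDimensional (G s) (IntermediateField.adjoin (G s) (Subtype.val '' (s : Set B))) := by
      haveI : Finite (Subtype.val '' (s : Set B) : Set k) := (s.finite_toSet.image _).to_subtype
      exact IntermediateField.finiteDimensional_adjoin hint
    have htop : IntermediateField.adjoin (G s) (Subtype.val '' (s : Set B)) = ⊤ := by
      refine top_le_iff.1 fun z _ => ?_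
      change z ∈ (IntermediateField.adjoin (G s) (Subtype.val '' (s : Set B))).restrictScalars P
      rw [restrict_adjoin_FF, Set.sdiff_union_self]
      exact FF_mono Set.subset_union_left (hgen' ▸ IntermediateField.mem_top)
    rw [htop] at this
    exact Module.Finite.equiv (IntermediateField.topEquiv (F := G s) (E := k)).toLinearEquiv
  · obtain ⟨T, hT, hyT⟩ : ∃ T : Finset k, (T : Set k) ⊆ B ∧ y ∈ FF p P (T : Set k) := by
      have hyB : y ∈ IntermediateField.adjoin P ((Set.range fun z : k => z ^ p) ∪ B) :=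
        show y ∈ FF p P B from hgen' ▸ IntermediateField.mem_top
      obtain ⟨T, hT, hyT⟩ := IntermediateField.exists_finset_of_mem_adjoin hyB
      refine ⟨T.filter (· ∈ B), fun z hz => (Finset.mem_filter.1 hz).2, ?_⟩
      refine IntermediateField.adjoin_le_iff.2 ?_ hyT
      intro z hz
      rcases hT hz with ⟨w, rfl⟩ | hzB
      · exact pow_mem_FF _ w
      · exact subset_FF _ (Finset.mem_filter.2 ⟨hz, hzB⟩)
    have h0 := mem_FF_empty hB T hT hyT (by
      refine FF_mono (fun z hz => ?_) (hy (T.subtype (· ∈ B)))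
      exact ⟨hz.1, fun hzT => hz.2 ⟨⟨z, hz.1⟩, Finset.mem_subtype.2 hzT, rfl⟩⟩)
    have hle : (FF p P (∅ : Set k)).toSubfield ≤ (frobenius k p).fieldRange := by
      change (IntermediateField.adjoin P ((Set.range fun z : k => z ^ p) ∪ ∅)).toSubfield ≤ _
      rw [IntermediateField.adjoin_toSubfield, Subfield.closure_le, Set.union_empty]
      rintro z (⟨w, rfl⟩ | ⟨w, rfl⟩)
      · exact (bot_le : (⊥ : Subfield k) ≤ _) w.2
      · exact ⟨w, rfl⟩
    exact hle h0

end Groth.Agent.Lib.Cohen.CofiniteSubfields
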