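import Groth.Agent.Lib.Cohen.GenRegInsep
import Groth.Agent.Lib.Cohen.CompleteNagata
import Groth.Agent.Lib.Excellent.GenericRegularExt
import Groth.Agent.Lib.Adic.Complete
import Groth.Agent.Lib.Regular.Serre

/-!
# Complete local rings are J-2
-/

set_option autoImplicit false
set_option linter.style.haveILetI false

universe u

open IsLocalRing Groth.Agent.Lib.Excellent.GenericRegular

namespace Groth.Agent.Lib.Cohen.CompleteGenReg

theorem genReg_of_charZero (P A : Type u) [CommRing P] [IsRegularLocalRing P] [CharZero P] [CommRing A]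
    [IsDomain A] [Algebra P A] [Module.Finite P A] [FaithfulSMul P A] : GenReg A := by
  haveI : IsDomain P := Groth.Agent.Lib.Regular.Quotient.isDomain P
  haveI : FaithfulSMul P (FractionRing A) := (faithfulSMul_iff_algebraMap_injective _ _).2 <| by
    rw [IsScalarTower.algebraMap_eq P A (FractionRing A)]
    exact (IsFractionRing.injective A _).comp (FaithfulSMul.algebraMap_injective P A)
  letI : Algebra (FractionRing P) (FractionRing A) := FractionRing.liftAlgebra P (FractionRing A)
  haveI : Module.Finite (FractionRing P) (FractionRing A) :=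
    Module.Finite.of_isLocalization P A (Rₚ := FractionRing P) (Sₚ := FractionRing A) (nonZeroDivisors P)
  haveI : CharZero (FractionRing P) :=
    charZero_of_injective_ringHom (IsFractionRing.injective P (FractionRing P))
  exact genReg_of_isSeparable (P := P) (B := A) (FractionRing P) (FractionRing A)
    ⟨1, one_ne_zero, fun q _ => Groth.Agent.Lib.Regular.Serre.isRegularLocalRing_localization q.asIdeal⟩

/-- Finite domains over complete local rings are generically regular. -/
theorem genReg_of_finite_complete (R : Type u) [CommRing R] [IsLocalRing R] [IsNoetherianRing R]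
    [IsAdicComplete (maximalIdeal R) R] (A : Type u) [CommRing A] [IsDomain A] [Algebra R A]
    [Module.Finite R A] : GenReg A := by
  let q := RingHom.ker (algebraMap R A)
  haveI : q.IsPrime := RingHom.ker_isPrime _
  let R' := R ⧸ q
  haveI : IsDomain R' := Ideal.Quotient.isDomain q
  haveI : IsLocalRing R' := IsLocalRing.of_surjective' _ Ideal.Quotient.mk_surjective
  haveI : IsAdicComplete (maximalIdeal R') R' := by
    have e : (maximalIdeal R).map (Ideal.Quotient.mk q) = maximalIdeal R' := by
      haveI : IsLocalHom (Ideal.Quotient.mk q) := IsLocalHom.of_surjective _ Ideal.Quotient.mk_surjective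
      rw [← IsLocalRing.maximalIdeal_comap (Ideal.Quotient.mk q),
        Ideal.map_comap_of_surjective _ Ideal.Quotient.mk_surjective]
    rw [← e]
    exact Groth.Agent.Lib.Adic.Complete.isAdicComplete_quotient q
  let φ : R' →+* A := RingHom.kerLift (algebraMap R A)
  have hφ : Function.Injective φ := RingHom.kerLift_injective _
  have hφf : φ.Finite := RingHom.Finite.of_comp_finite (f := Ideal.Quotient.mk q)
    (show (φ.comp (Ideal.Quotient.mk q)).Finite from RingHom.finite_algebraMap.2 ‹Module.Finite R A›)
  obtain ⟨Λ, _, n, g, hΛ, hginj, hgfin, -⟩ := CompleteNagata.exists_finite_injective R'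
  letI : Algebra (MvPowerSeries (Fin n) Λ) A := (φ.comp g).toAlgebra
  haveI : Module.Finite (MvPowerSeries (Fin n) Λ) A := hφf.comp hgfin
  haveI : FaithfulSMul (MvPowerSeries (Fin n) Λ) A :=
    (faithfulSMul_iff_algebraMap_injective _ _).2 (hφ.comp hginj)
  rcases hΛ with hΛ | hΛ
  · letI := hΛ.toField
    haveI := (PSRegular.mvPowerSeries Λ n).1
    obtain ⟨p, hp⟩ := CharP.exists Λ
    rcases CharP.char_is_prime_or_zero Λ p with hp' | hp'
    · haveI := Fact.mk hp'
      exact GenRegInsep.genReg_powerSeries p Λ n A
    · subst hp'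
      haveI := CharP.charP_to_charZero Λ
      haveI : CharZero (MvPowerSeries (Fin n) Λ) :=
        charZero_of_injective_ringHom (f := (MvPowerSeries.C : Λ →+* MvPowerSeries (Fin n) Λ))
          MvPowerSeries.C_injective
      exact genReg_of_charZero (MvPowerSeries (Fin n) Λ) A
  · obtain ⟨_, _, -, p, hp, hmax⟩ := hΛ
    haveI := (PSRegular.mvPowerSeries Λ n).1
    haveI : CharZero Λ := by
        refine charZero_of_inj_zero fun m hm => ?_
        by_contra h0
        obtain ⟨e, m', hm', rfl⟩ := Nat.exists_eq_pow_mul_and_not_dvd h0 p hp.ne_one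
        have hirr : Irreducible (p : Λ) := (IsDiscreteValuationRing.irreducible_iff_uniformizer _).2 hmax
        rw [Nat.cast_mul, Nat.cast_pow] at hm
        have hm0 : (m' : Λ) = 0 := (mul_eq_zero.1 hm).resolve_left (pow_ne_zero _ hirr.ne_zero)
        obtain ⟨a, b, hab⟩ := Int.isCoprime_iff_gcd_eq_one.2
          (show Int.gcd (p : ℤ) (m' : ℤ) = 1 from (Nat.Prime.coprime_iff_not_dvd hp).2 hm')
        refine hirr.not_isUnit (IsUnit.of_mul_eq_one (b := (a : Λ)) ?_)
        have := congrArg (Int.cast : ℤ → Λ) hab
        push_cast at this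
        rw [hm0, mul_zero, add_zero] at this
        rw [mul_comm]
        exact this
    haveI : CharZero (MvPowerSeries (Fin n) Λ) :=
      charZero_of_injective_ringHom (f := (MvPowerSeries.C : Λ →+* MvPowerSeries (Fin n) Λ))
        MvPowerSeries.C_injective
    exact genReg_of_charZero (MvPowerSeries (Fin n) Λ) A

/-- A complete Noetherian local ring is J-2. -/
theorem isJ2 (R : Type u) [CommRing R] [IsLocalRing R] [IsNoetherianRing R]
    [IsAdicComplete (maximalIdeal R) R] : EGA4.IsJ2 R :=
  Groth.Agent.Lib.Excellent.GenericRegularExt.isJ2_of_finite_domains R fun A' _ _ _ h =>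
    haveI := h
    genReg_of_finite_complete R A'

/-- The regular locus of a complete Noetherian local ring is open. -/
theorem isOpen_regLocus (R : Type u) [CommRing R] [IsLocalRing R] [IsNoetherianRing R]
    [IsAdicComplete (maximalIdeal R) R] : IsOpen (EGA4.regLocus R) :=
  Groth.Agent.Lib.Excellent.RegLocus.isOpen_regLocus_of_quotients fun p _ =>
    haveI : IsDomain (R ⧸ p.asIdeal) := Ideal.Quotient.isDomain _
    (genReg_iff _).1 (genReg_of_finite_complete R (R ⧸ p.asIdeal))

end Groth.Agent.Lib.Cohen.CompleteGenReg
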