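import Groth.Agent.Lib.Cohen.NagataGlobal

/-!
# Generic normality from purely inseparable extensions
-/

set_option linter.style.haveILetI false

universe u

open Groth.Agent.Lib.Excellent.GenericNormal

namespace Groth.Agent.Lib.Cohen.InsepGenNor

/-- Generic normality passes through a separable roof. -/
theorem genNor_sandwich {D P B C : Type u} [CommRing D] [IsNoetherianRing D] [CommRing P] [IsDomain P]
    [CommRing B] [IsDomain B] [CommRing C] [IsDomain C] [Algebra D P] [Algebra D B] [Algebra D C]
    [Module.Finite D P] [Module.Finite D B] [Module.Finite D C] (gP : P →ₐ[D] C) (gB : B →ₐ[D] C)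
    (hP : Function.Injective gP) (hB : Function.Injective gB) (F N : Type u) [Field F] [Field N]
    [Algebra P F] [IsFractionRing P F] [Algebra C N] [IsFractionRing C N] [Algebra F N]
    [Algebra.IsSeparable F N]
    (hcompat : (algebraMap F N).comp (algebraMap P F) = (algebraMap C N).comp gP.toRingHom)
    (h : GenNor P) : GenNor B := by
  letI : Algebra P C := gP.toRingHom.toAlgebra
  haveI : IsScalarTower D P C := IsScalarTower.of_algebraMap_eq fun c => (gP.commutes c).symm
  haveI : Module.Finite P C := Module.Finite.of_restrictScalars_finite D P C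
  haveI : FaithfulSMul P C := (faithfulSMul_iff_algebraMap_injective _ _).2 hP
  letI : Algebra P N := ((algebraMap F N).comp (algebraMap P F)).toAlgebra
  haveI : IsScalarTower P F N := IsScalarTower.of_algebraMap_eq fun _ => rfl
  haveI : IsScalarTower P C N := IsScalarTower.of_algebraMap_eq' hcompat
  haveI : IsNoetherianRing P := IsNoetherianRing.of_finite D P
  have hC : GenNor C := genNor_of_isSeparable (P := P) (B := C) F N h
  letI : Algebra B C := gB.toRingHom.toAlgebra
  haveI : IsScalarTower D B C := IsScalarTower.of_algebraMap_eq fun c => (gB.commutes c).symm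
  haveI : Module.Finite B C := Module.Finite.of_restrictScalars_finite D B C
  haveI : FaithfulSMul B C := (faithfulSMul_iff_algebraMap_injective _ _).2 hB
  haveI : IsNoetherianRing B := IsNoetherianRing.of_finite D B
  exact genNor_of_finite (S := C) hC

/-- Finite domain extensions are generically normal if the finite purely inseparable ones are. -/
theorem genNor_of_purelyInseparable {D : Type u} [CommRing D] [IsDomain D] [IsNoetherianRing D]
    (h : ∀ (F : Type u) [Field F] [Algebra D F] [Algebra (FractionRing D) F]
      [IsScalarTower D (FractionRing D) F] [FiniteDimensional (FractionRing D) F]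
      [IsPurelyInseparable (FractionRing D) F] (B' : Subalgebra D F),
      Module.Finite D B' → IsFractionRing B' F → GenNor B')
    (B : Type u) [CommRing B] [IsDomain B] [Algebra D B] [Module.Finite D B] [FaithfulSMul D B] :
    GenNor B := by
  classical
  let K := FractionRing D
  let L := FractionRing B
  haveI : FaithfulSMul D L := (faithfulSMul_iff_algebraMap_injective _ _).2 <| by
    rw [IsScalarTower.algebraMap_eq D B L]
    exact (IsFractionRing.injective B L).comp (FaithfulSMul.algebraMap_injective D B)
  letI : Algebra K L := FractionRing.liftAlgebra D L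
  haveI : FiniteDimensional K L := Module.Finite.of_isLocalization D B (nonZeroDivisors D)
  let Ω := AlgebraicClosure L
  let N := IntermediateField.normalClosure K L Ω
  let G := Gal(N/K)
  let F : IntermediateField K N := IntermediateField.fixedField (⊤ : Subgroup G)
  haveI : IsPurelyInseparable K F := by
    refine isPurelyInseparable_iff.2 fun a => ⟨(IsAlgebraic.isIntegral (Algebra.IsAlgebraic.isAlgebraic a)), fun hsep => ?_⟩
    have hmin : minpoly K (a : N) = minpoly K a := minpoly.algebraMap_eq (algebraMap F N).injective a
    have hroot : (minpoly K (a : N)).rootSet N ⊆ {(a : N)} := by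
      intro b hb
      have hb' := (Polynomial.mem_rootSet.1 hb).2
      obtain ⟨σ, hσ⟩ := minpoly.exists_algEquiv_of_root' (Algebra.IsAlgebraic.isAlgebraic (a : N)) hb'
      have ha := (IntermediateField.mem_fixedField_iff _ _).1 a.2
      rw [Set.mem_singleton_iff, ← hσ]
      exact ha σ trivial
    have hcard := Polynomial.card_rootSet_eq_natDegree (K := N) (p := minpoly K (a : N))
      (by rw [hmin]; exact hsep) (Normal.splits inferInstance _)
    have h1 : (minpoly K a).natDegree = 1 := by
      refine le_antisymm ?_ (minpoly.natDegree_pos (IsAlgebraic.isIntegral (Algebra.IsAlgebraic.isAlgebraic a)))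
      rw [← hmin, ← hcard]
      exact (Set.card_le_card hroot).trans (by simp)
    exact minpoly.natDegree_eq_one_iff.1 h1
  haveI : Algebra.IsSeparable F N := by
    haveI : Algebra.IsSeparable (FixedPoints.subfield (⊤ : Subgroup G) N) N := inferInstance
    exact this
  haveI : IsScalarTower D F N := IsScalarTower.of_algebraMap_eq fun r => by
    rw [IsScalarTower.algebraMap_apply D K N, IsScalarTower.algebraMap_apply D K F,
      ← IsScalarTower.algebraMap_apply K F N]
  obtain ⟨B', hB'fin, hB'frac⟩ :=
    Groth.Agent.Lib.Cohen.NagataGlobal.exists_finite_subalgebra (A := D) K F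
  haveI := hB'fin
  haveI := hB'frac
  obtain ⟨C₀, hC₀fin, hC₀frac⟩ :=
    Groth.Agent.Lib.Cohen.NagataGlobal.exists_finite_subalgebra (A := D) K N
  haveI := hC₀fin
  haveI := hC₀frac
  let i : L →ₐ[D] N :=
    ((IsScalarTower.toAlgHom K L Ω).codRestrict N.toSubalgebra fun a =>
      AlgHom.fieldRange_le_normalClosure (IsScalarTower.toAlgHom K L Ω) ⟨a, rfl⟩).restrictScalars D
  let jB : B →ₐ[D] N := i.comp (IsScalarTower.toAlgHom D B L)
  let jF : B' →ₐ[D] N := (IsScalarTower.toAlgHom D F N).comp B'.val
  obtain ⟨C, hCfin, hC0, hCB, hCF⟩ : ∃ C : Subalgebra D N, Module.Finite D C ∧ C₀ ≤ C ∧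
      jB.range ≤ C ∧ jF.range ≤ C := by
    haveI : Module.Finite D jB.range := Module.Finite.range jB.toLinearMap
    haveI : Module.Finite D jF.range := Module.Finite.range jF.toLinearMap
    haveI : Module.Finite D (C₀ ⊔ jB.range : Subalgebra D N) := Subalgebra.finite_sup _ _
    exact ⟨C₀ ⊔ jB.range ⊔ jF.range, Subalgebra.finite_sup _ _, le_sup_left.trans le_sup_left,
      le_sup_right.trans le_sup_left, le_sup_right⟩
  haveI := hCfin
  haveI : IsFractionRing C N := IsFractionRing.of_field C N fun z => by
    obtain ⟨a, b, -, rfl⟩ := IsFractionRing.div_surjective C₀ z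
    exact ⟨⟨a, hC0 a.2⟩,
      ⟨b, hC0 b.2⟩, rfl⟩
  let gB : B →ₐ[D] C := jB.codRestrict C fun b =>
    hCB ⟨b, rfl⟩
  let gF : B' →ₐ[D] C := jF.codRestrict C fun b => hCF ⟨b, rfl⟩
  exact genNor_sandwich gF gB (fun a b hab =>
      Subtype.ext ((algebraMap F N).injective (congrArg (fun z : C => (z : N)) hab)))
    (fun a b hab => IsFractionRing.injective B L (i.toRingHom.injective
      (congrArg (fun z : C => (z : N)) hab)))
    F N (RingHom.ext fun _ => rfl) (h F B' hB'fin hB'frac)

end Groth.Agent.Lib.Cohen.InsepGenNor
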