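import Groth.Agent.Lib.Cohen.Tate
import Groth.Agent.Lib.Excellent.Nagata

/-!
# Reduction of the Japanese property to purely inseparable extensions
-/

set_option linter.style.haveILetI false

universe u

namespace Groth.Agent.Lib.Cohen.InsepReduction

/-- It suffices to bound integral closures in finite subextensions of exponent `e`. -/
theorem isN2_of_pow (R : Type u) [CommRing R] [IsDomain R] [IsNoetherianRing R]
    (h : ∀ (Ω : Type u) [Field Ω] [IsAlgClosed Ω] [Algebra R Ω] [Algebra (FractionRing R) Ω]
      [IsScalarTower R (FractionRing R) Ω] (p e : ℕ) [ExpChar Ω p]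
      (F : IntermediateField (FractionRing R) Ω) [FiniteDimensional (FractionRing R) F],
      (∀ z : F, ∃ k : FractionRing R, algebraMap (FractionRing R) Ω k = (z : Ω) ^ p ^ e) →
      Module.Finite R (integralClosure R F)) : CAlg.IsN2 R := by
  classical
  intro L _ _ _ _ hfin
  let K := FractionRing R
  let p := ringExpChar K
  haveI : ExpChar K p := inferInstance
  let Ω := AlgebraicClosure L
  haveI : ExpChar Ω p := expChar_of_injective_ringHom (algebraMap K Ω).injective p
  -- the normal closure and its purely inseparable part
  let N := IntermediateField.normalClosure K L Ω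
  let G := Gal(N/K)
  let F : IntermediateField K N := IntermediateField.fixedField (⊤ : Subgroup G)
  haveI : IsPurelyInseparable K F := by
    refine isPurelyInseparable_iff.2 fun a => ⟨(IsAlgebraic.isIntegral (Algebra.IsAlgebraic.isAlgebraic a)), fun hsep => ?_⟩
    have hmin : minpoly K (a : N) = minpoly K a := minpoly.algebraMap_eq (algebraMap F N).injective a
    have hroot : (minpoly K (a : N)).rootSet N ⊆ {(a : N)} := by
      intro b hb
      have hb' := (Polynomial.mem_rootSet.1 hb).2
      obtain ⟨σ, hσ⟩ := minpoly.exists_algEquiv_of_root' (Algebra.IsAlgebraic.isAlgebraic (a : N)) hb'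
      have ha := (IntermediateField.mem_fixedField_iff _ _).1 a.2
      rw [Set.mem_singleton_iff, ← hσ]
      exact ha σ trivial
    have hcard := Polynomial.card_rootSet_eq_natDegree (K := N) (p := minpoly K (a : N))
      (by rw [hmin]; exact hsep) (Normal.splits inferInstance _)
    have h1 : (minpoly K a).natDegree = 1 := by
      refine le_antisymm ?_ (minpoly.natDegree_pos (IsAlgebraic.isIntegral (Algebra.IsAlgebraic.isAlgebraic a)))
      rw [← hmin, ← hcard]
      exact (Set.card_le_card hroot).trans (by simp)
    exact minpoly.natDegree_eq_one_iff.1 h1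
  haveI : Algebra.IsSeparable F N := by
    haveI : Algebra.IsSeparable (FixedPoints.subfield (⊤ : Subgroup G) N) N := inferInstance
    exact this
  let e := IsPurelyInseparable.exponent K F
  let j : F →ₐ[K] Ω := N.val.comp F.val
  haveI : FiniteDimensional K j.fieldRange :=
    Module.Finite.equiv (AlgEquiv.ofInjectiveField j).toLinearEquiv
  have hfin' : Module.Finite R (integralClosure R j.fieldRange) := h Ω p e j.fieldRange (by
    rintro ⟨_, a, rfl⟩
    refine ⟨IsPurelyInseparable.iterateFrobenius K F p (le_refl e) a, ?_⟩
    rw [← j.commutes, IsPurelyInseparable.algebraMap_iterateFrobenius, map_pow]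
    rfl)
  let j' : F →ₐ[R] j.fieldRange := (AlgEquiv.ofInjectiveField j).toAlgHom.restrictScalars R
  have hF : Module.Finite R (integralClosure R F) :=
    Groth.Agent.Lib.Cohen.Tate.finite_descend j' hfin'
  haveI : IsScalarTower R F N := IsScalarTower.of_algebraMap_eq fun r => by
    rw [IsScalarTower.algebraMap_apply R K N, IsScalarTower.algebraMap_apply R K F,
      ← IsScalarTower.algebraMap_apply K F N]
  have hN : Module.Finite R (integralClosure R N) := Groth.Agent.Lib.Cohen.Tate.finite_climb R K F N hF
  let i : L →ₐ[R] N :=
    ((IsScalarTower.toAlgHom K L Ω).codRestrict N.toSubalgebra fun a =>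
      AlgHom.fieldRange_le_normalClosure (IsScalarTower.toAlgHom K L Ω) ⟨a, rfl⟩).restrictScalars R
  exact Groth.Agent.Lib.Cohen.Tate.finite_descend i hN

/-- Finiteness of an integral closure from a finite normal model. -/
theorem finite_of_model (A : Type u) [CommRing A] [IsNoetherianRing A] {F Ω : Type u} [Field F]
    [Field Ω] [Algebra A F] [Algebra A Ω] (i : F →ₐ[A] Ω) (T : Type u) [CommRing T] [IsDomain T]
    [IsIntegrallyClosed T] [Algebra A T] [Module.Finite A T] (φ : T →ₐ[A] Ω)
    (hφ : Function.Injective φ) (hF : ∀ z : F, i z ∈ Subfield.closure (Set.range φ)) :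
    Module.Finite A (integralClosure A F) := by
  let Q := FractionRing T
  let ψ : Q →+* Ω := IsFractionRing.lift (A := T) (g := φ.toRingHom) hφ
  have hψ : ∀ t, ψ (algebraMap T Q t) = φ t := fun t => IsFractionRing.lift_algebraMap hφ t
  have hle : Subfield.closure (Set.range φ) ≤ ψ.fieldRange :=
    Subfield.closure_le.2 (by rintro _ ⟨t, rfl⟩; exact ⟨_, hψ t⟩)
  have hmem : ∀ z : integralClosure A F, i z ∈ LinearMap.range φ.toLinearMap := by
    rintro ⟨z, hz⟩
    obtain ⟨w, hw⟩ := hle (hF z)
    let ψA : Q →ₐ[A] Ω :=
      { ψ with
        commutes' := fun a => by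
          change ψ (algebraMap A Q a) = _
          rw [IsScalarTower.algebraMap_apply A T Q, hψ, φ.commutes] }
    have hwi : IsIntegral A w := by
      rw [← isIntegral_algHom_iff ψA ψ.injective]
      change IsIntegral A (ψ w)
      rw [hw]
      exact hz.map i
    obtain ⟨t, ht⟩ := IsIntegrallyClosed.isIntegral_iff.1 (hwi.tower_top (A := T))
    refine ⟨t, ?_⟩
    change φ t = i z
    rw [← hψ, ht, hw]
  haveI : Module.Finite A (LinearMap.range φ.toLinearMap) := Module.Finite.range _
  exact Module.Finite.of_injective
    ((i.toLinearMap.comp (integralClosure A F).toSubmodule.subtype).codRestrict _ hmem)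
    fun a b h => Subtype.ext (i.toRingHom.injective (congrArg Subtype.val h))

end Groth.Agent.Lib.Cohen.InsepReduction
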