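import Groth.Agent.Lib.Cohen.NagataGlobal
import Groth.Agent.Lib.Excellent.NorLocusOpen
import Groth.Agent.H18.N1

/-!
# The N-1 property is local on a domain with a normal open
-/

set_option linter.style.haveILetI false

universe u

namespace Groth.Agent.Lib.Cohen.LocalN1

/-- Generators of an integral closure after localization. -/
theorem exists_finset {A : Type u} [CommRing A] (S : Submonoid A) (Ap : Type u) [CommRing Ap]
    [Algebra A Ap] [IsLocalization S Ap] (L : Type u) [Field L] [Algebra A L] [Algebra Ap L]
    [IsScalarTower A Ap L] (h : Module.Finite Ap (integralClosure Ap L)) :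
    ∃ s : Finset (integralClosure A L), ∀ x : integralClosure A L,
      ∃ t : S, (t : A) • x ∈ Submodule.span A (s : Set (integralClosure A L)) := by
  classical
  obtain ⟨G, hG⟩ := Module.finite_def.1 h
  have hG' : ∀ w : integralClosure Ap L, ∃ m : S, IsIntegral A (m • (w : L)) := fun w =>
    IsIntegral.exists_multiple_integral_of_isLocalization (Rₘ := Ap) S (w : L) w.2
  choose m hm using hG'
  refine ⟨G.image fun w => (⟨m w • (w : L), hm w⟩ : integralClosure A L), fun x => ?_⟩
  set N := Submodule.span A ((G.image fun w => (⟨m w • (w : L), hm w⟩ : integralClosure A L) :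
    Finset _) : Set (integralClosure A L))
  have key : ∀ w : integralClosure Ap L, ∃ t : S, ∃ v ∈ N, (v : L) = (t : A) • (w : L) := by
    intro w
    have hw : w ∈ Submodule.span Ap (G : Set (integralClosure Ap L)) := hG ▸ Submodule.mem_top
    induction hw using Submodule.span_induction with
    | mem w hw =>
      exact ⟨m w, _, Submodule.subset_span (Finset.mem_coe.2 (Finset.mem_image_of_mem _ hw)), rfl⟩
    | zero => exact ⟨1, 0, zero_mem _, by simp⟩
    | add a b _ _ ha hb =>
      obtain ⟨t, v, hv, e⟩ := ha
      obtain ⟨t', v', hv', e'⟩ := hb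
      refine ⟨t * t', (t' : A) • v + (t : A) • v', add_mem (N.smul_mem _ hv) (N.smul_mem _ hv'), ?_⟩
      push_cast
      rw [e, e']
      simp only [Algebra.smul_def, map_mul]
      ring
    | smul r a _ ha =>
      obtain ⟨t, v, hv, e⟩ := ha
      obtain ⟨b, u, rfl⟩ := IsLocalization.exists_mk'_eq S r
      refine ⟨u * t, b • v, N.smul_mem _ hv, ?_⟩
      push_cast
      rw [e]
      have hu := congrArg (algebraMap Ap L) (IsLocalization.mk'_spec' Ap b u)
      rw [map_mul, ← IsScalarTower.algebraMap_apply, ← IsScalarTower.algebraMap_apply] at hu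
      simp only [Algebra.smul_def, map_mul, ← hu]
      ring
  obtain ⟨t, v, hv, e⟩ := key ⟨x, x.2.tower_top⟩
  exact ⟨t, by rw [show (t : A) • x = v from Subtype.ext e.symm]; exact hv⟩

/-- Denominators of integral elements over a domain with a normal basic open. -/
theorem exists_pow_mul {R : Type u} [CommRing R] [IsDomain R] (K : Type u) [Field K] [Algebra R K]
    [IsFractionRing R K] {f : R} (hf : f ≠ 0) (hn : IsIntegrallyClosed (Localization.Away f))
    (x : K) (hx : IsIntegral R x) :
    ∃ n : ℕ, ∃ b, algebraMap R K b = algebraMap R K (f ^ n) * x := by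
  let Rf := Localization.Away f
  haveI : IsDomain Rf := Groth.Agent.Lib.Excellent.GenericNormal.isDomain_away hf
  have hfK : algebraMap R K f ≠ 0 := (map_ne_zero_iff _ (IsFractionRing.injective R K)).2 hf
  letI : Algebra Rf K := (IsLocalization.Away.lift f (g := algebraMap R K) (IsUnit.mk0 _ hfK)).toAlgebra
  haveI : IsScalarTower R Rf K := IsScalarTower.of_algebraMap_eq fun b =>
    (IsLocalization.Away.lift_eq f _ b).symm
  haveI : IsFractionRing Rf K :=
    IsFractionRing.isFractionRing_of_isDomain_of_isLocalization (Submonoid.powers f) Rf K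
  obtain ⟨z, hz⟩ := IsIntegrallyClosed.isIntegral_iff.1 (hx.tower_top (A := Rf))
  obtain ⟨c, ⟨_, n, rfl⟩, rfl⟩ := IsLocalization.exists_mk'_eq (Submonoid.powers f) z
  refine ⟨n, c, ?_⟩
  have hmk := congrArg (algebraMap Rf K)
    (IsLocalization.mk'_spec' Rf c (⟨f ^ n, n, rfl⟩ : Submonoid.powers f))
  rw [map_mul, hz, ← IsScalarTower.algebraMap_apply, ← IsScalarTower.algebraMap_apply] at hmk
  exact hmk.symm

/-- N-1 from a normal open and the localizations at maximal ideals. -/
theorem isN1_of_local (R : Type u) [CommRing R] [IsDomain R] [IsNoetherianRing R] {f : R} (hf : f ≠ 0)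
    (hn : IsIntegrallyClosed (Localization.Away f))
    (hloc : ∀ (m : Ideal R) [m.IsMaximal], CAlg.IsN1 (Localization.AtPrime m)) : CAlg.IsN1 R := by
  classical
  let K := FractionRing R
  refine Groth.Agent.Lib.Excellent.FiniteClosure.finite_integralClosure K f hf
    (Groth.Agent.Lib.Cohen.NagataGlobal.finite_localizedModule _ _ ?_)
    (fun p _ => Groth.Agent.Lib.Cohen.NagataGlobal.finite_localizedModule _ _ ?_)
  · let one : integralClosure R K := 1
    refine ⟨{one}, fun x => ?_⟩
    obtain ⟨n, b, hb⟩ := exists_pow_mul K hf hn x.1 x.2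
    refine ⟨⟨f ^ n, n, rfl⟩, ?_⟩
    rw [show ((f ^ n : R) • x) = b • one from Subtype.ext (by
      change (f ^ n) • (x : K) = b • (1 : K)
      rw [Algebra.smul_def, Algebra.smul_def, mul_one, hb])]
    exact Submodule.smul_mem _ _ (Submodule.subset_span (by simp))
  · obtain ⟨m, hm, hle⟩ := Ideal.exists_le_maximal p Ideal.IsPrime.ne_top'
    haveI := hm
    let Am := Localization.AtPrime m
    haveI : IsDomain Am := IsLocalization.isDomain_localization m.primeCompl_le_nonZeroDivisors
    letI : Algebra Am K := (IsLocalization.map (T := nonZeroDivisors R) K (RingHom.id R)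
      m.primeCompl_le_nonZeroDivisors).toAlgebra
    haveI : IsScalarTower R Am K := IsScalarTower.of_algebraMap_eq fun a =>
      (IsLocalization.map_eq (T := nonZeroDivisors R) (Q := K)
        m.primeCompl_le_nonZeroDivisors (g := RingHom.id R) a).symm
    haveI : IsFractionRing Am K :=
      IsFractionRing.isFractionRing_of_isDomain_of_isLocalization m.primeCompl Am K
    obtain ⟨s, hs⟩ := exists_finset m.primeCompl Am K
      (Groth.Agent.H18.N1.finite_integralClosure_of_isN1 (hloc m) K)
    refine ⟨s, fun x => ?_⟩
    obtain ⟨t, ht⟩ := hs x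
    exact ⟨⟨t, fun h => t.2 (hle h)⟩, ht⟩

/-- Openness of the normal locus from one normal basic open. -/
theorem isOpen_normal {R : Type u} [CommRing R] [IsDomain R] [IsNoetherianRing R] {f : R}
    (hf : f ≠ 0) (hn : IsIntegrallyClosed (Localization.Away f)) :
    IsOpen {p : PrimeSpectrum R | IsIntegrallyClosed (Localization.AtPrime p.asIdeal)} := by
  have : {p : PrimeSpectrum R | IsIntegrallyClosed (Localization.AtPrime p.asIdeal)} =
      EGA4.norLocus R := by
    ext p
    exact ⟨fun h => ⟨inferInstance, h⟩, fun h => h.2⟩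
  rw [this]
  exact Groth.Agent.Lib.Excellent.NorLocusOpen.isOpen_norLocus_of_denominators (FractionRing R) hf
    (exists_pow_mul _ hf hn)

end Groth.Agent.Lib.Cohen.LocalN1
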