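import Groth.Agent.Lib.Cohen.Unramified
import Mathlib.RingTheory.Flat.FaithfullyFlat.Algebra

/-!
The Nagata property descends along faithfully flat maps with geometrically reduced fibres.
-/

set_option linter.style.haveILetI false

universe u

open scoped TensorProduct

namespace Groth.Agent.Lib.Cohen.NagataDescent

theorem isNagata_of_faithfullyFlat (A C : Type u) [CommRing A] [IsNoetherianRing A] [CommRing C]
    [Algebra A C] [Module.FaithfullyFlat A C] (hC : CAlg.IsNagata C)
    (hfib : ∀ (p : Ideal A) [p.IsPrime], Algebra.IsGeometricallyReduced p.ResidueField (p.Fiber C)) :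
    CAlg.IsNagata A := by
  refine ⟨inferInstance, fun p _ => ?_⟩
  intro L _ _ _ _ hfin
  haveI : IsDomain (A ⧸ p) := Ideal.Quotient.isDomain p
  let D := (A ⧸ p) ⊗[A] C
  haveI : Module.FaithfullyFlat (A ⧸ p) D := inferInstance
  have hD : CAlg.IsNagata D :=
    Groth.Agent.Lib.Cohen.Unramified.isNagata_of_surjective
      hC
      (Algebra.TensorProduct.includeRight : C →ₐ[A] D).toRingHom
      (fun z => by
        induction z using TensorProduct.induction_on with
        | zero => exact ⟨0, map_zero _⟩
        | add x y hx hy =>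
          obtain ⟨a, rfl⟩ := hx
          obtain ⟨b, rfl⟩ := hy
          exact ⟨a + b, map_add _ _ _⟩
        | tmul a c =>
          obtain ⟨a, rfl⟩ := Ideal.Quotient.mk_surjective a
          refine ⟨a • c, ?_⟩
          change (1 : A ⧸ p) ⊗ₜ[A] (a • c) = _
          rw [← TensorProduct.smul_tmul]
          congr 1
          change Ideal.Quotient.mk p (a * 1) = _
          rw [mul_one])
  letI : Algebra A L := ((algebraMap (A ⧸ p) L).comp (algebraMap A (A ⧸ p))).toAlgebra
  haveI : IsScalarTower A (A ⧸ p) L := IsScalarTower.of_algebraMap_eq' rfl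
  haveI hred : IsReduced (L ⊗[A] C) := by
    refine (Groth.Agent.Lib.Excellent.FormalFibre.geomReduced_fibres_iff C).1 hfib L ?_
    let e : FractionRing (A ⧸ p) ≃ₐ[A ⧸ p] p.ResidueField := FractionRing.algEquiv (A ⧸ p) p.ResidueField
    letI : Algebra p.ResidueField L :=
      ((algebraMap (FractionRing (A ⧸ p)) L).comp e.symm.toRingEquiv.toRingHom).toAlgebra
    haveI : IsScalarTower A p.ResidueField L := IsScalarTower.of_algebraMap_eq fun a => by
      rw [RingHom.algebraMap_toAlgebra (R := p.ResidueField), RingHom.comp_apply,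
        IsScalarTower.algebraMap_apply A (A ⧸ p) p.ResidueField]
      exact (IsScalarTower.algebraMap_apply (A ⧸ p) (FractionRing (A ⧸ p)) L _).trans
        (congrArg _ (e.symm.commutes _).symm)
    haveI : Module.Finite p.ResidueField L := by
      refine Module.Finite.of_equiv_equiv e.toRingEquiv (RingEquiv.refl L) ?_
      ext x
      simp [RingHom.algebraMap_toAlgebra]
    exact Groth.Agent.Lib.Excellent.FormalFibre.isFinPoint_of_finite p L
  haveI : IsReduced (D ⊗[A ⧸ p] L) := by
    refine isReduced_of_injective ((Algebra.TensorProduct.comm (A ⧸ p) D L).toRingEquiv.trans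
      ((Algebra.TensorProduct.cancelBaseChange A (A ⧸ p) L L C).toRingEquiv)) ?_
    exact RingEquiv.injective _
  exact Groth.Agent.Lib.Cohen.Unramified.finite_of_isReduced_tensor D hD
    (FractionRing (A ⧸ p)) L inferInstance

end Groth.Agent.Lib.Cohen.NagataDescent
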