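import Groth.Agent.Lib.Cohen.NagataUnramified
import Groth.Agent.Lib.Excellent.CompletionFinite
import Groth.Agent.Lib.Excellent.CompletionTopology
import Mathlib.RingTheory.Localization.BaseChange
import Mathlib.RingTheory.LocalProperties.Reduced

/-!
# Nagata local rings through completions
-/

set_option linter.style.haveILetI false

universe u

open scoped TensorProduct
open IsLocalRing

namespace Groth.Agent.Lib.Cohen.NagataLocal

variable (R : Type u) [CommRing R] [IsLocalRing R] [IsNoetherianRing R]

/-- Finiteness of the integral closure in `L` from reducedness of `L ⊗ R̂`. -/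
theorem finite_integralClosure_of_isReduced (p : Ideal R) [p.IsPrime] (L : Type u) [Field L]
    [Algebra (R ⧸ p) L] [Algebra R L] [IsScalarTower R (R ⧸ p) L]
    [Algebra (FractionRing (R ⧸ p)) L] [IsScalarTower (R ⧸ p) (FractionRing (R ⧸ p)) L]
    [FiniteDimensional (FractionRing (R ⧸ p)) L]
    (hred : IsReduced (L ⊗[R] AdicCompletion (maximalIdeal R) R)) :
    Module.Finite (R ⧸ p) (integralClosure (R ⧸ p) L) := by
  haveI : IsDomain (R ⧸ p) := Ideal.Quotient.isDomain p
  let C := AdicCompletion (maximalIdeal R) R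
  let D := (R ⧸ p) ⊗[R] C
  haveI : Module.FaithfullyFlat R C := Module.FaithfullyFlat.of_flat_of_isLocalHom
  haveI : Module.FaithfullyFlat (R ⧸ p) D := inferInstance
  have hD : CAlg.IsNagata D :=
    Groth.Agent.Lib.Cohen.Unramified.isNagata_of_surjective
      (Groth.Agent.Lib.Cohen.Unramified.isNagata_completion R)
      (Algebra.TensorProduct.includeRight : C →ₐ[R] D).toRingHom
      (fun z => by
        induction z using TensorProduct.induction_on with
        | zero => exact ⟨0, map_zero _⟩
        | add x y hx hy =>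
          obtain ⟨a, rfl⟩ := hx
          obtain ⟨b, rfl⟩ := hy
          exact ⟨a + b, map_add _ _ _⟩
        | tmul a c =>
          obtain ⟨a, rfl⟩ := Ideal.Quotient.mk_surjective a
          refine ⟨a • c, ?_⟩
          change (1 : R ⧸ p) ⊗ₜ[R] (a • c) = _
          rw [← TensorProduct.smul_tmul]
          congr 1
          change Ideal.Quotient.mk p (a * 1) = _
          rw [mul_one])
  haveI : IsReduced (D ⊗[R ⧸ p] L) := by
    haveI := hred
    refine isReduced_of_injective ((Algebra.TensorProduct.comm (R ⧸ p) D L).toRingEquiv.trans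
      ((Algebra.TensorProduct.cancelBaseChange R (R ⧸ p) L L C).toRingEquiv)) ?_
    exact RingEquiv.injective _
  exact Groth.Agent.Lib.Cohen.Unramified.finite_of_isReduced_tensor D hD
    (FractionRing (R ⧸ p)) L inferInstance

/-- The completion of a finite local algebra. -/
theorem nonempty_completion_equiv (S : Type u) [CommRing S] [IsLocalRing S] [Algebra R S]
    [Module.Finite R S] :
    Nonempty ((S ⊗[R] AdicCompletion (maximalIdeal R) R) ≃+*
      AdicCompletion (maximalIdeal S) S) := by
  haveI : IsNoetherianRing S := IsNoetherianRing.of_finite R S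
  obtain ⟨h1, k, hk1, hk⟩ := Groth.Agent.Lib.Excellent.CompletionTopology.jacobson_topology
    (maximalIdeal R) (fun M hM => IsLocalRing.eq_maximalIdeal hM) S
  rw [jacobson_eq_maximalIdeal ⊥ bot_ne_top] at h1 hk
  exact ⟨(Groth.Agent.Lib.Excellent.CompletionFinite.completionEquiv (maximalIdeal R) S).toRingEquiv.trans
    (Groth.Agent.Lib.Excellent.CompletionTopology.equivOfPow 1 k
      (by rw [pow_one]; exact h1) hk le_rfl hk1)⟩

/-- A local Nagata domain is analytically unramified, and so are its finite local extensions. -/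
theorem isReduced_completion_of_finite (hR : CAlg.IsNagata R) (S : Type u) [CommRing S] [IsDomain S]
    [IsLocalRing S] [Algebra R S] [Module.Finite R S] :
    IsReduced (AdicCompletion (maximalIdeal S) S) := by
  obtain ⟨e⟩ := nonempty_completion_equiv R S
  haveI := Groth.Agent.Lib.Cohen.NagataUnramified.isReduced_tensor_of_isNagata R hR S
  exact isReduced_of_injective e.symm e.symm.injective

/-- A Noetherian local ring all of whose finite local domains are analytically unramified is Nagata. -/
theorem isNagata_of_forall (h : ∀ (S : Type u) [CommRing S] [IsDomain S] [IsLocalRing S] [Algebra R S]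
    [IsLocalHom (algebraMap R S)] [Module.Finite R S],
    IsReduced (AdicCompletion (maximalIdeal S) S)) : CAlg.IsNagata R := by
  classical
  refine ⟨inferInstance, fun p _ => ?_⟩
  intro L _ _ _ _ hfin
  haveI : IsDomain (R ⧸ p) := Ideal.Quotient.isDomain p
  let C := AdicCompletion (maximalIdeal R) R
  by_cases hpm : maximalIdeal R ≤ p
  · haveI : p.IsMaximal := by
      have e : maximalIdeal R = p :=
        le_antisymm hpm (IsLocalRing.le_maximalIdeal Ideal.IsPrime.ne_top')
      exact e ▸ maximalIdeal.isMaximal R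
    letI := Ideal.Quotient.field p
    exact Groth.Agent.Lib.Excellent.Nagata.isN2_of_field (R ⧸ p) L hfin
  letI : Algebra R L := ((algebraMap (R ⧸ p) L).comp (algebraMap R (R ⧸ p))).toAlgebra
  haveI : IsScalarTower R (R ⧸ p) L := IsScalarTower.of_algebraMap_eq' rfl
  refine finite_integralClosure_of_isReduced R p L ?_
  let K := FractionRing (R ⧸ p)
  let bas := Module.finBasis K L
  have hm : ∀ i, ∃ d : nonZeroDivisors (R ⧸ p), IsIntegral (R ⧸ p) (d • bas i) := fun i =>
    IsIntegral.exists_multiple_integral_of_isLocalization (Rₘ := K) _ (bas i)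
      (Algebra.IsIntegral.isIntegral _)
  choose d hd using hm
  let β := fun i => d i • bas i
  have hβ : ∀ i, IsIntegral R (β i) := fun i => isIntegral_trans (R := R) (A := R ⧸ p) _ (hd i)
  let B := Algebra.adjoin R (Set.range β)
  have hBfin : B.toSubmodule.FG := fg_adjoin_of_finite (Set.finite_range β) (by
    rintro _ ⟨i, rfl⟩; exact hβ i)
  let G : Set L := {y | ∃ a ∈ maximalIdeal R, ∃ z ∈ B, a • z = y}
  let S := Algebra.adjoin R G
  have hSB : S ≤ B := Algebra.adjoin_le fun y ⟨a, _, z, hz, e⟩ => e ▸ B.smul_mem hz a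
  haveI : Module.Finite R B := Module.Finite.iff_fg.2 hBfin
  haveI : Module.Finite R S :=
    Module.Finite.of_injective (Subalgebra.inclusion hSB).toLinearMap
      (Subalgebra.inclusion_injective hSB)
  haveI : Algebra.IsIntegral R S := inferInstance
  have hker : RingHom.ker (algebraMap R L) = p := by
    ext a
    rw [RingHom.mem_ker, IsScalarTower.algebraMap_apply R (R ⧸ p) L,
      IsScalarTower.algebraMap_apply (R ⧸ p) K L, map_eq_zero_iff _ (algebraMap K L).injective,
      map_eq_zero_iff _ (IsFractionRing.injective (R ⧸ p) K)]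
    exact Ideal.Quotient.eq_zero_iff_mem
  -- `S` is local
  let I : Ideal S := (maximalIdeal R).map (algebraMap R S) ⊔ Ideal.span {y : S | (y : L) ∈ G}
  have hIle : ∀ M : Ideal S, M.IsMaximal → I ≤ M := by
    intro M hM
    haveI := hM
    have hMR : M.comap (algebraMap R S) = maximalIdeal R :=
      IsLocalRing.eq_maximalIdeal (Ideal.isMaximal_comap_of_isIntegral_of_isMaximal M)
    refine sup_le (Ideal.map_le_iff_le_comap.2 hMR.ge) (Ideal.span_le.2 fun y hy => ?_)
    obtain ⟨a, ha, z, hz, e⟩ := hy
    refine hM.isPrime.mem_of_pow_mem 2 ?_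
    have hazz : (a • (z * z)) ∈ S := Algebra.subset_adjoin ⟨a, ha, z * z, mul_mem hz hz, rfl⟩
    have h2 : y ^ 2 = algebraMap R S a * ⟨_, hazz⟩ := Subtype.ext (by
      change (y : L) ^ 2 = algebraMap R L a * (a • (z * z))
      rw [← e]
      simp only [Algebra.smul_def]
      ring)
    rw [h2]
    exact Ideal.mul_mem_right _ _ (hMR.ge ha)
  have hI : ∀ s : S, ∃ r : R, s - algebraMap R S r ∈ I := by
    rintro ⟨s, hs⟩
    induction hs using Algebra.adjoin_induction with
    | mem y hy =>
      exact ⟨0, by rw [map_zero, sub_zero]; exact Ideal.mem_sup_right (Ideal.subset_span hy)⟩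
    | algebraMap r => exact ⟨r, by convert zero_mem I; exact sub_eq_zero.2 (Subtype.ext rfl)⟩
    | add x y hx hy ihx ihy =>
      obtain ⟨r, hr⟩ := ihx
      obtain ⟨t, ht⟩ := ihy
      refine ⟨r + t, ?_⟩
      convert add_mem hr ht using 1
      rw [map_add]
      exact Subtype.ext (by push_cast; ring)
    | mul x y hx hy ihx ihy =>
      obtain ⟨r, hr⟩ := ihx
      obtain ⟨t, ht⟩ := ihy
      refine ⟨r * t, ?_⟩
      convert add_mem (Ideal.mul_mem_right (⟨y, hy⟩ : S) _ hr)
        (Ideal.mul_mem_left _ (algebraMap R S r) ht) using 1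
      rw [map_mul]
      exact Subtype.ext (by push_cast; ring)
  haveI : Nontrivial S := inferInstance
  haveI : IsLocalRing S := by
    refine IsLocalRing.of_nonunits_add fun a b ha hb hab => ?_
    obtain ⟨M, hM, haM⟩ := exists_max_ideal_of_mem_nonunits ha
    obtain ⟨N, hN, hbN⟩ := exists_max_ideal_of_mem_nonunits hb
    have hmax : ∀ P : Ideal S, P.IsMaximal → ∀ s, s ∈ P → s ∈ I := by
      intro P hP s hs
      haveI := hP
      obtain ⟨r, hr⟩ := hI s
      have hrP : algebraMap R S r ∈ P := by
        convert sub_mem hs (hIle P hP hr) using 1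
        ring
      have hrm : r ∈ maximalIdeal R := by
        rw [← IsLocalRing.eq_maximalIdeal (Ideal.isMaximal_comap_of_isIntegral_of_isMaximal
          (R := R) P)]
        exact hrP
      convert add_mem hr (Ideal.mem_sup_left (Ideal.mem_map_of_mem (algebraMap R S) hrm) : _ ∈ I)
        using 1
      ring
    exact hM.ne_top (M.eq_top_of_isUnit_mem (hIle M hM (add_mem (hmax M hM a haM) (hmax N hN b hbN))) hab)
  haveI : IsLocalHom (algebraMap R S) := by
    refine ⟨fun a ha => ?_⟩
    by_contra hu
    refine (IsLocalRing.maximalIdeal.isMaximal S).ne_top (Ideal.eq_top_of_isUnit_mem _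
      (hIle _ (IsLocalRing.maximalIdeal.isMaximal S) (Ideal.mem_sup_left
        (Ideal.mem_map_of_mem (algebraMap R S) ((mem_maximalIdeal a).2 hu)))) ha)
  haveI := h S
  obtain ⟨e⟩ := nonempty_completion_equiv R S
  haveI : IsReduced (S ⊗[R] C) := isReduced_of_injective e e.injective
  -- `L` is the fraction field of `S`
  obtain ⟨c, hcm, hcp⟩ := SetLike.not_le_iff_exists.1 hpm
  have hcL : algebraMap R L c ≠ 0 := fun h0 => hcp (hker ▸ RingHom.mem_ker.2 h0)
  let F : IntermediateField K L := IntermediateField.adjoin K (S : Set L)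
  haveI : IsFractionRing S L := by
    refine IsFractionRing.of_field S L fun z => ?_
    have hdiv : ∀ z : L, ∃ a b : S, (b : L) ≠ 0 ∧ z * b = a := by
      intro z
      obtain ⟨s, hs⟩ := IsLocalization.exist_integer_multiples (nonZeroDivisors (R ⧸ p)) Finset.univ
        (fun i => bas.repr z i * (algebraMap (R ⧸ p) K (d i))⁻¹)
      choose r hr using fun i => hs i (Finset.mem_univ i)
      obtain ⟨s', hs'⟩ := Ideal.Quotient.mk_surjective (s : R ⧸ p)
      have hsL : algebraMap R L s' ≠ 0 := fun h0 => nonZeroDivisors.coe_ne_zero s (by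
        rw [← hs', Ideal.Quotient.eq_zero_iff_mem, ← hker]; exact h0)
      have hnum : c • (algebraMap R L s' * z) ∈ S := by
        refine Algebra.subset_adjoin ⟨c, hcm, _, ?_, rfl⟩
        rw [← bas.sum_repr z, Finset.mul_sum]
        refine sum_mem fun i _ => ?_
        obtain ⟨r', hr'⟩ := Ideal.Quotient.mk_surjective (r i)
        have h1 : algebraMap R L s' * (bas.repr z i • bas i) = r' • β i := by
          have hd0 : algebraMap (R ⧸ p) K (d i) ≠ 0 :=
            IsFractionRing.to_map_ne_zero_of_mem_nonZeroDivisors (d i).2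
          rw [IsScalarTower.algebraMap_apply R (R ⧸ p) L, Ideal.Quotient.algebraMap_eq, hs',
            Algebra.smul_def, Algebra.smul_def r', IsScalarTower.algebraMap_apply R (R ⧸ p) L,
            Ideal.Quotient.algebraMap_eq, hr']
          change _ = algebraMap (R ⧸ p) L (r i) * ((d i : R ⧸ p) • bas i)
          rw [Algebra.smul_def (d i : R ⧸ p), IsScalarTower.algebraMap_apply (R ⧸ p) K L,
            IsScalarTower.algebraMap_apply (R ⧸ p) K L (r i),
            IsScalarTower.algebraMap_apply (R ⧸ p) K L (d i : R ⧸ p), hr, Algebra.smul_def,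
            map_mul, map_mul]
          have hdL : algebraMap K L (algebraMap (R ⧸ p) K (d i)) ≠ 0 := by
            rwa [map_ne_zero_iff _ (algebraMap K L).injective]
          rw [map_inv₀]
          field_simp
        rw [h1]
        exact B.smul_mem (Algebra.subset_adjoin ⟨i, rfl⟩) r'
      refine ⟨⟨_, hnum⟩, ⟨c • algebraMap R L s', ?_⟩, ?_, ?_⟩
      · exact Algebra.subset_adjoin ⟨c, hcm, _, B.algebraMap_mem s', rfl⟩
      · change c • algebraMap R L s' ≠ 0
        rw [Algebra.smul_def]; exact mul_ne_zero hcL hsL
      · change z * (c • algebraMap R L s') = c • (algebraMap R L s' * z)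
        simp only [Algebra.smul_def]; ring
    obtain ⟨a, b, hb, e⟩ := hdiv z
    exact ⟨a, b, by change z = (a : L) / (b : L); rw [← e, mul_div_cancel_right₀ z hb]⟩
  -- `L ⊗ C` is a localization of `S ⊗ C`
  haveI : IsReduced (L ⊗[S] (S ⊗[R] C)) := by
    haveI : IsLocalization (Algebra.algebraMapSubmonoid (S ⊗[R] C) (nonZeroDivisors S))
        ((S ⊗[R] C) ⊗[S] L) := inferInstance
    haveI : IsReduced ((S ⊗[R] C) ⊗[S] L) :=
      isReduced_localizationPreserves (R := S ⊗[R] C) (Algebra.algebraMapSubmonoid (S ⊗[R] C) (nonZeroDivisors S)) ((S ⊗[R] C) ⊗[S] L) inferInstance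
    exact isReduced_of_injective (Algebra.TensorProduct.comm S L (S ⊗[R] C))
      (AlgEquiv.injective _)
  exact isReduced_of_injective (Algebra.TensorProduct.cancelBaseChange R S L L C).symm.toRingEquiv
    (RingEquiv.injective _)

end Groth.Agent.Lib.Cohen.NagataLocal
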