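import Groth.Agent.Lib.Cohen.Principal
import Groth.Agent.Lib.Cohen.Bridge
import Mathlib.RingTheory.Algebraic.Integral

/-!
# Algebraic monogenic extensions of Nagata domains: the local step
-/

set_option linter.style.haveILetI false

universe u

open scoped TensorProduct
open IsLocalRing Polynomial

namespace Groth.Agent.Lib.Cohen.OneGen

theorem isReduced_completion_of_equiv {R S : Type u} [CommRing R] [IsLocalRing R] [IsNoetherianRing R]
    [CommRing S] [IsLocalRing S] (e : R ≃+* S)
    (h : IsReduced (AdicCompletion (maximalIdeal R) R)) :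
    IsReduced (AdicCompletion (maximalIdeal S) S) := by
  letI : Algebra R S := e.toRingHom.toAlgebra
  haveI : Module.Finite R S := Module.Finite.of_surjective (Algebra.linearMap R S) e.surjective
  obtain ⟨E⟩ := Groth.Agent.Lib.Cohen.NagataLocal.nonempty_completion_equiv R S
  let e' : R ≃ₐ[R] S := AlgEquiv.ofRingEquiv (f := e) fun _ => rfl
  let F := ((Algebra.TensorProduct.congr e'.symm
    (AlgEquiv.refl (R := R) (A₁ := AdicCompletion (maximalIdeal R) R))).trans
    (Algebra.TensorProduct.lid R (AdicCompletion (maximalIdeal R) R))).toRingEquiv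
  haveI := h
  haveI : IsReduced (S ⊗[R] AdicCompletion (maximalIdeal R) R) :=
    isReduced_of_injective F (RingEquiv.injective _)
  exact isReduced_of_injective E.symm (RingEquiv.injective _)

/-- Two presentations of a local ring inside a field. -/
theorem nonempty_equiv_localization {B B1 : Type u} [CommRing B] [IsDomain B] [CommRing B1] [IsDomain B1]
    (M : Ideal B) [M.IsPrime] (ι : B1 →+* Localization.AtPrime M) (hι : Function.Injective ι)
    (M1 : Ideal B1) [M1.IsPrime] (hM1 : M1 = (maximalIdeal (Localization.AtPrime M)).comap ι)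
    (hfrac : ∀ b : B, ∃ u t : B1, t ∉ M1 ∧ algebraMap B (Localization.AtPrime M) b * ι t = ι u) :
    Nonempty (Localization.AtPrime M1 ≃+* Localization.AtPrime M) := by
  let BM := Localization.AtPrime M
  have hu : ∀ t : M1.primeCompl, IsUnit (ι t) := fun t => by
    by_contra h
    exact t.2 (hM1 ▸ ((mem_maximalIdeal _).2 h : ι t ∈ maximalIdeal BM))
  let ψ : Localization.AtPrime M1 →+* BM := IsLocalization.lift (M := M1.primeCompl) hu
  refine ⟨RingEquiv.ofBijective ψ ⟨(IsLocalization.lift_injective_iff _).2 fun x y => ?_, fun z => ?_⟩⟩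
  · exact ⟨fun h => congrArg ι (IsLocalization.injective (Localization.AtPrime M1)
      M1.primeCompl_le_nonZeroDivisors h), fun h => congrArg _ (hι h)⟩
  · obtain ⟨b, s, rfl⟩ := IsLocalization.exists_mk'_eq M.primeCompl z
    obtain ⟨ub, tb, htb, hb⟩ := hfrac b
    obtain ⟨us, ts, hts, hs⟩ := hfrac (s : B)
    have hus : us ∉ M1 := fun hmem => by
      rw [hM1, Ideal.mem_comap, ← hs] at hmem
      exact (mem_maximalIdeal _).1 hmem
        ((IsLocalization.map_units BM s).mul (hu ⟨ts, hts⟩))
    refine ⟨IsLocalization.mk' _ (ub * ts) (⟨tb * us, M1.primeCompl.mul_mem htb hus⟩ : M1.primeCompl), ?_⟩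
    rw [IsLocalization.lift_mk'_spec]
    change ι (ub * ts) = ι (tb * us) * _
    rw [map_mul, map_mul, ← hb, ← hs]
    have h := IsLocalization.mk'_spec BM b s
    rw [← h]
    ring

/-- The local rings of the finite model are analytically unramified. -/
theorem isReduced_completion_model {R0 R S A B L : Type u} [CommRing R0] [IsLocalRing R0]
    [CommRing R] [IsDomain R] [IsIntegrallyClosed R] [CommRing S] [CommRing A] [IsLocalRing A]
    [CommRing B] [IsDomain B] [Field L] [Algebra R0 R] [Algebra.IsIntegral R0 R] (hR : CAlg.IsNagata R)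
    [Algebra R L] [IsFractionRing R L] [Algebra R0 S] [Algebra S A] (P : Ideal S) [P.IsPrime]
    [IsLocalization.AtPrime A P] (hP : P.comap (algebraMap R0 S) = maximalIdeal R0)
    (x : S) (hgen : Algebra.adjoin R0 {x} = ⊤) (f : R0[X]) (hfP : aeval x f ∈ P) (hfm : f.Monic)
    (hsplit : ∀ σ : R0 →+* L, σ = (algebraMap R L).comp (algebraMap R0 R) → (f.map σ).Splits)
    [Algebra A B] [Algebra.IsIntegral A B] (jR : R →+* B) (G : Set B) (hG : Algebra.adjoin A G = ⊤)
    (hGR : G ⊆ Set.range jR)
    (hcompat : jR.comp (algebraMap R0 R) = ((algebraMap A B).comp (algebraMap S A)).comp (algebraMap R0 S))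
    (j : B →+* L) (hj : Function.Injective j) (hjR : j.comp jR = algebraMap R L)
    (M : Ideal B) [hM : M.IsMaximal] :
    IsReduced (AdicCompletion (maximalIdeal (Localization.AtPrime M)) (Localization.AtPrime M)) := by
  classical
  let σ : R0 →+* B := ((algebraMap A B).comp (algebraMap S A)).comp (algebraMap R0 S)
  let ξ : B := algebraMap A B (algebraMap S A x)
  have hMA : M.comap (algebraMap A B) = maximalIdeal A :=
    IsLocalRing.eq_maximalIdeal (Ideal.isMaximal_comap_of_isIntegral_of_isMaximal M)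
  have hMS : ∀ s : S, algebraMap A B (algebraMap S A s) ∈ M ↔ s ∈ P := fun s => by
    rw [← Ideal.mem_comap, hMA, IsLocalization.AtPrime.to_map_mem_maximal_iff A P s]
  let m := M.comap jR
  haveI : m.IsPrime := Ideal.IsPrime.comap _
  have hm0 : m.comap (algebraMap R0 R) = maximalIdeal R0 := by
    rw [← hP]
    ext a
    change jR (algebraMap R0 R a) ∈ M ↔ algebraMap R0 S a ∈ P
    rw [← hMS, ← RingHom.comp_apply jR, hcompat]
    rfl
  haveI hmmax : m.IsMaximal :=
    Ideal.isMaximal_of_isIntegral_of_isMaximal_comap (R := R0) m (hm0 ▸ maximalIdeal.isMaximal R0)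
  -- `ξ - r ∈ M` for a root `r` of `f`
  obtain ⟨r, hr⟩ : ∃ r : R, ξ - jR r ∈ M := by
    let τ : R0 →+* L := (algebraMap R L).comp (algebraMap R0 R)
    have hτ : j.comp σ = τ := by
      rw [show σ = jR.comp (algebraMap R0 R) from hcompat.symm, ← RingHom.comp_assoc, hjR]
    have hroots : ∀ a ∈ (f.map τ).roots, ∃ r : R, algebraMap R L r = a := by
      intro a ha
      rw [Polynomial.mem_roots ((hfm.map τ).ne_zero), Polynomial.IsRoot, Polynomial.eval_map] at ha
      refine IsIntegrallyClosed.isIntegral_iff.1 ⟨f.map (algebraMap R0 R), hfm.map _, ?_⟩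
      rwa [Polynomial.eval₂_map]
    choose! root hroot using hroots
    have hfx : Polynomial.eval₂ σ ξ f ∈ M := by
      have h1 := Polynomial.hom_eval₂ f (algebraMap R0 S) ((algebraMap A B).comp (algebraMap S A)) x
      refine (show Polynomial.eval₂ σ ξ f = _ from h1.symm) ▸ (hMS _).2 ?_
      rwa [← Polynomial.aeval_def]
    have hfac : j (Polynomial.eval₂ σ ξ f) =
        j (((f.map τ).roots.map fun a => ξ - jR (root a)).prod) := by
      rw [Polynomial.hom_eval₂, hτ, ← Polynomial.eval_map]
      conv_lhs => rw [(hsplit τ rfl).eq_prod_roots_of_monic (hfm.map τ)]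
      rw [Polynomial.eval_multiset_prod, map_multiset_prod, Multiset.map_map, Multiset.map_map]
      refine congrArg Multiset.prod (Multiset.map_congr rfl fun a ha => ?_)
      simp only [Function.comp_apply, Polynomial.eval_sub, Polynomial.eval_X, Polynomial.eval_C,
        map_sub]
      rw [← RingHom.comp_apply j jR, hjR, hroot a ha]
    rw [hj hfac] at hfx
    obtain ⟨t, ht, htM⟩ := (hM.isPrime.multiset_prod_mem_iff_exists_mem _).1 hfx
    obtain ⟨a, -, rfl⟩ := Multiset.mem_map.1 ht
    exact ⟨root a, htM⟩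
  -- the model
  let Rm := Localization.AtPrime m
  haveI : IsDomain Rm := IsLocalization.isDomain_localization m.primeCompl_le_nonZeroDivisors
  haveI : IsIntegrallyClosed Rm :=
    isIntegrallyClosed_of_isLocalization Rm m.primeCompl m.primeCompl_le_nonZeroDivisors
  have hNm : CAlg.IsNagata Rm := Groth.Agent.Lib.Excellent.Nagata.isNagata_of_isLocalization m.primeCompl hR
  haveI := hNm.1
  have huL : ∀ t : m.primeCompl, IsUnit (algebraMap R L t) := fun t =>
    IsUnit.mk0 _ ((map_ne_zero_iff _ (IsFractionRing.injective R L)).2 fun h => t.2 (h ▸ m.zero_mem))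
  letI : Algebra Rm L := (IsLocalization.lift (M := m.primeCompl) huL).toAlgebra
  haveI : IsScalarTower R Rm L := IsScalarTower.of_algebraMap_eq fun a =>
    (IsLocalization.lift_eq huL a).symm
  haveI : IsFractionRing Rm L :=
    IsFractionRing.isFractionRing_of_isDomain_of_isLocalization m.primeCompl Rm L
  let y : L := j (ξ - jR r)
  let B1 := Algebra.adjoin Rm ({y} : Set L)
  -- the comparison with `B_M`
  let BM := Localization.AtPrime M
  have hj0 : ∀ s : M.primeCompl, IsUnit (j s) := fun s =>
    IsUnit.mk0 _ ((map_ne_zero_iff _ hj).2 fun h => s.2 (h ▸ M.zero_mem))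
  let ρ : BM →+* L := IsLocalization.lift (M := M.primeCompl) hj0
  have hρb : ∀ b : B, ρ (algebraMap B BM b) = j b := fun b => IsLocalization.lift_eq hj0 b
  have hρ : Function.Injective ρ := (IsLocalization.lift_injective_iff _).2 fun a b =>
    ⟨fun h => congrArg j (IsLocalization.injective BM M.primeCompl_le_nonZeroDivisors h),
      fun h => congrArg _ (hj h)⟩
  have hRmρ : ∀ z : Rm, algebraMap Rm L z ∈ ρ.range := by
    intro z
    obtain ⟨a, s, rfl⟩ := IsLocalization.exists_mk'_eq m.primeCompl z
    refine ⟨IsLocalization.mk' BM (jR a) (⟨jR s, s.2⟩ : M.primeCompl), ?_⟩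
    refine (huL s).mul_left_injective ?_
    change _ * algebraMap R L s = _ * algebraMap R L s
    rw [IsScalarTower.algebraMap_apply R Rm L (s : R), ← map_mul (algebraMap Rm L),
      IsLocalization.mk'_spec, ← IsScalarTower.algebraMap_apply, ← IsScalarTower.algebraMap_apply,
      ← hjR, RingHom.comp_apply, RingHom.comp_apply, ← hρb, ← hρb, ← map_mul ρ]
    exact congrArg ρ (IsLocalization.mk'_spec BM (jR a) (⟨jR s, s.2⟩ : M.primeCompl))
  have hB1ρ : ∀ u ∈ B1, u ∈ ρ.range := by
    intro u hu
    induction hu using Algebra.adjoin_induction with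
    | mem v hv => exact ⟨algebraMap B BM (ξ - jR r), by rw [Set.mem_singleton_iff.1 hv]; exact hρb _⟩
    | algebraMap z => exact hRmρ z
    | add a b _ _ ha hb => exact add_mem ha hb
    | mul a b _ _ ha hb => exact mul_mem ha hb
  choose ι₀ hι₀ using fun u : B1 => hB1ρ u u.2
  let ι : B1 →+* BM :=
    { toFun := ι₀
      map_one' := hρ (by rw [hι₀, map_one]; rfl)
      map_mul' := fun a b => hρ (by rw [map_mul, hι₀, hι₀, hι₀]; rfl)
      map_zero' := hρ (by rw [hι₀, map_zero]; rfl)
      map_add' := fun a b => hρ (by rw [map_add, hι₀, hι₀, hι₀]; rfl) }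
  have hι : ∀ u, ρ (ι u) = u := hι₀
  let M1 : Ideal B1 := (maximalIdeal BM).comap ι
  haveI : M1.IsPrime := Ideal.IsPrime.comap _
  have hy : y ∈ B1 := Algebra.self_mem_adjoin_singleton Rm y
  have hιy : ι ⟨y, hy⟩ = algebraMap B BM (ξ - jR r) := hρ (by rw [hι, hρb])
  have hyM : (⟨y, hy⟩ : B1) ∈ M1 := by
    rw [Ideal.mem_comap, hιy]
    exact (IsLocalization.AtPrime.to_map_mem_maximal_iff BM M _).2 hr
  have hRι : ∀ a : R, ι (algebraMap Rm B1 (algebraMap R Rm a)) = algebraMap B BM (jR a) := fun a =>
    hρ (by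
      rw [hι, hρb, ← RingHom.comp_apply j jR, hjR]
      exact (IsScalarTower.algebraMap_apply R Rm L a).symm)
  have hMR : M1.comap (algebraMap Rm B1) = maximalIdeal Rm := by
    haveI : (M1.comap (algebraMap Rm B1)).IsPrime := Ideal.IsPrime.comap _
    refine ((maximalIdeal.isMaximal Rm).eq_of_le (Ideal.IsPrime.ne_top' ) ?_).symm
    rw [← IsLocalization.map_under m.primeCompl Rm (maximalIdeal Rm), Ideal.map_le_iff_le_comap]
    intro a ha
    change ι (algebraMap Rm B1 (algebraMap R Rm a)) ∈ maximalIdeal BM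
    rw [hRι]
    exact (IsLocalization.AtPrime.to_map_mem_maximal_iff BM M _).2
      ((IsLocalization.AtPrime.to_map_mem_maximal_iff Rm m a).1 ha)
  have hred := Groth.Agent.Lib.Cohen.Principal.isReduced_completion Rm hNm L y B1 rfl M1 hy hyM hMR
  -- every element of `B` is a fraction
  let P' : B → Prop := fun b => ∃ u t : B1, t ∉ M1 ∧ algebraMap B BM b * ι t = ι u
  have h1 : (1 : B1) ∉ M1 := fun h => ‹M1.IsPrime›.ne_top ((Ideal.eq_top_iff_one _).2 h)
  have hof : ∀ (b : B) (u : B1), ι u = algebraMap B BM b → P' b := fun b u h =>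
    ⟨u, 1, h1, by rw [map_one, mul_one, h]⟩
  have hadd : ∀ a b, P' a → P' b → P' (a + b) := by
    rintro a b ⟨u, t, ht, ha⟩ ⟨v, s, hs, hb⟩
    refine ⟨u * s + v * t, t * s, fun h => (‹M1.IsPrime›.mem_or_mem h).elim ht hs, ?_⟩
    rw [map_add, map_add, map_mul, map_mul, map_mul, ← ha, ← hb]; ring
  have hmul : ∀ a b, P' a → P' b → P' (a * b) := by
    rintro a b ⟨u, t, ht, ha⟩ ⟨v, s, hs, hb⟩
    refine ⟨u * v, t * s, fun h => (‹M1.IsPrime›.mem_or_mem h).elim ht hs, ?_⟩
    rw [map_mul, map_mul, map_mul, ← ha, ← hb]; ring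
  have hjRP : ∀ a : R, P' (jR a) := fun a => hof _ _ (hRι a)
  have hS : ∀ s : S, P' (algebraMap A B (algebraMap S A s)) := by
    intro s
    have hs : s ∈ Algebra.adjoin R0 {x} := hgen ▸ Algebra.mem_top
    induction hs using Algebra.adjoin_induction with
    | mem v hv =>
      rw [Set.mem_singleton_iff.1 hv]
      have : ξ = (ξ - jR r) + jR r := by ring
      change P' ξ
      rw [this]
      exact hadd _ _ (hof _ _ hιy) (hjRP r)
    | algebraMap a =>
      have : algebraMap A B (algebraMap S A (algebraMap R0 S a)) = jR (algebraMap R0 R a) :=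
        (RingHom.congr_fun hcompat a).symm
      rw [this]; exact hjRP _
    | add a b _ _ ha hb => rw [map_add, map_add]; exact hadd _ _ ha hb
    | mul a b _ _ ha hb => rw [map_mul, map_mul]; exact hmul _ _ ha hb
  have hA : ∀ a : A, P' (algebraMap A B a) := by
    intro a
    obtain ⟨s, s', rfl⟩ := IsLocalization.exists_mk'_eq P.primeCompl a
    obtain ⟨u, t, ht, hu⟩ := hS s
    obtain ⟨v, t', ht', hv⟩ := hS s'
    have hvM : v ∉ M1 := by
      intro h
      rw [Ideal.mem_comap, ← hv] at h
      rcases (maximalIdeal.isMaximal BM).isPrime.mem_or_mem h with h | h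
      · exact s'.2 ((hMS _).1 ((IsLocalization.AtPrime.to_map_mem_maximal_iff BM M _).1 h))
      · exact ht' h
    refine ⟨u * t', t * v, fun h => (‹M1.IsPrime›.mem_or_mem h).elim ht hvM, ?_⟩
    rw [map_mul, map_mul, ← hu, ← hv, ← IsLocalization.mk'_spec A s s', map_mul (algebraMap A B),
      map_mul (algebraMap B BM)]
    ring
  obtain ⟨e⟩ := nonempty_equiv_localization M ι (fun a b h => Subtype.ext (by rw [← hι, ← hι, h]))
    M1 rfl fun b => by
      have hb : b ∈ Algebra.adjoin A G := hG ▸ Algebra.mem_top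
      induction hb using Algebra.adjoin_induction with
      | mem v hv => obtain ⟨a, rfl⟩ := hGR hv; exact hjRP a
      | algebraMap a => exact hA a
      | add a b _ _ ha hb => exact hadd _ _ ha hb
      | mul a b _ _ ha hb => exact hmul _ _ ha hb
  haveI : IsNoetherianRing B1 := by
    haveI : Algebra.FiniteType Rm B1 := by
      rw [← Subalgebra.fg_iff_finiteType]
      exact ⟨{y}, by rw [Finset.coe_singleton]⟩
    exact Algebra.FiniteType.isNoetherianRing Rm B1
  exact isReduced_completion_of_equiv e hred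

end Groth.Agent.Lib.Cohen.OneGen
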