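import Groth.Agent.Lib.PBasis.Basic
import Mathlib.RingTheory.LocalRing.ResidueField.Basic
import Mathlib.Algebra.CharP.Lemmas

/-!
# The subrings generated by `p^j`-th powers and lifts of a p-basis

If `b` lifts a p-basis of the residue field of a local ring with `p` in the maximal ideal `m`, the
subring `U j` generated by `b` and all `p^j`-th powers satisfies `U j ∩ m ⊆ p * U j + m^(j+1)`.
-/

universe u

open IsLocalRing EGA41 Groth.Agent.Lib.PBasis.Basic

namespace Groth.Agent.Lib.Cohen.Powers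

variable {R : Type u} [CommRing R] (p : ℕ) {ι : Type u} (b : ι → R)

/-- `b` lifts a p-basis of the residue field. -/
structure IsPLift [IsLocalRing R] : Prop where
  natCast_mem : (p : R) ∈ maximalIdeal R
  indep : ∀ c : Exp p ι →₀ ResidueField R,
    (c.sum fun e a => a ^ p * pMonomial (fun i => residue R (b i)) e.1) = 0 → c = 0
  gen : ∀ z : ResidueField R, ∃ c : Exp p ι →₀ ResidueField R,
    (c.sum fun e a => a ^ p * pMonomial (fun i => residue R (b i)) e.1) = z

/-- The subring generated by `b` and the `p^j`-th powers. -/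
def U (j : ℕ) : Subring R :=
  Subring.closure (Set.range (fun y : R => y ^ p ^ j) ∪ Set.range b)

/-- The subring generated by the `p`-th powers of `b` and the `p^(j+1)`-th powers. -/
def V (j : ℕ) : Subring R :=
  Subring.closure (Set.range (fun y : R => y ^ p ^ (j + 1)) ∪ Set.range fun i => b i ^ p)

variable {p b}

theorem pow_mem_U (j : ℕ) (y : R) : y ^ p ^ j ∈ U p b j :=
  Subring.subset_closure (Or.inl ⟨y, rfl⟩)

theorem b_mem_U (j : ℕ) (i : ι) : b i ∈ U p b j := Subring.subset_closure (Or.inr ⟨i, rfl⟩)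

theorem U_succ_le (j : ℕ) : U p b (j + 1) ≤ U p b j := by
  refine Subring.closure_le.2 (Set.union_subset ?_ ?_)
  · rintro _ ⟨y, rfl⟩
    rw [SetLike.mem_coe]
    change y ^ p ^ (j + 1) ∈ _
    rw [pow_succ', pow_mul]
    exact pow_mem_U j _
  · rintro _ ⟨i, rfl⟩
    exact b_mem_U j i

theorem U_antitone : Antitone (U p b : ℕ → Subring R) := antitone_nat_of_succ_le U_succ_le

theorem mem_U_zero (x : R) : x ∈ U p b 0 := by simpa using pow_mem_U (p := p) (b := b) 0 x

theorem pMonomial_mem_U (j : ℕ) (e : ι →₀ ℕ) : pMonomial b e ∈ U p b j :=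
  Subring.prod_mem _ fun i _ => Subring.pow_mem _ (b_mem_U j i) _

variable [IsLocalRing R]

theorem residue_pMonomial (e : ι →₀ ℕ) :
    residue R (pMonomial b e) = pMonomial (fun i => residue R (b i)) e :=
  map_pMonomial (residue R) b e

section

variable [Fact p.Prime]

theorem charP (h : IsPLift p b) : CharP (ResidueField R) p :=
  (CharP.charP_iff_prime_eq_zero (Fact.out : p.Prime)).2
    (by rw [← map_natCast (residue R), residue_eq_zero_iff]; exact h.natCast_mem)

/-- The residue of a `p`-th power of an element of `U j` is reached from `U (j+1)`. -/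
theorem exists_residue_pow (h : IsPLift p b) {j : ℕ} {u : R} (hu : u ∈ U p b j) :
    ∃ v ∈ U p b (j + 1), residue R v = residue R u ^ p := by
  haveI := charP h
  induction hu using Subring.closure_induction with
  | mem x hx =>
    rcases hx with ⟨y, rfl⟩ | ⟨i, rfl⟩
    · refine ⟨y ^ p ^ (j + 1), pow_mem_U _ y, ?_⟩
      rw [pow_succ, pow_mul, map_pow, map_pow]
    · exact ⟨b i ^ p, Subring.pow_mem _ (b_mem_U _ i) _, map_pow _ _ _⟩
  | zero => exact ⟨0, zero_mem _, by simp [(Fact.out : p.Prime).ne_zero]⟩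
  | one => exact ⟨1, one_mem _, by simp⟩
  | add x y _ _ hx hy =>
    obtain ⟨v, hv, ev⟩ := hx
    obtain ⟨w, hw, ew⟩ := hy
    exact ⟨v + w, add_mem hv hw, by rw [map_add, map_add, ev, ew, add_pow_char]⟩
  | neg x _ hx =>
    obtain ⟨v, hv, ev⟩ := hx
    refine ⟨-v, neg_mem hv, ?_⟩
    rw [map_neg, map_neg, ev]
    exact (eq_neg_of_add_eq_zero_left (by
      rw [← add_pow_char, neg_add_cancel, zero_pow (Fact.out : p.Prime).ne_zero])).symm
  | mul x y _ _ hx hy =>
    obtain ⟨v, hv, ev⟩ := hx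
    obtain ⟨w, hw, ew⟩ := hy
    exact ⟨v * w, mul_mem hv hw, by rw [map_mul, map_mul, ev, ew, mul_pow]⟩

/-- Every `U j` reaches the whole residue field. -/
theorem exists_residue (h : IsPLift p b) (j : ℕ) (z : ResidueField R) :
    ∃ w ∈ U p b j, residue R w = z := by
  induction j generalizing z with
  | zero =>
    obtain ⟨w, rfl⟩ := residue_surjective z
    exact ⟨w, mem_U_zero w, rfl⟩
  | succ j ih =>
    obtain ⟨c, rfl⟩ := h.gen z
    choose w hw ew using fun e => ih (c e)
    choose v hv ev using fun e => exists_residue_pow h (hw e)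
    refine ⟨∑ e ∈ c.support, v e * pMonomial b e.1,
      sum_mem fun e _ => mul_mem (hv e) (pMonomial_mem_U _ _), ?_⟩
    rw [map_sum, Finsupp.sum]
    refine Finset.sum_congr rfl fun e _ => ?_
    rw [map_mul, ev, ew, residue_pMonomial]

omit [IsLocalRing R] in
/-- An element of `V j` is a `p`-th power modulo `p`. -/
theorem exists_pow_add {j : ℕ} {f : R} (hf : f ∈ V p b j) :
    ∃ g ∈ U p b j, ∃ s ∈ U p b j, f = g ^ p + (p : R) * s := by
  have hp : p.Prime := Fact.out
  induction hf using Subring.closure_induction with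
  | mem x hx =>
    rcases hx with ⟨y, rfl⟩ | ⟨i, rfl⟩
    · exact ⟨y ^ p ^ j, pow_mem_U j y, 0, zero_mem _, by rw [mul_zero, add_zero, ← pow_mul, ← pow_succ]⟩
    · exact ⟨b i, b_mem_U j i, 0, zero_mem _, by simp⟩
  | zero => exact ⟨0, zero_mem _, 0, zero_mem _, by simp [hp.ne_zero]⟩
  | one => exact ⟨1, one_mem _, 0, zero_mem _, by simp⟩
  | add x y _ _ hx hy =>
    obtain ⟨g, hg, s, hs, rfl⟩ := hx
    obtain ⟨g', hg', s', hs', rfl⟩ := hy
    obtain ⟨r, hr⟩ := exists_add_pow_prime_eq hp (⟨g, hg⟩ : U p b j) ⟨g', hg'⟩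
    have hr' : (g + g') ^ p = g ^ p + g' ^ p + (p : R) * g * g' * r := congrArg Subtype.val hr
    refine ⟨g + g', add_mem hg hg', s + s' - g * g' * r,
      sub_mem (add_mem hs hs') (mul_mem (mul_mem hg hg') r.2), ?_⟩
    rw [hr']
    ring
  | neg x _ hx =>
    obtain ⟨g, hg, s, hs, rfl⟩ := hx
    obtain ⟨r, hr⟩ := exists_add_pow_prime_eq hp (⟨g, hg⟩ : U p b j) ⟨-g, neg_mem hg⟩
    have hr' : (g + -g) ^ p = g ^ p + (-g) ^ p + (p : R) * g * (-g) * r := congrArg Subtype.val hr
    rw [add_neg_cancel, zero_pow hp.ne_zero] at hr'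
    refine ⟨-g, neg_mem hg, g * (-g) * r - s,
      sub_mem (mul_mem (mul_mem hg (neg_mem hg)) r.2) hs, ?_⟩
    linear_combination hr'
  | mul x y _ _ hx hy =>
    obtain ⟨g, hg, s, hs, rfl⟩ := hx
    obtain ⟨g', hg', s', hs', rfl⟩ := hy
    refine ⟨g * g', mul_mem hg hg', g ^ p * s' + g' ^ p * s + (p : R) * s * s',
      add_mem (add_mem (mul_mem (pow_mem hg _) hs') (mul_mem (pow_mem hg' _) hs))
        (mul_mem (mul_mem (natCast_mem _ _) hs) hs'), ?_⟩
    ring

omit [IsLocalRing R] in
/-- An element of `U (j+1)` is a combination of reduced monomials with coefficients in `V j`. -/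
theorem exists_sum {j : ℕ} {x : R} (hx : x ∈ U p b (j + 1)) :
    ∃ c : Exp p ι →₀ V p b j, (c.sum fun e a => (a : R) * pMonomial b e.1) = x := by
  let cb : ι → V p b j := fun i => ⟨b i ^ p, Subring.subset_closure (Or.inr ⟨i, rfl⟩)⟩
  have h := span_monos_eq (R := V p b j) (Fact.out : p.Prime).one_lt b cb (fun _ => rfl)
  have hx' : x ∈ Algebra.adjoin (V p b j) (Set.range b) := by
    refine (Subring.closure_le (t := (Algebra.adjoin (V p b j) (Set.range b)).toSubring)).2 ?_ hx
    refine Set.union_subset ?_ Algebra.subset_adjoin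
    rintro _ ⟨y, rfl⟩
    exact Subalgebra.algebraMap_mem (Algebra.adjoin (V p b j) (Set.range b))
      (⟨y ^ p ^ (j + 1), Subring.subset_closure (Or.inl ⟨y, rfl⟩)⟩ : V p b j)
  rw [← Subalgebra.mem_toSubmodule, ← h, Finsupp.mem_span_range_iff_exists_finsupp] at hx'
  exact hx'

/-- `p * U j ⊆ p * U (j+1) + p^(i+1) * U j + m^(j+2)`, given the step `j`. -/
theorem exists_mul_step (h : IsPLift p b) {j : ℕ}
    (hj : ∀ x ∈ U p b j, x ∈ maximalIdeal R →
      ∃ u ∈ U p b j, x - (p : R) * u ∈ maximalIdeal R ^ (j + 1))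
    (i : ℕ) {u : R} (hu : u ∈ U p b j) :
    ∃ u' ∈ U p b (j + 1), ∃ v ∈ U p b j,
      (p : R) * u - (p : R) * u' - (p : R) ^ (i + 1) * v ∈ maximalIdeal R ^ (j + 2) := by
  induction i with
  | zero => exact ⟨0, zero_mem _, u, hu, by simp⟩
  | succ i ih =>
    obtain ⟨u', hu', v, hv, hd⟩ := ih
    obtain ⟨w, hw, ew⟩ := exists_residue h (j + 1) (residue R v)
    have hvw : v - w ∈ maximalIdeal R := by
      rw [← residue_eq_zero_iff, map_sub, ew, sub_self]
    obtain ⟨v', hv', hd'⟩ := hj _ (sub_mem hv (U_succ_le j hw)) hvw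
    refine ⟨u' + (p : R) ^ i * w, add_mem hu' (mul_mem (pow_mem (natCast_mem _ _) _) hw), v', hv', ?_⟩
    have hmul : (p : R) ^ (i + 1) * (v - w - (p : R) * v') ∈ maximalIdeal R ^ (j + 2) := by
      rw [pow_succ' (p : R) i, mul_assoc, pow_succ' (maximalIdeal R) (j + 1)]
      exact Ideal.mul_mem_mul h.natCast_mem (Ideal.mul_mem_left _ _ hd')
    convert add_mem hd hmul using 1
    ring

/-- The key inclusion `U j ∩ m ⊆ p * U j + m^(j+1)`. -/
theorem exists_eq_mul_add (h : IsPLift p b) :
    ∀ (j : ℕ), ∀ x ∈ U p b j, x ∈ maximalIdeal R →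
      ∃ u ∈ U p b j, x - (p : R) * u ∈ maximalIdeal R ^ (j + 1)
  | 0, x, _, hx => ⟨0, zero_mem _, by simpa using hx⟩
  | j + 1, x, hxU, hx => by
    have hp : p.Prime := Fact.out
    haveI := charP h
    have ih := exists_eq_mul_add h j
    obtain ⟨c, hc⟩ := exists_sum hxU
    choose g hg s hs hf using fun e => exists_pow_add (c e).2
    -- the coefficients are `p`-th powers of elements of the maximal ideal, modulo `p`
    have hgm : ∀ e ∈ c.support, g e ∈ maximalIdeal R := by
      classical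
      let d : Exp p ι →₀ ResidueField R :=
        Finsupp.onFinset c.support (fun e => if e ∈ c.support then residue R (g e) else 0)
          fun e he => by
            by_contra hn
            exact he (if_neg hn)
      have hd0 : d = 0 := h.indep d (by
        rw [Finsupp.onFinset_sum _ fun e => by simp [hp.ne_zero]]
        rw [Finsupp.sum] at hc
        have := congrArg (residue R) hc
        rw [map_sum, (residue_eq_zero_iff x).2 hx] at this
        refine Eq.trans (Finset.sum_congr rfl fun e he => ?_) this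
        rw [if_pos he, hf e, map_mul, map_add, map_mul, map_natCast, CharP.cast_eq_zero,
          zero_mul, add_zero, map_pow, residue_pMonomial])
      intro e he
      rw [← residue_eq_zero_iff]
      have := DFunLike.congr_fun hd0 e
      simp only [d, Finsupp.onFinset_apply, Finsupp.zero_apply, if_pos he] at this
      exact this
    have hterm : ∀ e ∈ c.support, ∃ v ∈ U p b j,
        (c e : R) * pMonomial b e.1 - (p : R) * v ∈ maximalIdeal R ^ (j + 2) := by
      intro e he
      obtain ⟨v, hv, hd⟩ := ih _ (hg e) (hgm e he)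
      refine ⟨(g e ^ (p - 1) * v + s e) * pMonomial b e.1,
        mul_mem (add_mem (mul_mem (pow_mem (hg e) _) hv) (hs e)) (pMonomial_mem_U _ _), ?_⟩
      have h1 : g e ^ (p - 1) * (g e - (p : R) * v) ∈ maximalIdeal R ^ (j + 2) := by
        rw [pow_succ' _ (j + 1)]
        exact Ideal.mul_mem_mul (Ideal.pow_mem_of_mem _ (hgm e he) _ (by have := hp.two_le; omega)) hd
      convert Ideal.mul_mem_right (pMonomial b e.1) _ h1 using 1
      rw [hf e, mul_sub (g e ^ (p - 1)), pow_sub_one_mul hp.ne_zero]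
      ring
    choose v hv hd using hterm
    obtain ⟨u', hu', w, -, hd'⟩ := exists_mul_step h ih (j + 1)
      (u := ∑ e : c.support, v e.1 e.2) (sum_mem fun e _ => hv e.1 e.2)
    refine ⟨u', hu', ?_⟩
    have h1 : x - (p : R) * ∑ e : c.support, v e.1 e.2 ∈ maximalIdeal R ^ (j + 2) := by
      rw [← hc, Finsupp.sum, ← Finset.sum_coe_sort, Finset.mul_sum, ← Finset.sum_sub_distrib]
      exact sum_mem fun e _ => hd e.1 e.2
    have h2 : (p : R) ^ (j + 1 + 1) * w ∈ maximalIdeal R ^ (j + 2) :=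
      Ideal.mul_mem_right _ _ (Ideal.pow_mem_pow h.natCast_mem _)
    convert add_mem (add_mem h1 hd') h2 using 1
    ring

/-- Elements of `U j` lift to `U (j+1)` modulo `m^(j+1)`. -/
theorem exists_succ (h : IsPLift p b) {j : ℕ} {v : R} (hv : v ∈ U p b j) :
    ∃ v' ∈ U p b (j + 1), v - v' ∈ maximalIdeal R ^ (j + 1) := by
  obtain ⟨w, hw, ew⟩ := exists_residue h (j + 1) (residue R v)
  have hvw : v - w ∈ maximalIdeal R := by rw [← residue_eq_zero_iff, map_sub, ew, sub_self]
  obtain ⟨u, hu, hd⟩ := exists_eq_mul_add h j _ (sub_mem hv (U_succ_le j hw)) hvw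
  obtain ⟨u', hu', z, -, hd'⟩ := exists_mul_step h (exists_eq_mul_add h j) (j + 1) hu
  refine ⟨w + (p : R) * u', add_mem hw (mul_mem (natCast_mem _ _) hu'), ?_⟩
  have h2 : (p : R) ^ (j + 1 + 1) * z ∈ maximalIdeal R ^ (j + 2) :=
    Ideal.mul_mem_right _ _ (Ideal.pow_mem_pow h.natCast_mem _)
  convert add_mem hd (Ideal.pow_le_pow_right (show j + 1 ≤ j + 2 by omega) (add_mem hd' h2)) using 1
  ring

end

end Groth.Agent.Lib.Cohen.Powers
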