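import Groth.Agent.Lib.Cohen.NagataLocal

/-!
# Birational monogenic extensions of Nagata normal local domains are analytically unramified
-/

set_option linter.style.haveILetI false

universe u

open scoped TensorProduct
open IsLocalRing Groth.Agent.Lib.Cohen.NagataUnramified

namespace Groth.Agent.Lib.Cohen.Principal

theorem isLocalizedModule_quotient {B : Type u} [CommRing B] (S : Submonoid B) (S' : Type u)
    [CommRing S'] [Algebra B S'] [IsLocalization S S'] (ξ : B) :
    IsLocalizedModule S ((Ideal.quotientMapₐ (Ideal.span {algebraMap B S' ξ}) (Algebra.ofId B S')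
      (I := Ideal.span {ξ}) (by
        rw [Ideal.span_singleton_le_iff_mem]
        exact Ideal.mem_span_singleton_self _)).toLinearMap) := by
  have h0 : Submodule.localized' S' S (Algebra.linearMap B S') (Ideal.span {ξ}) =
      Ideal.span {algebraMap B S' ξ} := by
    rw [Ideal.localized'_eq_map, Ideal.map_span, Set.image_singleton]
  have h1 : IsLocalizedModule S
      (((Ideal.span {ξ}).toLocalizedQuotient' S' S (Algebra.linearMap B S'))) := inferInstance
  rw [show (Ideal.quotientMapₐ (Ideal.span {algebraMap B S' ξ}) (Algebra.ofId B S')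
      (I := Ideal.span {ξ}) _).toLinearMap =
      ((Submodule.quotEquivOfEq _ _ h0).restrictScalars B).toLinearMap ∘ₗ
        ((Ideal.span {ξ}).toLocalizedQuotient' S' S (Algebra.linearMap B S')) from
    LinearMap.ext fun m => by
      obtain ⟨m, rfl⟩ := Ideal.Quotient.mk_surjective m
      rfl]
  exact IsLocalizedModule.of_linearEquiv _ _ _

/-- Surjectivity onto a localization from surjectivity below. -/
theorem surjective_localization_quotient {R B : Type u} [CommRing R] [IsLocalRing R] [CommRing B]
    [Algebra R B] (M : Ideal B) [M.IsPrime] (hMR : M.comap (algebraMap R B) = maximalIdeal R)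
    {C : Type u} [CommRing C] (φ : Localization.AtPrime M →+* C) (hφ : Function.Surjective φ)
    (hsurj : ∀ g : B, ∃ r : R, φ (algebraMap B _ g) = φ (algebraMap B _ (algebraMap R B r)))
    (hM : ∀ g ∈ M, ¬IsUnit (φ (algebraMap B _ g))) :
    Function.Surjective fun r : R => φ (algebraMap B _ (algebraMap R B r)) := by
  intro z
  obtain ⟨z, rfl⟩ := hφ z
  obtain ⟨g, u, rfl⟩ := IsLocalization.exists_mk'_eq M.primeCompl z
  obtain ⟨r, hr⟩ := hsurj g
  obtain ⟨t, ht⟩ := hsurj (u : B)
  have htu : IsUnit t := by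
    by_contra hn
    have h1 : algebraMap R B t ∈ M := by
      rw [← Ideal.mem_comap, hMR]
      exact (mem_maximalIdeal t).2 hn
    exact hM _ h1 (ht ▸ (IsLocalization.map_units _ u).map φ)
  obtain ⟨t', htt'⟩ := isUnit_iff_exists_inv.1 htu
  refine ⟨r * t', ?_⟩
  have hu := congrArg φ (IsLocalization.mk'_spec (Localization.AtPrime M) g u)
  rw [map_mul, hr, ht] at hu
  change φ (algebraMap B _ (algebraMap R B (r * t'))) = _
  have h2 : φ (algebraMap B _ (algebraMap R B t)) * φ (algebraMap B _ (algebraMap R B t')) = 1 := by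
    rw [← map_mul φ, ← map_mul (algebraMap B _), ← map_mul (algebraMap R B), htt', map_one, map_one,
      map_one]
  rw [map_mul, map_mul, map_mul, ← hu, mul_assoc, h2, mul_one]

/-- If `x = a / b` is a root of `f`, then `a` divides `f(0) b`. -/
theorem dvd_coeff_zero_mul {R : Type u} [CommRing R] [IsDomain R] [IsIntegrallyClosed R]
    {K : Type u} [Field K] [Algebra R K] [IsFractionRing R K] {x : K} {a b : R}
    (hxb : x * algebraMap R K b = algebraMap R K a) :
    ∀ f : Polynomial R, Polynomial.aeval x f = 0 → a ∣ f.coeff 0 * b := by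
  intro f hf
  induction hn : f.natDegree using Nat.strong_induction_on generalizing f with
  | _ n ih =>
  rcases Nat.eq_zero_or_pos n with rfl | hpos
  · rw [Polynomial.eq_C_of_natDegree_eq_zero hn, Polynomial.aeval_C,
      map_eq_zero_iff _ (IsFractionRing.injective R K)] at hf
    rw [hf, zero_mul]; exact dvd_zero a
  -- the leading coefficient times `x` is integral, so lies in `R`
  have hint : IsIntegral R (f.leadingCoeff • x) := isIntegral_leadingCoeff_smul f x hf
  obtain ⟨r, hr⟩ := IsIntegrallyClosed.isIntegral_iff.1 hint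
  let f' := f - (Polynomial.C f.leadingCoeff * Polynomial.X - Polynomial.C r) * Polynomial.X ^ (n - 1)
  have hf' : Polynomial.aeval x f' = 0 := by
    simp only [f', map_sub, map_mul, map_pow, hf, Polynomial.aeval_C, Polynomial.aeval_X]
    rw [← Algebra.smul_def, hr, sub_self, zero_mul, sub_zero]
  have hcoeff : ∀ i, f'.coeff i = f.coeff i - ((if i = n then f.leadingCoeff else 0) -
      (if i = n - 1 then r else 0)) := by
    intro i
    simp only [f', sub_mul, mul_assoc, ← pow_succ', Nat.sub_add_cancel hpos, Polynomial.coeff_sub,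
      Polynomial.coeff_C_mul, Polynomial.coeff_X_pow]
    simp [mul_ite]
  have hdeg : f'.natDegree < n := by
    refine lt_of_le_of_lt (Polynomial.natDegree_le_iff_coeff_eq_zero.2 fun i hi => ?_)
      (show n - 1 < n by omega)
    rw [hcoeff, if_neg (by omega : ¬ i = n - 1)]
    rcases eq_or_ne i n with rfl | hin
    · rw [if_pos rfl, sub_zero, ← hn]; exact sub_self _
    · rw [if_neg hin, Polynomial.coeff_eq_zero_of_natDegree_lt (by omega), sub_zero, sub_zero]
  have h2 := ih _ hdeg f' hf' rfl
  rw [hcoeff, if_neg (by omega : ¬ 0 = n)] at h2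
  by_cases h1 : 0 = n - 1
  · rw [if_pos h1, zero_sub, sub_neg_eq_add, add_mul] at h2
    have hra : r * b = f.leadingCoeff * a := IsFractionRing.injective R K (by
      rw [map_mul, hr, Algebra.smul_def, mul_assoc, hxb, ← map_mul])
    rw [hra] at h2
    exact (dvd_add_left (dvd_mul_left a _)).1 h2
  · rw [if_neg h1, sub_zero, sub_zero] at h2
    exact h2

/-- The contraction of the ideal generated by `x = a / b` is `(a) : b`. -/
theorem exists_eq_mul_iff {R : Type u} [CommRing R] [IsDomain R] [IsIntegrallyClosed R]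
    {K : Type u} [Field K] [Algebra R K] [IsFractionRing R K] {x : K} {a b : R}
    (hbK : algebraMap R K b ≠ 0) (hxb : x * algebraMap R K b = algebraMap R K a)
    (B : Subalgebra R K) (hB : B = Algebra.adjoin R {x}) (hxB : x ∈ B) :
    ∀ r : R, (∃ h : B, algebraMap R B r = ⟨x, hxB⟩ * h) ↔ a ∣ r * b := by
  intro r
  constructor
  · rintro ⟨⟨h, hh⟩, e⟩
    obtain ⟨g, rfl⟩ := ((hB.trans (Algebra.adjoin_singleton_eq_range_aeval R x)) ▸ hh :
      h ∈ (Polynomial.aeval (R := R) x).range)
    have e' : algebraMap R K r = x * Polynomial.aeval x g := congrArg Subtype.val e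
    have := dvd_coeff_zero_mul hxb (Polynomial.X * g - Polynomial.C r) (by
      rw [map_sub, map_mul, Polynomial.aeval_X, Polynomial.aeval_C, e']
      exact sub_self _)
    rwa [Polynomial.coeff_sub, Polynomial.mul_coeff_zero, Polynomial.coeff_X_zero, zero_mul,
      Polynomial.coeff_C_zero, zero_sub, neg_mul, dvd_neg] at this
  · rintro ⟨d, hd⟩
    refine ⟨algebraMap R B d, Subtype.ext ?_⟩
    change algebraMap R K r = x * algebraMap R K d
    refine mul_right_cancel₀ hbK ?_
    rw [← map_mul, hd, map_mul, ← hxb]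
    ring

theorem eq_zero_of_forall_pow_dvd {A : Type u} [CommRing A] [IsLocalRing A] [IsNoetherianRing A]
    {ξ : A} (hξm : ξ ∈ maximalIdeal A) (z : AdicCompletion (maximalIdeal A) A)
    (hz : ∀ n, algebraMap A (AdicCompletion (maximalIdeal A) A) ξ ^ n ∣ z) : z = 0 := by
  let T := AdicCompletion (maximalIdeal A) A
  have hle : Ideal.span {algebraMap A T ξ} ≤ (⊥ : Ideal T).jacobson := by
    rw [jacobson_eq_maximalIdeal ⊥ bot_ne_top, Ideal.span_singleton_le_iff_mem,
      AdicCompletion.maximalIdeal_eq_map]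
    exact Ideal.mem_map_of_mem _ hξm
  refine (IsHausdorff.of_le_jacobson (Ideal.span {algebraMap A T ξ}) T hle).haus' z fun n => ?_
  rw [SModEq.sub_mem, sub_zero, smul_eq_mul, Ideal.mul_top, Ideal.span_singleton_pow,
    Ideal.mem_span_singleton]
  exact hz n

theorem comap_mem_associatedPrimes {B : Type u} [CommRing B] [IsNoetherianRing B] (S : Submonoid B)
    {S' : Type u} [CommRing S'] [Algebra B S'] [IsLocalization S S'] {ξ : B} {Q' : Ideal S'}
    (hQ' : Q' ∈ associatedPrimes S' (S' ⧸ Ideal.span {algebraMap B S' ξ})) :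
    Q'.comap (algebraMap B S') ∈ associatedPrimes B (B ⧸ Ideal.span {ξ}) := by
  haveI := isLocalizedModule_quotient S S' ξ
  exact Module.associatedPrimes.comap_mem_associatedPrimes_of_mem_associatedPrimes_of_isLocalizedModule_of_fg
    S (Ideal.quotientMapₐ (Ideal.span {algebraMap B S' ξ}) (Algebra.ofId B S')
    (I := Ideal.span {ξ}) ((Ideal.span_singleton_le_iff_mem _).2
      (Ideal.mem_span_singleton_self _))).toLinearMap Q' hQ' (IsNoetherian.noetherian _)

/-- An associated prime of `B/(X)` contracts to `(a) : r b`. -/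
theorem exists_colon {R B : Type u} [CommRing R] [CommRing B] [Algebra R B] {X : B} {a b : R}
    (hdec : ∀ g : B, ∃ (r : R) (h : B), g = algebraMap R B r + X * h)
    (hI : ∀ r : R, (∃ h : B, algebraMap R B r = X * h) ↔ a ∣ r * b)
    {Q : Ideal B} (hQass : Q ∈ associatedPrimes B (B ⧸ Ideal.span {X})) [IsNoetherianRing B] :
    ∃ r : R, ∀ α : R, α ∈ Q.comap (algebraMap R B) ↔ a ∣ α * r * b := by
  obtain ⟨-, y, hy⟩ := isAssociatedPrime_iff.mp hQass
  obtain ⟨y, rfl⟩ := Ideal.Quotient.mk_surjective y
  obtain ⟨r, h, rfl⟩ := hdec y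
  refine ⟨r, fun α => ?_⟩
  have e1 : α ∈ Q.comap (algebraMap R B) ↔ algebraMap R B α ∈ Q := Iff.rfl
  rw [e1, hy, Submodule.mem_colon_singleton, Submodule.mem_bot, Algebra.smul_def,
    Ideal.Quotient.algebraMap_eq, ← map_mul, Ideal.Quotient.eq_zero_iff_mem, mul_add,
    ← mul_assoc, mul_comm (algebraMap R B α) X, mul_assoc,
    Ideal.add_mem_iff_left _ (Ideal.mul_mem_right _ _ (Ideal.mem_span_singleton_self X)),
    ← map_mul, Ideal.mem_span_singleton]
  exact hI (α * r)

/-- Uniformizers at associated primes of `X = a / b`. -/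
theorem hasUnif_of_colon {R : Type u} [CommRing R] [IsDomain R] [IsNoetherianRing R]
    [IsIntegrallyClosed R] {B : Type u} [CommRing B] [IsDomain B] [Algebra R B]
    (hinjB : Function.Injective (algebraMap R B)) {X : B} {a b r : R} (ha0 : a ≠ 0)
    (hbB : algebraMap R B b ≠ 0) (hXb : X * algebraMap R B b = algebraMap R B a)
    (hdec : ∀ g : B, ∃ (r : R) (h : B), g = algebraMap R B r + X * h)
    (M : Ideal B) [M.IsPrime] (Q' : Ideal (Localization.AtPrime M)) [Q'.IsPrime]
    (hXQ : X ∈ Q'.comap (algebraMap B (Localization.AtPrime M)))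
    (hr : ∀ α : R, α ∈ (Q'.comap (algebraMap B (Localization.AtPrime M))).comap (algebraMap R B) ↔
      a ∣ α * r * b) :
    HasUnif (algebraMap B (Localization.AtPrime M) X) Q' := by
  let BM := Localization.AtPrime M
  let Q := Q'.comap (algebraMap B BM)
  haveI : Q.IsPrime := Ideal.IsPrime.comap _
  let P := Q.comap (algebraMap R B)
  haveI : P.IsPrime := Ideal.IsPrime.comap _
  have hPass : P ∈ associatedPrimes R (R ⧸ Ideal.span {a}) := by
    refine isAssociatedPrime_iff.mpr ⟨inferInstance, Ideal.Quotient.mk _ (r * b), ?_⟩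
    ext α
    rw [hr, Submodule.mem_colon_singleton, Submodule.mem_bot, Algebra.smul_def,
      Ideal.Quotient.algebraMap_eq, ← map_mul, Ideal.Quotient.eq_zero_iff_mem,
      Ideal.mem_span_singleton, mul_assoc]
  obtain ⟨π, hπP, hπ0, ⟨s, hsP, hs⟩, e, v, hv, hve⟩ := hasUnif_of_normal ha0 hPass
  obtain ⟨c₁, hc₁⟩ := (hr π).1 hπP
  have hc₁P : c₁ ∉ P := by
    intro hc
    obtain ⟨c₂, hc₂⟩ := hs c₁ hc
    refine hsP ((hr s).2 ⟨c₂, mul_left_cancel₀ hπ0 ?_⟩)
    calc π * (s * r * b) = s * (π * r * b) := by ring
      _ = a * (s * c₁) := by rw [hc₁]; ring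
      _ = π * (a * c₂) := by rw [hc₂]; ring
  have hc₁x : algebraMap R B c₁ * X = algebraMap R B (π * r) := by
    refine mul_right_cancel₀ hbB ?_
    rw [mul_assoc, hXb, ← map_mul, ← map_mul, hc₁, mul_comm]
  have hmem : ∀ α : R, algebraMap B BM (algebraMap R B α) ∈ Q' ↔ α ∈ P := fun _ => Iff.rfl
  refine ⟨algebraMap B BM (algebraMap R B π), (hmem π).2 hπP, ?_, ⟨algebraMap B BM (algebraMap R B (s * c₁)),
    fun h => ((inferInstance : P.IsPrime).mem_or_mem ((hmem _).1 h)).elim hsP hc₁P, fun g' hg' => ?_⟩,
    e, algebraMap B BM (algebraMap R B v), fun h => hv ((hmem v).1 h), ?_⟩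
  · exact fun h0 => hπ0 (hinjB ((IsLocalization.injective BM M.primeCompl_le_nonZeroDivisors
      (h0.trans (map_zero _).symm)).trans (map_zero _).symm))
  · obtain ⟨g, u, rfl⟩ := IsLocalization.exists_mk'_eq M.primeCompl g'
    rw [IsLocalization.mk'_mem_iff] at hg'
    have hgQ : g ∈ Q := hg'
    obtain ⟨q, h, rfl⟩ := hdec g
    have hqP : q ∈ P := (Q.add_mem_iff_left (Q.mul_mem_right h hXQ)).1 hgQ
    obtain ⟨d, hd⟩ := hs q hqP
    rw [IsLocalization.mul_mk'_eq_mk'_of_mul, IsLocalization.mk'_eq_mul_mk'_one]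
    refine dvd_mul_of_dvd_left (map_dvd _ ⟨algebraMap R B (c₁ * d) + algebraMap R B (s * r) * h, ?_⟩) _
    calc algebraMap R B (s * c₁) * (algebraMap R B q + X * h)
        = algebraMap R B c₁ * algebraMap R B (s * q) + algebraMap R B s * (algebraMap R B c₁ * X) * h := by
          simp only [map_mul]; ring
      _ = _ := by rw [hd, hc₁x]; simp only [map_mul]; ring
  · obtain ⟨d, hd⟩ := hve
    rw [← map_pow, ← map_pow, ← map_mul, ← map_mul]
    refine map_dvd _ ⟨algebraMap R B (b * d), ?_⟩
    rw [hd, map_mul, map_mul, ← hXb, mul_assoc]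

/-- Reducedness of the completed fibres. -/
theorem isReduced_fibre (R : Type u) [CommRing R] [IsLocalRing R] [IsNoetherianRing R]
    (hR : CAlg.IsNagata R) {B : Type u} [CommRing B] [IsNoetherianRing B] [Algebra R B] {X : B}
    (hdec : ∀ g : B, ∃ (r : R) (h : B), g = algebraMap R B r + X * h)
    (M : Ideal B) [M.IsPrime] (hMR : M.comap (algebraMap R B) = maximalIdeal R)
    (Q' : Ideal (Localization.AtPrime M)) [hQ' : Q'.IsPrime]
    (hξQ' : algebraMap B (Localization.AtPrime M) X ∈ Q') :
    IsReduced (AdicCompletion (maximalIdeal (Localization.AtPrime M)) (Localization.AtPrime M) ⧸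
      Q'.map (algebraMap (Localization.AtPrime M)
        (AdicCompletion (maximalIdeal (Localization.AtPrime M)) (Localization.AtPrime M)))) := by
  let BM := Localization.AtPrime M
  let T := AdicCompletion (maximalIdeal BM) BM
  let C := BM ⧸ Q'
  haveI : IsDomain C := Ideal.Quotient.isDomain Q'
  haveI : IsLocalRing C := IsLocalRing.of_surjective' _ Ideal.Quotient.mk_surjective
  have hs := surjective_localization_quotient M hMR (Ideal.Quotient.mk Q') Ideal.Quotient.mk_surjective
    (fun g => by
      obtain ⟨q, h, rfl⟩ := hdec g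
      refine ⟨q, Ideal.Quotient.eq.2 ?_⟩
      rw [map_add, add_sub_cancel_left, map_mul]
      exact Ideal.mul_mem_right _ _ hξQ')
    (fun g hg hu => by
      obtain ⟨w, hw⟩ := isUnit_iff_exists_inv.1 hu
      obtain ⟨w, rfl⟩ := Ideal.Quotient.mk_surjective w
      rw [← map_mul, ← map_one (Ideal.Quotient.mk Q'), Ideal.Quotient.eq] at hw
      refine (maximalIdeal.isMaximal BM).ne_top ((Ideal.eq_top_iff_one _).2 ?_)
      convert sub_mem (Ideal.mul_mem_right w _
        ((IsLocalization.AtPrime.to_map_mem_maximal_iff BM M g).2 hg))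
        (IsLocalRing.le_maximalIdeal (hQ'.ne_top) hw) using 1
      ring)
  have hsC : Function.Surjective (algebraMap R C) := hs
  haveI : Module.Finite R C := Module.Finite.of_surjective (Algebra.linearMap R C) hsC
  haveI := isReduced_tensor_of_isNagata R hR C
  let e₁ := Algebra.TensorProduct.quotIdealMapEquivTensorQuot T Q'
  let e₂ := (Algebra.TensorProduct.comm BM T C).toRingEquiv.trans
    (Groth.Agent.Lib.Excellent.CompletionFinite.completionEquiv (maximalIdeal BM) C).toRingEquiv
  have hideal : (maximalIdeal BM).map (algebraMap BM C) = (maximalIdeal R).map (algebraMap R C) :=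
    (IsLocalRing.map_maximalIdeal_of_surjective _ Ideal.Quotient.mk_surjective).trans
      (IsLocalRing.map_maximalIdeal_of_surjective _ hsC).symm
  let e₃ := (Groth.Agent.Lib.Excellent.CompletionFinite.completionEquiv (maximalIdeal R) C).toRingEquiv.symm
  haveI : IsReduced (AdicCompletion ((maximalIdeal BM).map (algebraMap BM C)) C) := by
    rw [hideal]
    exact isReduced_of_injective e₃ e₃.injective
  exact isReduced_of_injective (e₁.toRingEquiv.trans e₂) (RingEquiv.injective _)


/-- The principal case. -/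
theorem isReduced_completion (R : Type u) [CommRing R] [IsDomain R] [IsLocalRing R]
    [IsNoetherianRing R] [IsIntegrallyClosed R] (hR : CAlg.IsNagata R) (K : Type u) [Field K]
    [Algebra R K] [IsFractionRing R K] (x : K) (B : Subalgebra R K)
    (hB : B = Algebra.adjoin R {x}) (M : Ideal B) [M.IsPrime] (hxB : x ∈ B)
    (hxM : (⟨x, hxB⟩ : B) ∈ M) (hMR : M.comap (algebraMap R B) = maximalIdeal R) :
    IsReduced (AdicCompletion (maximalIdeal (Localization.AtPrime M)) (Localization.AtPrime M)) := by
  classical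
  let X : B := ⟨x, hxB⟩
  let BM := Localization.AtPrime M
  haveI : IsNoetherianRing B := by
    haveI : Algebra.FiniteType R B := by
      rw [← Subalgebra.fg_iff_finiteType]
      exact ⟨{x}, by rw [Finset.coe_singleton, hB]⟩
    exact Algebra.FiniteType.isNoetherianRing R B
  haveI : IsDomain BM := IsLocalization.isDomain_localization M.primeCompl_le_nonZeroDivisors
  have hinjB : Function.Injective (algebraMap R B) := fun a b h =>
    IsFractionRing.injective R K (congrArg Subtype.val h)
  -- every element is a constant plus a multiple of `X`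
  have hdec : ∀ g : B, ∃ (r : R) (h : B), g = algebraMap R B r + X * h := by
    rintro ⟨g, hg⟩
    obtain ⟨f, rfl⟩ := ((hB.trans (Algebra.adjoin_singleton_eq_range_aeval R x)) ▸ hg :
      g ∈ (Polynomial.aeval (R := R) x).range)
    refine ⟨f.coeff 0, Polynomial.aeval X f.divX, Subtype.ext ?_⟩
    change Polynomial.aeval x f = algebraMap R K (f.coeff 0) + x * B.val (Polynomial.aeval X f.divX)
    rw [← Polynomial.aeval_algHom_apply]
    conv_lhs => rw [← Polynomial.X_mul_divX_add f, map_add, map_mul, Polynomial.aeval_X,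
      Polynomial.aeval_C]
    rw [add_comm]
    rfl
  by_cases hx0 : x = 0
  · have hX0 : X = 0 := Subtype.ext hx0
    have hs := surjective_localization_quotient M hMR (RingHom.id BM) Function.surjective_id
      (fun g => by
        obtain ⟨r, h, rfl⟩ := hdec g
        exact ⟨r, by rw [hX0, zero_mul, add_zero]⟩)
      (fun g hg hu => (IsLocalization.AtPrime.isUnit_to_map_iff BM M g).1 hu hg)
    haveI : Module.Finite R BM := Module.Finite.of_surjective (Algebra.linearMap R BM) hs
    exact Groth.Agent.Lib.Cohen.NagataLocal.isReduced_completion_of_finite R hR BM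
  obtain ⟨a, b, hb0, hab⟩ := IsFractionRing.div_surjective R x
  have hbK : algebraMap R K b ≠ 0 := IsFractionRing.to_map_ne_zero_of_mem_nonZeroDivisors hb0
  have hxb : x * algebraMap R K b = algebraMap R K a := by rw [← hab, div_mul_cancel₀ _ hbK]
  have ha0 : a ≠ 0 := fun h => hx0 (by rw [← hab, h, map_zero, zero_div])
  -- the kernel of `R → B/(X)` is `(a) : b`
  have hI := exists_eq_mul_iff hbK hxb B hB hxB
  -- apply the principal step
  let T := AdicCompletion (maximalIdeal BM) BM
  let ξ : BM := algebraMap B BM X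
  have hξ : ξ ≠ 0 := fun h => hx0 (congrArg Subtype.val
    (IsLocalization.injective BM M.primeCompl_le_nonZeroDivisors (h.trans (map_zero _).symm)))
  have hξm : ξ ∈ maximalIdeal BM := (IsLocalization.AtPrime.to_map_mem_maximal_iff BM M X).2 hxM
  refine isReduced_of_unif (B := BM) T hξ (eq_zero_of_forall_pow_dvd hξm) fun Q' hQ' => ?_
  haveI := hQ'.isPrime
  have hξQ' : ξ ∈ Q' := mem_of_mem_associatedPrimes hQ'
  obtain ⟨r, hr⟩ := exists_colon hdec hI (comap_mem_associatedPrimes M.primeCompl hQ')
  exact ⟨hasUnif_of_colon hinjB ha0 (fun h => hbK (congrArg Subtype.val h)) (Subtype.ext hxb) hdec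
    M Q' hξQ' hr, isReduced_fibre R hR hdec M hMR Q' hξQ'⟩

end Groth.Agent.Lib.Cohen.Principal
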