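import Groth.Agent.Lib.Cohen.Powers
import Groth.Prelude.Def_Found
import Mathlib.RingTheory.DiscreteValuationRing.Basic
import Mathlib.RingTheory.AdicCompletion.Basic

/-!
# The Cohen subring of a complete local ring

For a complete local ring `R` with a lift `b` of a p-basis of the residue field, the closure `Λ` of
the compatible system of subrings `U j`. When `R` maps to a ring `W` in which `p` is regular and
generates the pullback of the maximal ideal, `Λ` is a Cohen ring with the residue field of `R`.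
-/

universe u

open IsLocalRing Groth.Agent.Lib.Cohen.Powers

namespace Groth.Agent.Lib.Cohen.Subring

variable {R : Type u} [CommRing R] [IsLocalRing R] (p : ℕ) {ι : Type u} (b : ι → R)

/-- The elements congruent to an element of `U n` modulo `m^(n+1)` for all `n`. -/
def Lam : _root_.Subring R :=
  ⨅ n, ((U p b n).map (Ideal.Quotient.mk (maximalIdeal R ^ (n + 1)))).comap
    (Ideal.Quotient.mk (maximalIdeal R ^ (n + 1)))

variable {p b}

theorem mem_Lam_iff {x : R} :
    x ∈ Lam p b ↔ ∀ n, ∃ u ∈ U p b n, x - u ∈ maximalIdeal R ^ (n + 1) := by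
  simp only [Lam, _root_.Subring.mem_iInf, _root_.Subring.mem_comap, _root_.Subring.mem_map]
  refine forall_congr' fun n => exists_congr fun u => and_congr_right fun _ => ?_
  rw [eq_comm, Ideal.Quotient.mk_eq_mk_iff_sub_mem]

variable [Fact p.Prime] [IsAdicComplete (maximalIdeal R) R]

omit [Fact p.Prime] in
/-- Limits of Cauchy sequences. -/
theorem exists_limit (f : ℕ → R) (hf : ∀ n, f (n + 1) - f n ∈ maximalIdeal R ^ n) :
    ∃ L : R, ∀ n, L - f n ∈ maximalIdeal R ^ n := by
  have hmono : ∀ {m n}, m ≤ n → f n - f m ∈ maximalIdeal R ^ m := by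
    intro m n hmn
    induction n, hmn using Nat.le_induction with
    | base => simp
    | succ n hn ih =>
      convert add_mem (Ideal.pow_le_pow_right hn (hf n)) ih using 1
      ring
  obtain ⟨L, hL⟩ := IsPrecomplete.prec (I := maximalIdeal R) (M := R) inferInstance (f := f)
    (fun {m n} hmn => by
      rw [SModEq.sub_mem, smul_eq_mul, Ideal.mul_top, ← neg_sub]
      exact neg_mem (hmono hmn))
  refine ⟨L, fun n => ?_⟩
  have := hL n
  rw [SModEq.sub_mem, smul_eq_mul, Ideal.mul_top, ← neg_sub] at this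
  exact neg_mem_iff.1 this

omit [Fact p.Prime] in
theorem eq_zero_of_forall_mem_pow {x : R} (h : ∀ n, x ∈ maximalIdeal R ^ n) : x = 0 :=
  IsHausdorff.haus' (I := maximalIdeal R) x fun n => by
    rw [SModEq.sub_mem, sub_zero, smul_eq_mul, Ideal.mul_top]; exact h n

/-- Elements of `U n` lift to `Λ` modulo `m^(n+1)`. -/
theorem exists_lift (h : IsPLift p b) {n : ℕ} {v : R} (hv : v ∈ U p b n) :
    ∃ y ∈ Lam p b, v - y ∈ maximalIdeal R ^ (n + 1) := by
  have step : ∀ (j : ℕ) (z : U p b j), ∃ z' : U p b (j + 1),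
      (z : R) - (z' : R) ∈ maximalIdeal R ^ (j + 1) := fun j z => by
    obtain ⟨v', hv', hd⟩ := exists_succ h z.2
    exact ⟨⟨v', hv'⟩, hd⟩
  choose g hg using step
  let F : ∀ k, U p b (n + k) := fun k => Nat.rec ⟨v, hv⟩ (fun k z => g (n + k) z) k
  have hF : ∀ k, (F k).1 - (F (k + 1)).1 ∈ maximalIdeal R ^ (n + k + 1) := fun k => by exact hg (n + k) (F k)
  obtain ⟨L, hL⟩ := exists_limit (fun k => (F k).1) fun k => by
    rw [← neg_sub]
    exact neg_mem (Ideal.pow_le_pow_right (by omega) (hF k))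
  refine ⟨L, mem_Lam_iff.2 fun k => ⟨F (k + 1), U_antitone (by omega) (F (k + 1)).2, hL (k + 1)⟩, ?_⟩
  have h0 : ∀ k, v - (F k).1 ∈ maximalIdeal R ^ (n + 1) := by
    intro k
    induction k with
    | zero => simp [F]
    | succ k ih =>
      convert add_mem ih (Ideal.pow_le_pow_right (by omega) (hF k)) using 1
      ring
  convert sub_mem (h0 (n + 1)) (hL (n + 1)) using 1
  ring

/-- `Λ` has the residue field of `R`. -/
theorem exists_mem_residue (h : IsPLift p b) (z : ResidueField R) :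
    ∃ y ∈ Lam p b, residue R y = z := by
  obtain ⟨w, hw, rfl⟩ := exists_residue h 0 z
  obtain ⟨y, hy, hd⟩ := exists_lift h hw
  refine ⟨y, hy, ?_⟩
  rw [eq_comm, ← sub_eq_zero, ← map_sub, residue_eq_zero_iff]
  simpa using hd

/-- `Λ ∩ m` is contained in the closure of `p Λ`. -/
theorem exists_sub_mul_mem (h : IsPLift p b) {x : R} (hx : x ∈ Lam p b) (hxm : x ∈ maximalIdeal R)
    (n : ℕ) : ∃ y ∈ Lam p b, x - (p : R) * y ∈ maximalIdeal R ^ (n + 1) := by
  obtain ⟨u, hu, hd⟩ := mem_Lam_iff.1 hx n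
  have hum : u ∈ maximalIdeal R := by
    convert sub_mem hxm (Ideal.pow_le_self (Nat.succ_ne_zero n) hd) using 1
    ring
  obtain ⟨t, ht, hd'⟩ := exists_eq_mul_add h n u hu hum
  obtain ⟨y, hy, hd''⟩ := exists_lift h ht
  refine ⟨y, hy, ?_⟩
  convert add_mem (add_mem hd hd') (Ideal.mul_mem_left _ (p : R) hd'') using 1
  ring

/-- `Λ` is closed under inverses. -/
theorem exists_inv_mem (h : IsPLift p b) {x : R} (hx : x ∈ Lam p b) (hxu : x ∉ maximalIdeal R) :
    ∃ y ∈ Lam p b, x * y = 1 := by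
  obtain ⟨y, hy⟩ := isUnit_iff_exists_inv.1 (not_not.1 hxu)
  refine ⟨y, mem_Lam_iff.2 fun n => ?_, hy⟩
  obtain ⟨u, hu, hd⟩ := mem_Lam_iff.1 hx n
  obtain ⟨w, hw, ew⟩ := exists_residue h n (residue R y)
  let d := 1 - u * w
  have hdU : d ∈ U p b n := sub_mem (one_mem _) (mul_mem hu hw)
  have hdm : d ∈ maximalIdeal R := by
    have hxu' : residue R x = residue R u := by
      rw [← sub_eq_zero, ← map_sub, residue_eq_zero_iff]
      exact Ideal.pow_le_self (Nat.succ_ne_zero n) hd
    rw [← residue_eq_zero_iff]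
    simp only [d, map_sub, map_one, map_mul, ew, ← hxu']
    rw [← map_mul, hy, map_one, sub_self]
  let z := w * ∑ i ∈ Finset.range (n + 1), d ^ i
  refine ⟨z, mul_mem hw (sum_mem fun i _ => pow_mem hdU i), ?_⟩
  have hg : (1 - d) * ∑ i ∈ Finset.range (n + 1), d ^ i = 1 - d ^ (n + 1) := mul_neg_geom_sum d (n + 1)
  have huz : u * z = 1 - d ^ (n + 1) := by
    rw [← hg]
    simp only [z, d]
    ring
  have : y - z = y * (d ^ (n + 1) - (x - u) * z) := by
    linear_combination z * hy - y * huz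
  rw [this]
  exact Ideal.mul_mem_left _ _ (sub_mem (Ideal.pow_mem_pow hdm _) (Ideal.mul_mem_right _ _ hd))

section Witness

variable {W : Type u} [CommRing W] (π : R →+* W)
  (hm : ∀ x : R, x ∈ maximalIdeal R ↔ π x ∈ Ideal.span {(p : W)})
  (hreg : IsRegular (p : W))

include hm in
omit [Fact p.Prime] [IsAdicComplete (maximalIdeal R) R] in
theorem dvd_of_mem_pow {x : R} {n : ℕ} (hx : x ∈ maximalIdeal R ^ n) : (p : W) ^ n ∣ π x := by
  rw [← Ideal.mem_span_singleton, ← Ideal.span_singleton_pow]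
  have hle : (maximalIdeal R).map π ≤ Ideal.span {(p : W)} :=
    Ideal.map_le_iff_le_comap.2 fun y hy => (hm y).1 hy
  have := Ideal.mem_map_of_mem π hx
  rw [Ideal.map_pow] at this
  exact Ideal.pow_right_mono hle n this

include hm hreg in
/-- Divisibility by `p^i` in `Λ` is detected in `W`, approximately. -/
theorem mem_pow_of_dvd (h : IsPLift p b) :
    ∀ (i : ℕ), ∀ d ∈ Lam p b, (p : W) ^ i ∣ π d → d ∈ maximalIdeal R ^ i
  | 0, d, _, _ => by simp
  | i + 1, d, hd, hdvd => by
    have hdm : d ∈ maximalIdeal R := (hm d).2 (Ideal.mem_span_singleton.2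
      ((dvd_pow_self _ (Nat.succ_ne_zero i)).trans hdvd))
    obtain ⟨y, hy, hdy⟩ := exists_sub_mul_mem h hd hdm i
    have h1 : (p : W) ^ (i + 1) ∣ (p : W) * π y := by
      have := dvd_sub hdvd (dvd_of_mem_pow π hm hdy)
      rwa [map_sub, sub_sub_cancel, map_mul, map_natCast] at this
    obtain ⟨c, hc⟩ := h1
    have h2 : (p : W) ^ i ∣ π y := ⟨c, hreg.left (by
      change (p : W) * π y = (p : W) * ((p : W) ^ i * c)
      rw [hc, pow_succ']
      ring)⟩
    have h3 : (p : R) * y ∈ maximalIdeal R ^ (i + 1) := by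
      rw [pow_succ']
      exact Ideal.mul_mem_mul h.natCast_mem (mem_pow_of_dvd h i y hy h2)
    convert add_mem hdy h3 using 1
    ring

include hm hreg in
/-- `Λ ∩ m = p Λ`. -/
theorem exists_eq_mul (h : IsPLift p b) {x : R} (hx : x ∈ Lam p b) (hxm : x ∈ maximalIdeal R) :
    ∃ y ∈ Lam p b, x = (p : R) * y := by
  choose y hy hd using fun n => exists_sub_mul_mem h hx hxm n
  obtain ⟨L, hL⟩ := exists_limit y fun n => by
    refine mem_pow_of_dvd π hm hreg h n _ (sub_mem (hy (n + 1)) (hy n)) ?_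
    have h1 : (p : R) * (y (n + 1) - y n) ∈ maximalIdeal R ^ (n + 1) := by
      convert sub_mem (hd n) (Ideal.pow_le_pow_right (by omega) (hd (n + 1))) using 1
      ring
    obtain ⟨c, hc⟩ := dvd_of_mem_pow π hm h1
    refine ⟨c, hreg.left ?_⟩
    change (p : W) * π _ = (p : W) * ((p : W) ^ n * c)
    rw [← mul_assoc, ← pow_succ', ← hc, map_mul, map_natCast]
  refine ⟨L, mem_Lam_iff.2 fun n => ?_, ?_⟩
  · obtain ⟨u, hu, hdu⟩ := mem_Lam_iff.1 (hy (n + 1)) n
    refine ⟨u, hu, ?_⟩
    convert add_mem (hL (n + 1)) hdu using 1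
    ring
  · refine sub_eq_zero.1 (eq_zero_of_forall_mem_pow fun n => ?_)
    have h1 : (p : R) * (L - y n) ∈ maximalIdeal R ^ n := Ideal.mul_mem_left _ _ (hL n)
    convert sub_mem (Ideal.pow_le_pow_right (Nat.le_succ n) (hd n)) h1 using 1
    ring

include hm hreg in
/-- Divisibility by `p^i` in `Λ` is detected in `W`. -/
theorem exists_eq_pow_mul (h : IsPLift p b) :
    ∀ (i : ℕ), ∀ d ∈ Lam p b, (p : W) ^ i ∣ π d → ∃ y ∈ Lam p b, d = (p : R) ^ i * y
  | 0, d, hd, _ => ⟨d, hd, by simp⟩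
  | i + 1, d, hd, hdvd => by
    obtain ⟨y, hy, rfl⟩ := exists_eq_mul π hm hreg h hd ((hm d).2 (Ideal.mem_span_singleton.2
      ((dvd_pow_self _ (Nat.succ_ne_zero i)).trans hdvd)))
    obtain ⟨c, hc⟩ := hdvd
    rw [map_mul, map_natCast] at hc
    obtain ⟨z, hz, rfl⟩ := exists_eq_pow_mul h i y hy ⟨c, hreg.left (by
      change (p : W) * π y = (p : W) * ((p : W) ^ i * c)
      rw [hc, pow_succ']
      ring)⟩
    exact ⟨z, hz, by ring⟩

include hm hreg in
/-- `Λ` is a Cohen ring with the residue field of `R`. -/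
theorem isCohenRing (h : IsPLift p b) [IsDomain W] (hsep : ∀ w : W, (∀ n, (p : W) ^ n ∣ w) → w = 0)
    (hp0 : ¬IsUnit (p : W)) :
    CAlg.IsCohenRing (Lam p b) ∧ ∃ _ : IsLocalRing (Lam p b),
      (∀ x : Lam p b, x ∈ maximalIdeal (Lam p b) ↔ (x : R) ∈ maximalIdeal R) ∧
      Function.Surjective ((residue R).comp (Lam p b).subtype) := by
  have hp : p.Prime := Fact.out
  have hinj : Function.Injective (π.comp (Lam p b).subtype) := by
    rw [injective_iff_map_eq_zero]
    intro x hx
    refine Subtype.ext (eq_zero_of_forall_mem_pow fun n => ?_)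
    exact mem_pow_of_dvd π hm hreg h n x x.2 (by rw [show π x = 0 from hx]; exact dvd_zero _)
  haveI : IsDomain (Lam p b) := hinj.isDomain _
  set P : Lam p b := (p : Lam p b)
  have hP : (P : R) = (p : R) := rfl
  have hunit : ∀ x : Lam p b, IsUnit x ↔ (x : R) ∉ maximalIdeal R := by
    intro x
    refine ⟨fun hu hxm => hxm (hu.map (Lam p b).subtype), fun hxm => ?_⟩
    obtain ⟨y, hy, hxy⟩ := exists_inv_mem h x.2 hxm
    exact IsUnit.of_mul_eq_one (b := ⟨y, hy⟩) (Subtype.ext hxy)
  have hdvd : ∀ x : Lam p b, (x : R) ∈ maximalIdeal R → P ∣ x := by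
    intro x hx
    obtain ⟨y, hy, e⟩ := exists_eq_mul π hm hreg h x.2 hx
    exact ⟨⟨y, hy⟩, Subtype.ext e⟩
  have hdvd' : ∀ x : Lam p b, P ∣ x → (x : R) ∈ maximalIdeal R := by
    rintro _ ⟨y, rfl⟩
    exact Ideal.mul_mem_right _ _ h.natCast_mem
  have hPu : ¬IsUnit P := fun hu => (hunit P).1 hu h.natCast_mem
  have hP0 : P ≠ 0 := fun h0 => hreg.ne_zero (by
    have := congrArg (π.comp (Lam p b).subtype) h0
    rwa [map_natCast, map_zero] at this)
  have hprime : Prime P := by
    refine ⟨hP0, hPu, fun x y hxy => ?_⟩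
    exact (Ideal.IsPrime.mem_or_mem (IsLocalRing.maximalIdeal.isMaximal R).isPrime
      (hdvd' _ hxy)).imp (hdvd x) (hdvd y)
  haveI : IsDiscreteValuationRing (Lam p b) := by
    refine IsDiscreteValuationRing.ofHasUnitMulPowIrreducibleFactorization ⟨P, hprime.irreducible, fun {x} hx => ?_⟩
    have hfin : ∃ n, ¬ (p : W) ^ n ∣ π x := by
      by_contra hn
      push Not at hn
      exact hx (hinj (by rw [map_zero]; exact hsep _ hn))
    obtain ⟨n, hn⟩ := hfin
    clear hx
    induction n generalizing x with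
    | zero => exact absurd (by simp) hn
    | succ n ih =>
      by_cases hxm : (x : R) ∈ maximalIdeal R
      · obtain ⟨y, rfl⟩ := hdvd x hxm
        obtain ⟨m, u, hu⟩ := ih (x := y) fun hy => hn (by
          rw [pow_succ']
          change (p : W) * (p : W) ^ n ∣ π ((p : R) * y)
          rw [map_mul, map_natCast]
          exact mul_dvd_mul_left _ hy)
        exact ⟨m + 1, u, by rw [pow_succ, ← hu]; ring⟩
      · exact ⟨0, by rw [pow_zero]; exact (associated_one_iff_isUnit.2 ((hunit x).2 hxm)).symm⟩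
  have hmax : maximalIdeal (Lam p b) = Ideal.span {P} := by
    ext x
    rw [mem_maximalIdeal, mem_nonunits_iff, hunit, not_not, Ideal.mem_span_singleton]
    exact ⟨hdvd x, hdvd' x⟩
  have hmax' : ∀ (n : ℕ) (x : Lam p b), x ∈ maximalIdeal (Lam p b) ^ n ↔ P ^ n ∣ x := fun n x => by
    rw [hmax, Ideal.span_singleton_pow, Ideal.mem_span_singleton]
  haveI : IsAdicComplete (maximalIdeal (Lam p b)) (Lam p b) := by
    refine { haus' := fun x hx => ?_, prec' := fun f hf => ?_ }
    · refine Subtype.ext (eq_zero_of_forall_mem_pow fun n => ?_)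
      have := hx n
      rw [SModEq.sub_mem, sub_zero, smul_eq_mul, Ideal.mul_top, hmax'] at this
      obtain ⟨y, rfl⟩ := this
      exact Ideal.mul_mem_right _ _ (Ideal.pow_mem_pow h.natCast_mem n)
    · have hf' : ∀ {m n}, m ≤ n → P ^ m ∣ f m - f n := fun hmn => by
        have := hf hmn
        rwa [SModEq.sub_mem, smul_eq_mul, Ideal.mul_top, hmax'] at this
      obtain ⟨L, hL⟩ := exists_limit (fun n => (f n : R)) fun n => by
        obtain ⟨c, hc⟩ := hf' (Nat.le_succ n)
        rw [← neg_sub]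
        refine neg_mem ?_
        rw [← AddSubgroupClass.coe_sub, hc]
        exact Ideal.mul_mem_right _ _ (Ideal.pow_mem_pow h.natCast_mem n)
      have hLmem : L ∈ Lam p b := mem_Lam_iff.2 fun n => by
        obtain ⟨u, hu, hdu⟩ := mem_Lam_iff.1 (f (n + 1)).2 n
        refine ⟨u, hu, ?_⟩
        convert add_mem (hL (n + 1)) hdu using 1
        ring
      refine ⟨⟨L, hLmem⟩, fun n => ?_⟩
      rw [SModEq.sub_mem, smul_eq_mul, Ideal.mul_top, hmax']
      obtain ⟨y, hy, e⟩ := exists_eq_pow_mul π hm hreg h n _ (sub_mem (f n).2 hLmem)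
        (dvd_of_mem_pow π hm (by rw [← neg_sub]; exact neg_mem (hL n)))
      exact ⟨⟨y, hy⟩, Subtype.ext e⟩
  refine ⟨⟨inferInstance, inferInstance, inferInstance, p, hp, hmax⟩, inferInstance, ?_, ?_⟩
  · intro x
    rw [mem_maximalIdeal, mem_nonunits_iff, hunit, not_not]
  · intro z
    obtain ⟨y, hy, e⟩ := exists_mem_residue h z
    exact ⟨⟨y, hy⟩, e⟩

end Witness

end Groth.Agent.Lib.Cohen.Subring
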